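import Cfsg.Agent.Lib.Invol.S3A6.Space

/-!
Owner: helper13. A vector of the short orbit carrying a conjugate gives a conjugate outside `Q` that, with
its partner, induces even involutions of the six letters only.
-/

set_option autoImplicit false
set_option linter.unusedSectionVars false
set_option maxRecDepth 100000

namespace CfsgLib.S3A6

open Cfsg CfsgLib.ThreeTrans Equiv Model

namespace Setting

variable {G : Type*} [Group G] [Finite G] {z : G} {Q : Subgroup G} (S : Setting z Q)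
include S

namespace Start

variable {S} {k : Bool} {v : V} (h : S.Start k v)
include h

theorem pure_group {g : G} (hg : S.Carries g) (hpt : S.pt g = S.ev v 17) :
    ∀ e ∈ normalFour k, ∃ b ∈ S.KE g, h.Agree b (lin e.2) := by
  classical
  have h8 := S.AP_eight hg
  have hA := (S.AP_le_KP hg).1
  have hK := S.KP_le (g := g)
  obtain ⟨σ, hσK, hσ1⟩ := Finset.exists_mem_ne (s := S.KE g) (by omega) 1
  obtain ⟨hσA, hσs⟩ := S.mem_KE.mp hσK
  obtain ⟨e, he, hec, hσ⟩ := h.KE_fixer hg (by norm_num) hpt hσK hσ1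
  have hconj : ∀ f ∈ Model.stab k, ∃ τ : P6, code τ = f.1 ∧ ((1, τ * σ * τ⁻¹) : P36) ∈ S.AP g ∧
      Perm.sign (τ * σ * τ⁻¹) = 1 := by
    intro f hf
    obtain ⟨hfe, hfix⟩ := List.mem_filter.mp hf
    rw [beq_iff_eq] at hfix
    obtain ⟨τ, hτc, hτ⟩ := h.agree_table hfe
    refine ⟨τ, hτc, ?_, by simp [hτ.1, hσs]⟩
    have hh : S.ρ (1, τ) (S.pt g) = S.pt g := by
      rw [hpt]
      show S.A τ _ = _
      rw [hτ.2, hfix]
    have := (S.stab hg (S.R_six hτ.1) hh).1 _ hσA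
    simpa using this
  have henF : e ∈ normalFour k := by
    refine List.mem_filter.mpr ⟨he, List.all_eq_true.mpr fun f hf => ?_⟩
    obtain ⟨τ, hτc, hmem, -⟩ := hconj f hf
    rw [← hτc, hec, find_inv, ← code_mul, ← code_mul, cc_iff]
    exact congrArg Prod.snd (S.AP_comm hg hmem hσA)
  intro e' he'
  have h4 := check_four k
  simp only [List.all_eq_true, List.any_eq_true, beq_iff_eq] at h4
  obtain ⟨f, hf, hcode⟩ := h4 e henF e' he'
  obtain ⟨τ, hτc, hmem, hs⟩ := hconj f hf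
  obtain ⟨b, hbc, hb⟩ := h.agree_table (List.mem_filter.mp (List.mem_filter.mp he').1).1
  have hb' : τ * σ * τ⁻¹ = b := code_injective (by
    rw [code_mul, code_mul, ← find_inv, hτc, ← hec, hcode, hbc])
  exact ⟨b, S.mem_KE.mpr ⟨hb' ▸ hmem, hb.1⟩, hb⟩

theorem pure_space {g : G} (hg : S.Carries g) (hpt : S.pt g = S.ev v 17) :
    ∀ u ∈ S.EP g, ∃ c ∈ L17, c < 256 ∧ S.ev v c = u := by
  have h0 := check_L17.2 k
  simp only [List.all_eq_true, List.any_eq_true, beq_iff_eq] at h0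
  obtain ⟨h1, h2⟩ := h.EP_eq hg (by norm_num) hpt (h.pure_group hg hpt) check_L17.1 (by decide) h0
  intro u hu
  obtain ⟨c, hc, e⟩ := h2 u hu
  exact ⟨c, hc, (h1 c hc).1, e⟩

/-- The image of an element of a triple. -/
theorem triple_image {g : G} (hg : S.Carries g) (hx : S.ψ (g * z * g⁻¹) = S.ev v 17) {b : ℕ} (hb : b < 256)
    (ht : triple k b = true) {a : G} (ha : a ∈ Q) (hψ : S.ψ a = S.ev v b) :
    Commute a (g * z * g⁻¹) ∧
      ∃ τ : P6, τ ≠ 1 ∧ τ * τ = 1 ∧ Perm.sign τ = 1 ∧ S.μ g a = ((1, τ) : P36) := by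
  simp only [triple, Bool.and_eq_true, List.any_eq_true, Bool.not_eq_true', beq_iff_eq] at ht
  obtain ⟨⟨-, hB⟩, f, hf, ⟨⟨⟨⟨h1, -⟩, hbL⟩, -⟩, -⟩⟩ := ht
  set x := g * z * g⁻¹ with hxdef
  have hxz : x ∉ Subgroup.zpowers z := fun hh => by
    rcases S.h.eq_or hh with e | e
    · exact S.h.z_ne_one (conj_eq_one_iff.mp e)
    · exact hg.2 e
  have hax : Commute a x := by
    refine (S.sq_mul_sq ha hg.1).mp ?_
    rw [hψ, hx, h.B_ev hb (by norm_num), hB]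
    rfl
  refine ⟨hax, ?_⟩
  obtain ⟨hfe, hfix⟩ := List.mem_filter.mp hf
  rw [beq_iff_eq] at hfix
  obtain ⟨σ, -, hσ⟩ := h.agree_table hfe
  obtain ⟨c, hcz, hcx, hcπ⟩ := S.ρ_fix_lift (S.R_six hσ.1) hg.1 hxz (by
    rw [hx]
    show S.A σ _ = _
    rw [hσ.2, hfix])
  have hact : ∀ n, S.act c (S.ev v n) = S.ev v (lin f.2 n) := fun n => by
    rw [← S.ρ_π hcz, hcπ]
    exact hσ.2 n
  set a2 := c * a * c⁻¹ with ha2
  set a3 := c * a2 * c⁻¹ with ha3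
  have ha2Q : a2 ∈ Q := S.h.conj_mem hcz ha
  have ha3Q : a3 ∈ Q := S.h.conj_mem hcz ha2Q
  have ha2x : Commute a2 x := (hcx.mul_left hax).mul_left hcx.inv_left
  have hψ2 : S.ψ a2 = S.ev v (lin f.2 b) := by rw [S.ψ_conj c hcz a ha, hψ, hact]
  have hψ3 : S.ψ a3 = S.ψ (a * a2) := by
    rw [S.ψ_conj c hcz a2 ha2Q, hψ2, hact, h1, S.ev_xor, S.ψ_mul _ ha _ ha2Q, hψ, hψ2]
  have hμ3 : S.μ g a3 = S.μ g a * S.μ g a2 := by
    rw [← S.μ_mul hax ha2x]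
    rcases (S.ψ_eq_iff (mul_mem ha ha2Q) ha3Q).mp hψ3.symm with e | e
    · rw [e]
    · rw [e, S.μ_mul (S.commute_of_mem hg.1).symm (hax.mul_left ha2x), S.μ_z hg, one_mul]
  have hm : S.μ g a ∈ S.AP g := S.mem_AP.mpr ⟨a, S.mem_cq.mpr ⟨ha, hax⟩, rfl⟩
  have hne : S.μ g a ≠ 1 := by
    intro e
    have hin := (S.π_eq_one _ (S.back_commute hax)).mp e
    obtain ⟨c', hc', hc'lt, e'⟩ := h.pure_space (g := g⁻¹) (S.carries_inv hg)
      (by rw [Setting.pt, inv_inv]; exact hx) (S.ψ a)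
      (S.mem_EP.mpr ⟨a, ha, by rwa [inv_inv], rfl⟩)
    rw [hψ] at e'
    rw [h.injective hc'lt hb e'] at hc'
    rw [List.contains_eq_mem, decide_eq_false_iff_not] at hbL
    exact hbL hc'
  have hcg := S.back_commute hcx
  have hconj : ∀ {y}, Commute y x → S.μ g (c * y * c⁻¹) =
      S.π (g⁻¹ * c * g) * S.μ g y * (S.π (g⁻¹ * c * g))⁻¹ := fun {y} hy => by
    rw [μ, μ, ← S.π_conj hcg (S.back_commute hy)]
    congr 1
    group
  have e2 := hconj hax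
  have e3 := hconj ha2x
  rw [← ha2] at e2
  rw [← ha3, e2, hμ3, e2] at e3
  have hsign : ∀ s t : ℤˣ, s * (t * s * t⁻¹) = t * (t * s * t⁻¹) * t⁻¹ → s = 1 := by decide
  have hs1 : Perm.sign (S.μ g a).1 = 1 := by
    have e := congrArg (fun y : P36 => Perm.sign y.1) e3
    simp only [Prod.fst_mul, Prod.fst_inv, map_mul, map_inv] at e
    exact hsign _ _ e
  have hs2 : Perm.sign (S.μ g a).2 = 1 := by
    have e := congrArg (fun y : P36 => Perm.sign y.2) e3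
    simp only [Prod.snd_mul, Prod.snd_inv, map_mul, map_inv] at e
    exact hsign _ _ e
  have hf1 : (S.μ g a).1 = 1 := p3_even_inv _ (congrArg Prod.fst (S.AP_sq hg hm)) hs1
  exact ⟨(S.μ g a).2, fun e => hne (Prod.ext hf1 e), congrArg Prod.snd (S.AP_sq hg hm), hs2, Prod.ext hf1 rfl⟩

theorem pure_witness (hphi : S.Phi (S.ev v 17)) :
    ∃ g : G, Commute (g * z * g⁻¹) z ∧ g * z * g⁻¹ ∉ Q ∧ ∃ τ τ' : P6, τ ≠ 1 ∧ τ * τ = 1 ∧ Perm.sign τ = 1 ∧
      τ' ≠ 1 ∧ τ' * τ' = 1 ∧ Perm.sign τ' = 1 ∧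
      S.π (g * z * g⁻¹) = ((1, τ) : P36) ∧ S.π (g⁻¹ * z * g) = ((1, τ') : P36) := by
  obtain ⟨g1, hg1, hpt1⟩ := S.exists_pt hphi
  set g0 := g1⁻¹ with hg0
  have hc0 : S.Carries g0 := S.carries_inv hg1
  have hx : S.ψ (g0 * z * g0⁻¹) = S.ev v 17 := by rw [hg0, inv_inv]; exact hpt1
  have h0 := check_triples k
  simp only [Bool.and_eq_true, List.any_eq_true, beq_iff_eq] at h0
  obtain ⟨⟨ht72, ht136⟩, e, he, hm1, hm2⟩ := h0
  obtain ⟨σ, -, hσ⟩ := h.agree_table he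
  have hR : S.R (tw 1, σ) := S.R_el hσ.1 1
  have hγ : ∀ n, S.ρ (tw 1, σ) (S.ev v n) = S.ev v (lin thM (lin e.2 n)) := fun n => h.ρ_el hσ 1 n
  have hphi72 : S.Phi (S.ev v 72) := by
    have := S.phi_ρ (S.R_inv hR) hphi
    rwa [S.ρ_back hR (show S.ρ (tw 1, σ) (S.ev v 72) = S.ev v 17 by rw [hγ, hm1])] at this
  set a := S.sec (S.ev v 72) with hadef
  have ha : a ∈ Q := S.sec_mem _
  have hψa : S.ψ a = S.ev v 72 := S.ψ_sec _
  obtain ⟨f, hf⟩ := isConj_iff.mp (S.conj_of_phi ha (by rw [hψa]; exact hphi72))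
  obtain ⟨hcomm, τ, hτ1, hτ2, hτs, hμ⟩ := h.triple_image hc0 hx (by norm_num) ht72 ha hψa
  refine ⟨g0⁻¹ * f, ?_⟩
  have hy : g0⁻¹ * f * z * (g0⁻¹ * f)⁻¹ = g0⁻¹ * a * g0 := by rw [← hf]; group
  have hu : (g0⁻¹ * f)⁻¹ * z * (g0⁻¹ * f) = f⁻¹ * (g0 * z * g0⁻¹) * f := by group
  obtain ⟨c, hcz, hcπ⟩ := hR
  set x := g0 * z * g0⁻¹ with hxdef
  have hx2 : c * f * z * (c * f)⁻¹ = c * a * c⁻¹ := by rw [← hf]; group
  have hψ2 : S.ψ (c * f * z * (c * f)⁻¹) = S.ev v 17 := by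
    rw [hx2, S.ψ_conj c hcz a ha, hψa, ← S.ρ_π hcz, hcπ, hγ, hm1]
  have hc2 : S.Carries (c * f) := by
    refine ⟨by rw [hx2]; exact S.h.conj_mem hcz ha, fun e' => ?_⟩
    rw [e', S.ψ_z] at hψ2
    have := h.eq_zero (n := 17) (by norm_num) hψ2.symm
    norm_num at this
  obtain ⟨hcomm', τ', hτ'1, hτ'2, hτ's, hμ'⟩ := h.triple_image hc2 hψ2 (b := 136) (by norm_num) ht136
    (a := c * x * c⁻¹) (S.h.conj_mem hcz hc0.1)
    (by rw [S.ψ_conj c hcz x hc0.1, hx, ← S.ρ_π hcz, hcπ, hγ, hm2])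
  have hπy : S.π (g0⁻¹ * f * z * (g0⁻¹ * f)⁻¹) = ((1, τ) : P36) := by rw [hy]; exact hμ
  have hyz : Commute (g0⁻¹ * f * z * (g0⁻¹ * f)⁻¹) z := by rw [hy]; exact S.back_commute hcomm
  refine ⟨hyz, fun hQ => hτ1 ?_, τ, τ', hτ1, hτ2, hτs, hτ'1, hτ'2, hτ's, hπy, ?_⟩
  · rw [(S.π_eq_one _ hyz).mpr hQ] at hπy
    exact (congrArg Prod.snd hπy).symm
  · rw [hu, ← hμ', μ]
    congr 1
    group

end Start

end Setting

end CfsgLib.S3A6
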