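import Cfsg.Agent.Lib.Invol.S3A6.Tools

/-!
Owner: helper13. If no conjugate of `z` other than `z` lies in `Q`, not all conjugates outside `Q` that
commute with `z` can induce odd permutations of the three letters.
-/

set_option autoImplicit false
set_option linter.unusedSectionVars false

namespace CfsgLib.S3A6

open Cfsg CfsgLib.ThreeTrans Equiv

/-- The sign of the permutation of three letters. -/
def chi (γ : P36) : ℤˣ := Perm.sign γ.1

theorem chi_mul (γ δ : P36) : chi (γ * δ) = chi γ * chi δ := map_mul _ _ _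

theorem chi_sq (γ : P36) : chi (γ * γ) = 1 := by rw [chi_mul]; exact Int.units_mul_self _

namespace Setting

variable {G : Type*} [Group G] [Finite G] {z : G} {Q : Subgroup G} (S : Setting z Q)
include S

theorem back_commute {g a : G} (ha : Commute a (g * z * g⁻¹)) : Commute (g⁻¹ * a * g) z := by
  show g⁻¹ * a * g * z = z * (g⁻¹ * a * g)
  calc g⁻¹ * a * g * z = g⁻¹ * (a * (g * z * g⁻¹)) * g := by group
    _ = z * (g⁻¹ * a * g) := by rw [ha.eq]; group

/-- The image of an element commuting with `g z g⁻¹`. -/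
def μ (g a : G) : P36 := S.π (g⁻¹ * a * g)

theorem μ_mul {g a b : G} (ha : Commute a (g * z * g⁻¹)) (hb : Commute b (g * z * g⁻¹)) :
    S.μ g (a * b) = S.μ g a * S.μ g b := by
  simp only [μ]
  rw [← S.π_mul _ _ (S.back_commute ha) (S.back_commute hb)]
  congr 1
  group

theorem conj_isConj (g : G) : IsConj z (g * z * g⁻¹) := isConj_iff.mpr ⟨g, rfl⟩

theorem sq_eq_one_of_cq {w a : G} (ha : a ∈ S.cq w) (h : a * a ≠ z) : a * a = 1 :=
  (S.h.eq_or (S.h.sq_mem (S.mem_cq.mp ha).1)).resolve_right h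

/-- If all conjugates outside `Q` commuting with `z` are odd on the three letters, there is none. -/
theorem false_of_all_odd (hphi : ∀ v, ¬ S.Phi v)
    (hall : ∀ y, IsConj z y → Commute y z → y ∉ Q → chi (S.π y) ≠ 1)
    {g : G} (hw : Commute (g * z * g⁻¹) z) (hwQ : g * z * g⁻¹ ∉ Q) : False := by
  classical
  set w := g * z * g⁻¹ with hwdef
  have hw2 : w * w = 1 := S.conj_sq
  have hwz : w ≠ z := fun e => hwQ (e ▸ S.h.z_mem)
  -- conjugates in `Q` are `z`
  have hin : ∀ y, IsConj z y → y ∈ Q → y = z := fun y hy hyQ => by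
    by_contra hne
    exact hphi _ (S.phi_of hy hyQ hne)
  have hu : S.μ g z = S.π (g⁻¹ * z * g) := rfl
  have huc : IsConj z (g⁻¹ * z * g) := isConj_iff.mpr ⟨g⁻¹, by rw [inv_inv]⟩
  have huz : Commute (g⁻¹ * z * g) z := S.back_commute hw.symm
  have huQ : g⁻¹ * z * g ∉ Q := fun hm => hwz (by
    have e := hin _ huc hm
    calc w = g * z * g⁻¹ := rfl
      _ = g * (g⁻¹ * z * g) * g⁻¹ := by rw [e]
      _ = z := by group)
  have hμz : chi (S.μ g z) = -1 :=
    (Int.units_eq_one_or _).resolve_left (hall _ huc huz huQ)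
  have hcw : ∀ {a}, a ∈ S.cq w → Commute a w := fun ha => (S.mem_cq.mp ha).2
  have helem : ∀ a ∈ S.cq w, a * a = 1 := by
    refine fun a ha => S.sq_eq_one_of_cq ha fun e => ?_
    have := chi_sq (S.μ g a)
    rw [← S.μ_mul (hcw ha) (hcw ha), e, hμz] at this
    exact absurd this (by decide)
  -- the key property
  have key : ∀ q ∈ Q, cm w q ∈ S.cq w → cm w q ≠ 1 → chi (S.μ g (cm w q)) = -1 := by
    intro q hq hr hne
    refine (Int.units_eq_one_or _).resolve_left fun h1 => ?_
    have e : g⁻¹ * (w * cm w q) * g = z * (g⁻¹ * cm w q * g) := by rw [hwdef]; group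
    have hy : IsConj z (g⁻¹ * (w * cm w q) * g) := by
      rw [← conj_eq_cm hw2 q]
      exact isConj_iff.mpr ⟨g⁻¹ * q⁻¹ * g, by rw [hwdef]; group⟩
    have hcr := S.back_commute (hcw hr)
    have hyz : Commute (g⁻¹ * (w * cm w q) * g) z := by rw [e]; exact (Commute.refl z).mul_left hcr
    by_cases hyQ : g⁻¹ * (w * cm w q) * g ∈ Q
    · have ez := hin _ hy hyQ
      rw [e, mul_eq_left] at ez
      apply hne
      calc cm w q = g * (g⁻¹ * cm w q * g) * g⁻¹ := by group
        _ = 1 := by rw [ez, mul_one, mul_inv_cancel]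
    · refine hall _ hy hyz hyQ ?_
      rw [e, S.π_mul _ _ (Commute.refl z) hcr, S.π_of_mem S.h.z_mem, one_mul]
      exact h1
  have himg := S.eight_le_img hw helem
  have hψ : ∀ q ∈ Q, S.ψ (cm w q) = S.act w (S.ψ q) + S.ψ q := fun q hq => S.ψ_cm hw hw2 hq
  by_cases hzR : ∃ q0 ∈ Q, cm w q0 = z
  · obtain ⟨q0, hq0, e0⟩ := hzR
    obtain ⟨q, hq, hr, hne⟩ : ∃ q ∈ Q, cm w q ∈ S.cq w ∧ S.ψ (cm w q) ≠ 0 := by
      by_contra hcon
      push Not at hcon
      obtain ⟨i, hi, hi0⟩ := Finset.exists_mem_ne (s := S.img w) (by omega) 0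
      obtain ⟨j, hj, hj'⟩ := Finset.exists_mem_notMem_of_card_lt_card (s := ({0, i} : Finset V)) (t := S.img w)
        (lt_of_le_of_lt (Finset.card_le_two) (by omega))
      simp only [Finset.mem_insert, Finset.mem_singleton, not_or] at hj'
      obtain ⟨u, hu'⟩ := S.mem_img.mp hi
      obtain ⟨v, hv'⟩ := S.mem_img.mp hj
      have hsu := S.sec_mem u
      have hsv := S.sec_mem v
      have ei : S.ψ (cm w (S.sec u)) = i := by rw [hψ _ hsu, S.ψ_sec, hu']
      have ej : S.ψ (cm w (S.sec v)) = j := by rw [hψ _ hsv, S.ψ_sec, hv']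
      have e3 : S.ψ (cm w (S.sec u * S.sec v)) = i + j := by
        rw [hψ _ (mul_mem hsu hsv), S.ψ_mul _ hsu _ hsv, S.ψ_sec, S.ψ_sec, S.act_add hw, add_add_add_comm,
          hu', hv']
      have hfix : ∀ q ∈ Q, S.ψ (cm w q) ∈ S.fix w := fun q hq => by
        rw [S.mem_fix, hψ q hq, S.act_add hw, ← S.act_mul hw hw, hw2, S.act_one, add_comm]
      have hm1 := S.cm_mem hw hw2 hsu
      have hm2 := S.cm_mem hw hw2 hsv
      rcases S.mul_mem_cq_or hw hm1 hm2 (hfix _ hsu) (hfix _ hsv) with c | c | c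
      · exact hi0 (by rw [← ei, hcon _ hsu c])
      · exact hj'.1 (by rw [← ej, hcon _ hsv c])
      · have hm3 := S.cm_mem hw hw2 (mul_mem hsu hsv)
        have e4 : S.ψ (cm w (S.sec u * S.sec v)) = S.ψ ((cm w (S.sec u))⁻¹ * cm w (S.sec v)) := by
          rw [e3, S.ψ_mul _ (inv_mem hm1) _ hm2, S.ψ_inv hm1, ei, ej]
        have hz : z ∈ S.cq w := S.mem_cq.mpr ⟨S.h.z_mem, hw.symm⟩
        have hc3 : cm w (S.sec u * S.sec v) ∈ S.cq w := by
          rcases (S.ψ_eq_iff (mul_mem (inv_mem hm1) hm2) hm3).mp e4.symm with e | e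
          · rw [e]; exact c
          · rw [e]; exact mul_mem hz c
        exact hj'.2 ((v_add_eq_zero.mp (e3.symm.trans (hcon _ (mul_mem hsu hsv) hc3))).symm)
    have h1 : cm w q ≠ 1 := fun e => hne (by rw [e, S.ψ_one])
    have h2 : cm w (q0 * q) = z * cm w q := by
      rw [cm_mul hw2, e0, mul_assoc q⁻¹, ← (S.commute_of_mem hq).eq, inv_mul_cancel_left]
      exact S.h.commute_z (S.mem_cq.mp hr).1
    have hzc : z ∈ S.cq w := S.mem_cq.mpr ⟨S.h.z_mem, hw.symm⟩
    have h3 := key (q0 * q) (mul_mem hq0 hq) (h2 ▸ mul_mem hzc hr) (fun e => hne (by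
      rw [h2] at e
      rw [← S.ψ_zmul (S.mem_cq.mp hr).1, e, S.ψ_one]))
    rw [h2, S.μ_mul hw.symm (hcw hr), chi_mul, hμz, key q hq hr h1] at h3
    exact absurd h3 (by decide)
  · push Not at hzR
    have hW : ∀ q ∈ Q, cm w q ∈ S.cq w := by
      intro q hq
      have hm := S.cm_mem hw hw2 hq
      have hfix : S.ψ (cm w q) ∈ S.fix w := by
        rw [S.mem_fix, hψ q hq, S.act_add hw, ← S.act_mul hw hw, hw2, S.act_one, add_comm]
      rcases S.conj_or_of_fix hw hm hfix with e | e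
      · exact S.mem_cq.mpr ⟨hm, (mul_inv_eq_iff_eq_mul.mp e).symm⟩
      · refine absurd ?_ (hzR _ hm)
        have e' : w * cm w q * w = z * cm w q := by
          rwa [inv_eq_of_mul_eq_one_left hw2] at e
        show w * (cm w q)⁻¹ * w * cm w q = z
        have e'' : w * (cm w q)⁻¹ * w = (z * cm w q)⁻¹ := by
          simp only [← e', mul_inv_rev, inv_eq_of_mul_eq_one_left hw2, mul_assoc]
        rw [e'', mul_inv_rev, S.h.inv_z, mul_assoc, ← S.h.commute_z hm, inv_mul_cancel_left]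
    have hB : ∀ u v, S.act w u + u ≠ 0 → S.act w v + v ≠ 0 → S.act w u + u ≠ S.act w v + v →
        S.B v (S.act w u + u) = 1 := by
      intro u v hu0 hv0 huv
      refine ne_zero_iff.mp fun h0 => ?_
      have hsu := S.sec_mem u
      have hsv := S.sec_mem v
      have ru := hW _ hsu
      have rv := hW _ hsv
      have e1 : S.ψ (cm w (S.sec u)) = S.act w u + u := by rw [hψ _ hsu, S.ψ_sec]
      have e2 : S.ψ (cm w (S.sec v)) = S.act w v + v := by rw [hψ _ hsv, S.ψ_sec]
      have hc : Commute (S.sec v) (cm w (S.sec u)) :=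
        (S.sq_mul_sq hsv (S.mem_cq.mp ru).1).mp (by rw [S.ψ_sec, e1, h0])
      have h2 : cm w (S.sec u * S.sec v) = cm w (S.sec v) * cm w (S.sec u) := by
        rw [cm_mul hw2, mul_assoc (S.sec v)⁻¹, ← hc.eq, inv_mul_cancel_left]
      have e3 : S.ψ (cm w (S.sec u * S.sec v)) = S.act w v + v + (S.act w u + u) := by
        rw [h2, S.ψ_mul _ (S.mem_cq.mp rv).1 _ (S.mem_cq.mp ru).1, e1, e2]
      have k1 := key _ hsu ru fun e => hu0 (by rw [← e1, e, S.ψ_one])
      have k2 := key _ hsv rv fun e => hv0 (by rw [← e2, e, S.ψ_one])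
      have k3 := key _ (mul_mem hsu hsv) (h2 ▸ mul_mem rv ru) fun e => huv (by
        rw [e, S.ψ_one, eq_comm, v_add_eq_zero] at e3
        exact e3.symm)
      rw [h2, S.μ_mul (hcw rv) (hcw ru), chi_mul, k1, k2] at k3
      exact absurd k3 (by decide)
    obtain ⟨i, hi, hi0⟩ := Finset.exists_mem_ne (s := S.img w) (by omega) 0
    obtain ⟨j, hj, hj'⟩ := Finset.exists_mem_notMem_of_card_lt_card (s := ({0, i} : Finset V)) (t := S.img w)
      (lt_of_le_of_lt (Finset.card_le_two) (by omega))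
    simp only [Finset.mem_insert, Finset.mem_singleton, not_or] at hj'
    obtain ⟨l, hl, hl'⟩ := Finset.exists_mem_notMem_of_card_lt_card (s := ({0, i, j, i + j} : Finset V))
      (t := S.img w) (lt_of_le_of_lt (Finset.card_le_four) (by omega))
    simp only [Finset.mem_insert, Finset.mem_singleton, not_or] at hl'
    obtain ⟨u, rfl⟩ := S.mem_img.mp hi
    obtain ⟨v, rfl⟩ := S.mem_img.mp hj
    obtain ⟨t, rfl⟩ := S.mem_img.mp hl
    have hsum : S.act w (v + t) + (v + t) = (S.act w v + v) + (S.act w t + t) := by rw [S.act_add hw]; abel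
    have b1 := hB u v hi0 hj'.1 fun e => hj'.2 e.symm
    have b2 := hB u t hi0 hl'.1 fun e => hl'.2.1 e.symm
    have b3 := hB u (v + t) hi0 (fun e => hl'.2.2.1 ((v_add_eq_zero.mp (hsum.symm.trans e)).symm))
      (fun e => hl'.2.2.2 (by rw [e, hsum]; rw [add_assoc, add_comm (S.act w t + t), v_cancel]))
    rw [S.B_add, b1, b2] at b3
    exact absurd b3 (by decide)

end Setting

end CfsgLib.S3A6
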