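import Cfsg.Agent.Lib.Invol.S3A6.Space
import Cfsg.Agent.Lib.Invol.S3A6.Sign

/-!
Owner: helper13. A conjugate outside `Q` whose sixteen commutator vectors are its fixed vectors.
-/

set_option autoImplicit false
set_option linter.unusedSectionVars false
set_option maxRecDepth 100000

namespace CfsgLib.S3A6

open Cfsg CfsgLib.ThreeTrans Equiv Model

theorem elem_card (K : Finset P6) (h2 : ∀ a ∈ K, a * a = 1) (hc : ∀ a ∈ K, ∀ b ∈ K, a * b = b * a) :
    K.card ≤ 8 := by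
  classical
  by_contra hlt
  push Not at hlt
  obtain ⟨a, ha, a1⟩ := Finset.exists_mem_ne (s := K) (by omega) 1
  obtain ⟨b, hb, hb'⟩ := Finset.exists_mem_notMem_of_card_lt_card
    (s := ({1, a} : Finset P6)) (t := K) (lt_of_le_of_lt Finset.card_le_two (by omega))
  obtain ⟨c, hcK, hc'⟩ := Finset.exists_mem_notMem_of_card_lt_card
    (s := ({1, a, b, a * b} : Finset P6)) (t := K) (lt_of_le_of_lt Finset.card_le_four (by omega))
  simp only [Finset.mem_insert, Finset.mem_singleton, not_or] at hb' hc'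
  have hsub : K ⊆ ([1, a, b, c, a * b, a * c, b * c, a * b * c] : List P6).toFinset := by
    intro d hd
    simp only [List.mem_toFinset, List.mem_cons, List.not_mem_nil, or_false]
    by_cases d1 : d = 1
    · exact Or.inl d1
    right
    exact elem_span (h2 a ha) (h2 b hb) (h2 c hcK) (h2 d hd) a1 hb'.1 hc'.1 d1 (hc a ha b hb) (hc a ha c hcK)
      (hc b hb c hcK) (hc a ha d hd) (hc b hb d hd) (hc c hcK d hd) hb'.2 hc'.2.1 hc'.2.2.1 hc'.2.2.2
  have h := Finset.card_le_card hsub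
  have h' := List.toFinset_card_le ([1, a, b, c, a * b, a * c, b * c, a * b * c] : List P6)
  simp only [List.length_cons, List.length_nil] at h'
  omega

theorem p3_four : ∀ a : P3, Perm.sign (a ^ 4) = 1 := by decide +kernel

theorem p36_elem_card (A : Finset P36) (h2 : ∀ a ∈ A, a * a = 1) (hc : ∀ a ∈ A, ∀ b ∈ A, a * b = b * a) :
    A.card ≤ 16 := by
  classical
  have h8 := elem_card (A.image Prod.snd)
    (fun a ha => by obtain ⟨b, hb, rfl⟩ := Finset.mem_image.mp ha; exact congrArg Prod.snd (h2 b hb))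
    (fun a ha b hb => by
      obtain ⟨a', ha', rfl⟩ := Finset.mem_image.mp ha
      obtain ⟨b', hb', rfl⟩ := Finset.mem_image.mp hb
      exact congrArg Prod.snd (hc a' ha' b' hb'))
  have hle : A.card ≤ 2 * (A.image Prod.snd).card := by
    refine Finset.card_le_mul_card_image A 2 fun s _ => ?_
    by_contra hlt
    push Not at hlt
    obtain ⟨a, ha, hane⟩ := Finset.exists_mem_ne (s := A.filter fun x => x.2 = s) (by omega) (1, s)
    obtain ⟨b, hb, hb'⟩ := Finset.exists_mem_notMem_of_card_lt_card (s := ({(1, s), a} : Finset P36))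
      (t := A.filter fun x => x.2 = s) (lt_of_le_of_lt Finset.card_le_two (by omega))
    simp only [Finset.mem_insert, Finset.mem_singleton, not_or] at hb'
    obtain ⟨haA, has⟩ := Finset.mem_filter.mp ha
    obtain ⟨hbA, hbs⟩ := Finset.mem_filter.mp hb
    rcases p3_inv_comm a.1 b.1 (congrArg Prod.fst (h2 a haA)) (congrArg Prod.fst (h2 b hbA))
      (congrArg Prod.fst (hc a haA b hbA)) with e | e | e
    · exact hane (Prod.ext e has)
    · exact hb'.1 (Prod.ext e hbs)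
    · exact hb'.2 (Prod.ext e.symm (hbs.trans has.symm))
  omega

namespace Setting

variable {G : Type*} [Group G] [Finite G] {z : G} {Q : Subgroup G} (S : Setting z Q)
include S

theorem cm_conj {w c q : G} (hcw : Commute c w) : cm w (c * q * c⁻¹) = c * cm w q * c⁻¹ := by
  have e : c⁻¹ * w * c = w := by
    calc c⁻¹ * w * c = c⁻¹ * (w * c) := by group
      _ = c⁻¹ * (c * w) := by rw [hcw.eq]
      _ = w := by group
  calc cm w (c * q * c⁻¹) = w * c * q⁻¹ * (c⁻¹ * w * c) * q * c⁻¹ := by simp only [cm]; group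
    _ = (w * c) * q⁻¹ * w * q * c⁻¹ := by rw [e]
    _ = (c * w) * q⁻¹ * w * q * c⁻¹ := by rw [hcw.eq]
    _ = c * cm w q * c⁻¹ := by simp only [cm]; group

/-- A conjugate outside `Q` in the model. -/
structure Six (k : Bool) (v : V) (g : G) (s : P6) (M : ℕ) : Prop where
  start : S.Start k v
  hw : Commute (g * z * g⁻¹) z
  hwQ : g * z * g⁻¹ ∉ Q
  hπ : S.π (g * z * g⁻¹) = ((1, s) : P36)
  agree : ∀ n, S.act (g * z * g⁻¹) (S.ev v n) = S.ev v (lin M n)
  h16 : sixteen M = true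

namespace Six

variable {S} {k : Bool} {v : V} {g : G} {s : P6} {M : ℕ} (d : S.Six k v g s M)
include d

theorem img_cases {i : V} (hi : i ∈ S.img (g * z * g⁻¹)) :
    ∃ n < 256, i = S.ev v (lin M n ^^^ n) := by
  obtain ⟨u, rfl⟩ := S.mem_img.mp hi
  obtain ⟨n, hn, rfl⟩ := d.start.surjective u
  exact ⟨n, hn, by rw [d.agree, ← S.ev_xor]⟩

theorem img_singular {i : V} (hi : i ∈ S.img (g * z * g⁻¹)) : S.q i = 0 := by
  obtain ⟨n, hn, rfl⟩ := d.img_cases hi
  have h0 := d.h16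
  simp only [sixteen, Bool.and_eq_true, List.all_eq_true, List.mem_range, Bool.not_eq_true'] at h0
  rw [d.start.q_ev (xor_lt (lin_lt _ _) hn), (h0.1 n hn).2]
  rfl

theorem img_eq_fix : S.img (g * z * g⁻¹) = S.fix (g * z * g⁻¹) ∧ (S.img (g * z * g⁻¹)).card = 16 := by
  classical
  have h0 := d.h16
  simp only [sixteen, Bool.and_eq_true, List.all_eq_true, List.mem_range, beq_iff_eq] at h0
  have hle : (S.fix (g * z * g⁻¹)).card = 16 := by
    have e : S.fix (g * z * g⁻¹) = ((List.range 256).filter fun n => lin M n == n).toFinset.image (S.ev v) := by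
      ext u
      rw [S.mem_fix, Finset.mem_image]
      constructor
      · intro hu
        obtain ⟨n, hn, rfl⟩ := d.start.surjective u
        rw [d.agree] at hu
        exact ⟨n, List.mem_toFinset.mpr (List.mem_filter.mpr ⟨List.mem_range.mpr hn,
          beq_iff_eq.mpr (d.start.injective (lin_lt _ _) hn hu)⟩), rfl⟩
      · rintro ⟨n, hn, rfl⟩
        rw [d.agree, beq_iff_eq.mp (List.mem_filter.mp (List.mem_toFinset.mp hn)).2]
    rw [e, Finset.card_image_of_injOn, List.toFinset_card_of_nodup (List.nodup_range.filter _), h0.2]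
    intro a ha b hb e'
    exact d.start.injective (List.mem_range.mp (List.mem_filter.mp (List.mem_toFinset.mp ha)).1)
      (List.mem_range.mp (List.mem_filter.mp (List.mem_toFinset.mp hb)).1) e'
  have hi : (S.img (g * z * g⁻¹)).card = 16 := by
    have := S.card_fix_mul_img d.hw
    rw [hle] at this
    omega
  refine ⟨Finset.eq_of_subset_of_card_le (fun i hi => ?_) (by omega), hi⟩
  obtain ⟨n, hn, rfl⟩ := d.img_cases hi
  rw [S.mem_fix, d.agree, (h0.1 n hn).1]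

theorem ψ_cm' {q : G} (hq : q ∈ Q) : S.ψ (cm (g * z * g⁻¹) q) ∈ S.img (g * z * g⁻¹) := by
  rw [S.ψ_cm d.hw S.conj_sq hq]
  exact S.mem_img.mpr ⟨_, rfl⟩

theorem cm_cq {q : G} (hq : q ∈ Q) : cm (g * z * g⁻¹) q ∈ S.cq (g * z * g⁻¹) := by
  have hr := S.cm_mem d.hw S.conj_sq hq
  have hr2 : cm (g * z * g⁻¹) q * cm (g * z * g⁻¹) q = 1 := (S.sq_one_iff hr).mpr (d.img_singular (d.ψ_cm' hq))
  have hw2 : g * z * g⁻¹ * (g * z * g⁻¹) = 1 := S.conj_sq
  set w := g * z * g⁻¹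
  refine S.mem_cq.mpr ⟨hr, ?_⟩
  have e : w * cm w q * (w * cm w q) = 1 := by
    rw [← conj_eq_cm hw2 q]
    calc q⁻¹ * w * q * (q⁻¹ * w * q) = q⁻¹ * (w * w) * q := by group
      _ = 1 := by rw [hw2, mul_one, inv_mul_cancel]
  have h1 := eq_inv_of_mul_eq_one_left e
  rw [mul_inv_rev, inv_eq_of_mul_eq_one_left hr2, inv_eq_of_mul_eq_one_left hw2] at h1
  exact h1.symm

theorem decomp {a : G} (ha : a ∈ Q) (hψ : S.ψ a ∈ S.fix (g * z * g⁻¹)) :
    ∃ q ∈ Q, a = cm (g * z * g⁻¹) q ∨ a = z * cm (g * z * g⁻¹) q := by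
  rw [← d.img_eq_fix.1] at hψ
  obtain ⟨u, hu⟩ := S.mem_img.mp hψ
  have hq := S.sec_mem u
  refine ⟨_, hq, (S.ψ_eq_iff (S.cm_mem d.hw S.conj_sq hq) ha).mp ?_⟩
  rw [S.ψ_cm d.hw S.conj_sq hq, S.ψ_sec, hu]

theorem cq_eq : S.cq (g * z * g⁻¹) = S.pre (S.fix (g * z * g⁻¹)) (S.fix_sub d.hw) := by
  ext a
  rw [S.mem_pre]
  constructor
  · exact fun ha => ⟨(S.mem_cq.mp ha).1, S.ψ_cq_mem d.hw ha⟩
  · rintro ⟨ha, hψ⟩
    obtain ⟨q, hq, rfl | rfl⟩ := d.decomp ha hψ
    · exact d.cm_cq hq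
    · exact mul_mem (S.mem_cq.mpr ⟨S.h.z_mem, d.hw.symm⟩) (d.cm_cq hq)

theorem cq_sq {a : G} (ha : a ∈ S.cq (g * z * g⁻¹)) : a * a = 1 := by
  have h := S.ψ_cq_mem d.hw ha
  rw [← d.img_eq_fix.1] at h
  exact (S.sq_one_iff (S.mem_cq.mp ha).1).mpr (d.img_singular h)

theorem cq_comm {a b : G} (ha : a ∈ S.cq (g * z * g⁻¹)) (hb : b ∈ S.cq (g * z * g⁻¹)) : a * b = b * a := by
  have h := d.cq_sq (mul_mem ha hb)
  rw [eq_inv_of_mul_eq_one_left h, mul_inv_rev, inv_eq_of_mul_eq_one_left (d.cq_sq ha),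
    inv_eq_of_mul_eq_one_left (d.cq_sq hb)]

/-- A lift moving `w` at most to `z w`. -/
theorem class_or {γ : P36} (hγ : S.R γ) (hc : γ * ((1, s) : P36) = (1, s) * γ) :
    ∃ c, Commute c z ∧ S.π c = γ ∧
      (c * (g * z * g⁻¹) * c⁻¹ = g * z * g⁻¹ ∨ c * (g * z * g⁻¹) * c⁻¹ = z * (g * z * g⁻¹)) := by
  obtain ⟨t, htz, rfl⟩ := hγ
  have hw := d.hw
  have hw2 : g * z * g⁻¹ * (g * z * g⁻¹) = 1 := S.conj_sq
  have hπ := d.hπ
  have hdec := fun {a : G} (ha : a ∈ Q) => d.decomp ha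
  set w := g * z * g⁻¹ with hwdef
  have htw : Commute (t * w * t⁻¹) z := (htz.mul_left hw).mul_left htz.inv_left
  set a := w * (t * w * t⁻¹) with hadef
  have haQ : a ∈ Q := by
    rw [← S.π_eq_one a (hw.mul_left htw), S.π_mul _ _ hw htw, S.π_conj htz hw, hπ, hc, mul_inv_cancel_right]
    exact Prod.ext (one_mul _) (by
      have h := congrArg S.π hw2
      rw [S.π_mul _ _ hw hw, S.π_one, hπ] at h
      exact congrArg Prod.snd h)
  have hfix : S.ψ a ∈ S.fix w := by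
    rw [S.mem_fix, ← S.ψ_conj w hw a haQ]
    have : w * a * w⁻¹ = a⁻¹ := by
      rw [hadef, inv_eq_of_mul_eq_one_left hw2]
      calc w * (w * (t * w * t⁻¹)) * w = (w * w) * (t * w * t⁻¹) * w := by group
        _ = t * w * t⁻¹ * w := by rw [hw2, one_mul]
        _ = t * w⁻¹ * t⁻¹ * w⁻¹ := by rw [inv_eq_of_mul_eq_one_left hw2]
        _ = (w * (t * w * t⁻¹))⁻¹ := by group
    rw [this, S.ψ_inv haQ]
  obtain ⟨q, hq, hor⟩ := hdec haQ hfix
  have hq' := S.commute_of_mem hq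
  refine ⟨q * t, hq'.mul_left htz, by rw [S.π_mul _ _ hq' htz, S.π_of_mem hq, one_mul], ?_⟩
  have e : t * w * t⁻¹ = w * a := by rw [hadef, ← mul_assoc w w, hw2, one_mul]
  have e2 : q * t * w * (q * t)⁻¹ = q * (t * w * t⁻¹) * q⁻¹ := by group
  rw [e2, e]
  rcases hor with r | r <;> rw [r]
  · left
    rw [← conj_eq_cm hw2 q]; group
  · right
    rw [show w * (z * cm w q) = z * (w * cm w q) by rw [← mul_assoc, hw.eq, mul_assoc], ← conj_eq_cm hw2 q,
      show q * (z * (q⁻¹ * w * q)) * q⁻¹ = (q * z * q⁻¹) * w by group, hq'.eq, mul_inv_cancel_right]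

/-- A lift of the scalar of order three centralizing `w`. -/
theorem cent_th : ∃ c, Commute c z ∧ Commute c (g * z * g⁻¹) ∧ S.π c = th ∧ ∃ b, c = b ^ 4 ∧ Commute b z ∧
    Commute b (g * z * g⁻¹) := by
  obtain ⟨t, htz, htπ, hor⟩ := d.class_or S.R_th (th_comm s)
  have hw := d.hw
  set w := g * z * g⁻¹
  have hzt : t * z * t⁻¹ = z := by rw [htz.eq, mul_inv_cancel_right]
  have h2 : Commute (t * t) w := by
    refine mul_inv_eq_iff_eq_mul.mp ?_
    rcases hor with e | e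
    · rw [show t * t * w * (t * t)⁻¹ = t * (t * w * t⁻¹) * t⁻¹ by group, e, e]
    · rw [show t * t * w * (t * t)⁻¹ = t * (t * w * t⁻¹) * t⁻¹ by group, e,
        show t * (z * w) * t⁻¹ = (t * z * t⁻¹) * (t * w * t⁻¹) by group, hzt, e, ← mul_assoc, S.h.mul_self_z,
        one_mul]
  have h4 : Commute (t * t * (t * t)) w := h2.mul_left h2
  have h4z : Commute (t * t * (t * t)) z := (htz.mul_left htz).mul_left (htz.mul_left htz)
  refine ⟨(t * t * (t * t)) ^ 4, h4z.pow_left 4, h4.pow_left 4, ?_, _, rfl, h4z, h4⟩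
  rw [S.π_pow h4z, S.π_mul _ _ (htz.mul_left htz) (htz.mul_left htz), S.π_mul _ _ htz htz, htπ]
  decide +kernel

/-- The commutator of a product with its multiple under the scalar. -/
theorem pair_cm {c q : G} (hcz : Commute c z) (hcw : Commute c (g * z * g⁻¹)) (hq : q ∈ Q)
    (hB : S.B (S.act c (S.ψ q)) (S.ψ (cm (g * z * g⁻¹) q)) = 0) :
    cm (g * z * g⁻¹) (q * (c * q * c⁻¹)) = c * cm (g * z * g⁻¹) q * c⁻¹ * cm (g * z * g⁻¹) q := by
  have hq' := S.h.conj_mem hcz hq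
  have hcom := (S.sq_mul_sq hq' (S.cm_mem d.hw S.conj_sq hq)).mp (by rw [S.ψ_conj c hcz q hq]; exact hB)
  rw [cm_mul S.conj_sq, S.cm_conj hcw, mul_assoc (c * q * c⁻¹)⁻¹, ← hcom.eq, inv_mul_cancel_left]

theorem conj_pair {q : G} : IsConj z (g⁻¹ * (g * z * g⁻¹ * cm (g * z * g⁻¹) q) * g) ∧
    g⁻¹ * (g * z * g⁻¹ * cm (g * z * g⁻¹) q) * g = z * (g⁻¹ * cm (g * z * g⁻¹) q * g) := by
  refine ⟨?_, by group⟩
  rw [← conj_eq_cm S.conj_sq q]
  exact isConj_iff.mpr ⟨g⁻¹ * q⁻¹ * g, by group⟩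

/-- The even partner gives a long vector of a conjugate. -/
theorem long_phi {τ : P6} (hτ1 : τ ≠ 1) (hτ2 : τ * τ = 1) (hτs : Perm.sign τ = 1)
    (hu : S.π (g⁻¹ * z * g) = ((1, τ) : P36)) {n : ℕ} (hn : n < 256)
    (hlong : rk2 (lin M n ^^^ n) = true) (hflat : BM (lin thM n) (lin M n ^^^ n) = false) :
    S.Phi (S.ev v 5) := by
  obtain ⟨c, hcz, hcw, hcπ, b, hb, hbz, hbw⟩ := d.cent_th
  have h := d.start
  set q := S.sec (S.ev v n) with hqdef
  have hq : q ∈ Q := S.sec_mem _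
  have hψq : S.ψ q = S.ev v n := S.ψ_sec _
  have hactc : ∀ u, S.act c u = S.T u := fun u => by rw [← S.ρ_π hcz, hcπ]; rfl
  have hψr : S.ψ (cm (g * z * g⁻¹) q) = S.ev v (lin M n ^^^ n) := by
    rw [S.ψ_cm d.hw S.conj_sq hq, hψq, d.agree, S.ev_xor]
  have he := d.pair_cm hcz hcw hq (by
    rw [hactc, hψq, hψr, ← h.lin_th, h.B_ev (lin_lt _ _) (xor_lt (lin_lt _ _) hn), hflat]
    rfl)
  set Q2 := q * (c * q * c⁻¹) with hQ2
  have hQ2Q : Q2 ∈ Q := mul_mem hq (S.h.conj_mem hcz hq)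
  have heq := d.cm_cq hQ2Q
  have hr := d.cm_cq hq
  have hrw := (S.mem_cq.mp hr).2
  have hew := (S.mem_cq.mp heq).2
  have hpair := d.conj_pair (q := Q2)
  set w := g * z * g⁻¹ with hw
  set r := cm w q with hrdef
  set e := cm w Q2 with hedef
  -- `e` lies in the conjugate of `Q`
  have hbg := S.back_commute hbw
  have hcg : Commute (g⁻¹ * c * g) z := S.back_commute hcw
  have hcgπ : (S.π (g⁻¹ * c * g)).2 = 1 ∧ Perm.sign (S.π (g⁻¹ * c * g)).1 = 1 := by
    have e4 : g⁻¹ * c * g = (g⁻¹ * b * g) ^ 4 := by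
      rw [hb]
      calc g⁻¹ * b ^ 4 * g = g⁻¹ * b ^ 4 * g⁻¹⁻¹ := by rw [inv_inv]
        _ = (g⁻¹ * b * g⁻¹⁻¹) ^ 4 := (conj_pow ..).symm
        _ = (g⁻¹ * b * g) ^ 4 := by rw [inv_inv]
    rw [e4, S.π_pow hbg, Prod.pow_snd, Prod.pow_fst]
    refine ⟨cent_even hτ2 hτ1 hτs ?_, p3_four _⟩
    have huz : Commute (g⁻¹ * z * g) z := S.back_commute d.hw.symm
    have hbu : Commute (g⁻¹ * b * g) (g⁻¹ * z * g) := by
      show g⁻¹ * b * g * (g⁻¹ * z * g) = g⁻¹ * z * g * (g⁻¹ * b * g)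
      calc g⁻¹ * b * g * (g⁻¹ * z * g) = g⁻¹ * (b * z) * g := by group
        _ = g⁻¹ * z * g * (g⁻¹ * b * g) := by rw [hbz.eq]; group
    have e5 := congrArg S.π hbu.eq
    rw [S.π_mul _ _ hbg huz, S.π_mul _ _ huz hbg, hu] at e5
    exact (congrArg Prod.snd e5).symm
  have hμe : S.μ g e = 1 := by
    have hμsq : S.μ g e * S.μ g e = 1 := by rw [← S.μ_mul hew hew, d.cq_sq heq, S.μ_one]
    have hμr : S.μ g r * S.μ g r = 1 := by rw [← S.μ_mul hrw hrw, d.cq_sq hr, S.μ_one]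
    have hμc : S.μ g e = S.π (g⁻¹ * c * g) * S.μ g r * (S.π (g⁻¹ * c * g))⁻¹ * S.μ g r := by
      rw [μ, he, μ, ← S.π_conj hcg (S.back_commute hrw),
        ← S.π_mul _ _ ((hcg.mul_left (S.back_commute hrw)).mul_left hcg.inv_left) (S.back_commute hrw)]
      congr 1
      group
    obtain ⟨h2, h1⟩ := hcgπ
    have hsnd : (S.μ g e).2 = 1 := by
      rw [hμc]
      simp only [Prod.snd_mul, Prod.snd_inv, h2, one_mul, inv_one, mul_one]
      exact congrArg Prod.snd hμr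
    have hfst : (S.μ g e).1 = 1 := by
      refine p3_even_inv _ (congrArg Prod.fst hμsq) ?_
      rw [hμc]
      simp only [Prod.fst_mul, Prod.fst_inv, map_mul, map_inv, h1, one_mul, inv_one, mul_one]
      exact Int.units_mul_self _
    exact Prod.ext hfst hsnd
  have hin : g⁻¹ * e * g ∈ Q := (S.π_eq_one _ (S.back_commute hew)).mp hμe
  -- its vector
  set i := lin M n ^^^ n with hidef
  have hψe : S.ψ e = S.ev v (lin thM (lin thM i)) := by
    rw [he, S.ψ_mul _ (S.h.conj_mem hcz (S.mem_cq.mp hr).1) _ (S.mem_cq.mp hr).1,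
      S.ψ_conj c hcz r (S.mem_cq.mp hr).1, hψr, hactc, h.lin_th, h.lin_th, S.caseA_TT h.case, add_comm]
  have hi : i < 256 := xor_lt (lin_lt _ _) hn
  have hlong' : rk2 (lin thM (lin thM i)) = true := by
    refine h.rk2_ρ (S.R_mul S.R_th S.R_th) (lin_lt _ _) hi hlong ?_
    rw [S.ρ_mul S.R_th S.R_th, h.lin_th, h.lin_th]
    rfl
  have hne : S.ψ e ≠ 0 := fun e0 => by
    rw [hψe] at e0
    rw [h.eq_zero (lin_lt _ _) e0] at hlong'
    exact absurd hlong' (by decide)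
  obtain ⟨hy, hy2⟩ := hpair
  rw [hy2] at hy
  have hyne : z * (g⁻¹ * e * g) ≠ z := fun e0 => hne (by
    rw [mul_eq_left] at e0
    rw [show e = g * (g⁻¹ * e * g) * g⁻¹ by group, e0, mul_one, mul_inv_cancel, S.ψ_one])
  have hphi := S.phi_of hy (mul_mem S.h.z_mem hin) hyne
  rw [S.ψ_zmul hin] at hphi
  have hconj : IsConj z e := (S.conj_of_phi hin hphi).trans (isConj_iff.mpr ⟨g, by group⟩)
  have hphie := S.phi_of hconj (S.mem_cq.mp heq).1 (fun e0 => hne (by rw [e0, S.ψ_z]))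
  rw [hψe] at hphie
  obtain ⟨γ, hγ, e5⟩ := h.rk2_orb (lin_lt _ _) hlong'
  exact S.ρ_back hγ e5 ▸ S.phi_ρ (S.R_inv hγ) hphie

/-- Without further conjugates in `Q` this configuration is impossible. -/
theorem no_phi_false (hphi : ∀ u, ¬ S.Phi u) (hlines : linesMove k (code s) M = true) : False := by
  classical
  obtain ⟨c, hcz, hcw, hcπ, -⟩ := d.cent_th
  have h := d.start
  have hin : ∀ y, IsConj z y → y ∈ Q → y = z := fun y hy hyQ => by
    by_contra hne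
    exact hphi _ (S.phi_of hy hyQ hne)
  have hμz : S.μ g z ≠ 1 := fun e => d.hwQ (by
    have hu : g⁻¹ * z * g ∈ Q := (S.π_eq_one _ (S.back_commute d.hw.symm)).mp e
    have e' := hin _ (isConj_iff.mpr ⟨g⁻¹, by group⟩) hu
    rw [show g * z * g⁻¹ = g * (g⁻¹ * z * g) * g⁻¹ by rw [e'],
      show g * (g⁻¹ * z * g) * g⁻¹ = z by group]
    exact S.h.z_mem)
  set w := g * z * g⁻¹ with hwdef
  have hzw : Commute z w := d.hw.symm
  have hzW : z ∈ S.cq w := S.mem_cq.mpr ⟨S.h.z_mem, hzw⟩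
  have hcw' : ∀ {a}, a ∈ S.cq w → Commute a w := fun ha => (S.mem_cq.mp ha).2
  -- a kernel element
  obtain ⟨k0, hk0, hk0μ, hk01⟩ : ∃ a ∈ S.cq w, S.μ g a = 1 ∧ a ≠ 1 := by
    let Ws : Finset G := (Set.toFinite (S.cq w : Set G)).toFinset
    have hWs : ∀ {a}, a ∈ Ws ↔ a ∈ S.cq w := fun {a} => by simp [Ws]
    have hcard : Ws.card = 32 := by
      rw [← Nat.card_eq_finsetCard, Nat.card_congr (Equiv.subtypeEquivRight fun a => hWs (a := a))]
      show Nat.card (S.cq w) = 32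
      rw [d.cq_eq, S.card_pre, ← d.img_eq_fix.1, d.img_eq_fix.2]
    have hA := p36_elem_card (Ws.image (S.μ g))
      (fun x hx => by
        obtain ⟨a, ha, rfl⟩ := Finset.mem_image.mp hx
        rw [← S.μ_mul (hcw' (hWs.mp ha)) (hcw' (hWs.mp ha)), d.cq_sq (hWs.mp ha), S.μ_one])
      (fun x hx y hy => by
        obtain ⟨a, ha, rfl⟩ := Finset.mem_image.mp hx
        obtain ⟨b, hb, rfl⟩ := Finset.mem_image.mp hy
        rw [← S.μ_mul (hcw' (hWs.mp ha)) (hcw' (hWs.mp hb)), ← S.μ_mul (hcw' (hWs.mp hb)) (hcw' (hWs.mp ha)),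
          d.cq_comm (hWs.mp ha) (hWs.mp hb)])
    obtain ⟨a, ha, b, hb, hne, e⟩ := Finset.exists_ne_map_eq_of_card_lt_of_maps_to (s := Ws)
      (t := Ws.image (S.μ g)) (by omega) (fun a ha => Finset.mem_image_of_mem _ ha)
    refine ⟨a⁻¹ * b, mul_mem (inv_mem (hWs.mp ha)) (hWs.mp hb), ?_, fun h1 => hne (inv_mul_eq_one.mp h1)⟩
    rw [S.μ_mul (hcw' (inv_mem (hWs.mp ha))) (hcw' (hWs.mp hb)), S.μ_inv (hcw' (hWs.mp ha)), e,
      inv_mul_cancel]
  -- shape of kernel elements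
  have hker : ∀ {q}, q ∈ Q → S.μ g (cm w q) = 1 → cm w q = 1 := by
    intro q hq hμ
    have hrw := hcw' (d.cm_cq hq)
    have hrQ : g⁻¹ * cm w q * g ∈ Q := (S.π_eq_one _ (S.back_commute hrw)).mp hμ
    obtain ⟨hy, hy2⟩ := d.conj_pair (q := q)
    rw [hy2] at hy
    have e := hin _ hy (mul_mem S.h.z_mem hrQ)
    rw [mul_eq_left] at e
    calc cm w q = g * (g⁻¹ * cm w q * g) * g⁻¹ := by group
      _ = 1 := by rw [e, mul_one, mul_inv_cancel]
  have hshape : ∀ {a}, a ∈ S.cq w → S.μ g a = 1 → a ≠ 1 →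
      ∃ q ∈ Q, a = z * cm w q ∧ S.ψ (cm w q) ≠ 0 := by
    intro a ha hμ hne
    obtain ⟨q, hq, r | r⟩ := d.decomp (S.mem_cq.mp ha).1 (S.ψ_cq_mem d.hw ha)
    · exact absurd (r.trans (hker hq (r ▸ hμ))) hne
    refine ⟨q, hq, r, fun h0 => ?_⟩
    rcases S.h.eq_or ((S.ψ_eq_zero _ (S.cm_mem d.hw S.conj_sq hq)).mp h0) with e | e
    · exact hμz (by rw [r, e, mul_one] at hμ; exact hμ)
    · exact hne (by rw [r, e, S.h.mul_self_z])
  -- pairing of kernel elements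
  have hpair : ∀ {q q'}, q ∈ Q → q' ∈ Q → S.μ g (z * cm w q) = 1 → S.μ g (z * cm w q') = 1 →
      S.ψ (cm w q) ≠ S.ψ (cm w q') → S.B (S.ψ q') (S.ψ (cm w q)) = 1 := by
    intro q q' hq hq' h1 h2 hne
    refine ne_zero_iff.mp fun h0 => hne ?_
    have hr := d.cm_cq hq
    have hr' := d.cm_cq hq'
    have hcom := (S.sq_mul_sq hq' (S.mem_cq.mp hr).1).mp h0
    have e : cm w (q * q') = cm w q' * cm w q := by
      rw [cm_mul S.conj_sq, mul_assoc q'⁻¹, ← hcom.eq, inv_mul_cancel_left]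
    have h3 := hker (mul_mem hq hq') (by
      rw [e, S.μ_mul (hcw' hr') (hcw' hr)]
      rw [S.μ_mul hzw (hcw' hr)] at h1
      rw [S.μ_mul hzw (hcw' hr')] at h2
      rw [eq_inv_of_mul_eq_one_right h1, eq_inv_of_mul_eq_one_right h2, ← mul_inv_rev,
        ← S.μ_mul hzw hzw, S.h.mul_self_z, S.μ_one, inv_one])
    rw [e] at h3
    rw [eq_inv_of_mul_eq_one_left h3, S.ψ_inv (S.mem_cq.mp hr).1]
  obtain ⟨q, hq, rk, hi0⟩ := hshape hk0 hk0μ hk01
  rw [rk] at hk0μ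
  set i := S.ψ (cm w q) with hidef
  have hactc : ∀ u, S.act c u = S.T u := fun u => by rw [← S.ρ_π hcz, hcπ]; rfl
  have hcq : c * q * c⁻¹ ∈ Q := S.h.conj_mem hcz hq
  have hμc : ∀ {y}, Commute y w → S.μ g y = 1 → ∀ {t}, Commute t z → Commute t w → S.μ g (t * y * t⁻¹) = 1 := by
    intro y hy h1 t htz htw
    have htg := S.back_commute htw
    rw [μ, show g⁻¹ * (t * y * t⁻¹) * g = g⁻¹ * t * g * (g⁻¹ * y * g) * (g⁻¹ * t * g)⁻¹ by group,
      S.π_conj htg (S.back_commute hy)]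
    change S.π (g⁻¹ * t * g) * S.μ g y * _ = 1
    rw [h1, mul_one, mul_inv_cancel]
  have hTk : S.μ g (z * cm w (c * q * c⁻¹)) = 1 := by
    rw [S.cm_conj hcw, show z * (c * cm w q * c⁻¹) = c * (z * cm w q) * c⁻¹ by
      rw [← mul_assoc c, hcz.eq]; group]
    exact hμc (hzw.mul_left (hcw' (d.cm_cq hq))) hk0μ hcz hcw
  have hψT : S.ψ (cm w (c * q * c⁻¹)) = S.T i := by
    rw [S.cm_conj hcw, S.ψ_conj c hcz _ (S.cm_mem d.hw S.conj_sq hq), hactc]
  have hiT : i ≠ S.T i := fun e => hi0 (S.caseA_free h.case e.symm)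
  have hflag : S.B (S.T (S.ψ q)) i = 1 := by
    have := hpair hq hcq hk0μ hTk (by rw [hψT]; exact hiT)
    rwa [S.ψ_conj c hcz q hq, hactc] at this
  have hplane : ∀ {q'}, q' ∈ Q → S.μ g (z * cm w q') = 1 → S.ψ (cm w q') ≠ i →
      S.ψ (cm w q') ≠ S.T i → S.ψ (cm w q') = S.T (S.T i) := by
    intro q' hq' h' n1 n2
    by_contra n3
    rw [S.caseA_TT h.case] at n3
    set j := S.ψ (cm w q') with hjdef
    -- the product of the other two
    have b1 : S.B (S.ψ q) j = 1 := hpair hq' hq h' hk0μ n1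
    have b2 : S.B (S.T (S.ψ q)) j = 1 := by
      have := hpair hq' hcq h' hTk (by rw [hψT]; exact n2)
      rwa [S.ψ_conj c hcz q hq, hactc] at this
    set q'' := q * (c * q * c⁻¹) with hq''
    have hq''Q : q'' ∈ Q := mul_mem hq hcq
    have hψ'' : S.ψ (cm w q'') = i + S.T i := by
      rw [S.ψ_cm d.hw S.conj_sq hq''Q, hq'', S.ψ_mul _ hq _ hcq, S.act_add d.hw, ← hψT, hidef,
        S.ψ_cm d.hw S.conj_sq hq, S.ψ_cm d.hw S.conj_sq hcq]
      abel
    have hkk : S.μ g (z * cm w q'') = 1 := by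
      have hz1 : cm w q'' = z * (cm w (c * q * c⁻¹) * cm w q) := by
        have hq'1 := S.h.conj_eq_or (inv_mem hcq) (S.mem_cq.mp (d.cm_cq hq)).1
        rw [inv_inv] at hq'1
        rw [hq'', cm_mul S.conj_sq]
        rcases hq'1 with e | e
        · exfalso
          have e' : S.B (S.ψ (c * q * c⁻¹)) i = 0 := by
            rw [hidef]
            refine (S.sq_mul_sq hcq (S.mem_cq.mp (d.cm_cq hq)).1).mpr ?_
            rw [mul_assoc] at e
            exact (inv_mul_eq_iff_eq_mul.mp e).symm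
          rw [S.ψ_conj c hcz q hq, hactc, hflag] at e'
          exact one_ne_zero e'
        · rw [e, ← mul_assoc, ← mul_assoc,
            (S.h.commute_z (S.mem_cq.mp (d.cm_cq hcq)).1).eq]
      have ha1 := hcw' (d.cm_cq hcq)
      have ha2 := hcw' (d.cm_cq hq)
      rw [hz1, ← mul_assoc, S.h.mul_self_z, one_mul, S.μ_mul ha1 ha2]
      have e1 := hTk
      have e2 := hk0μ
      rw [S.μ_mul hzw ha1] at e1
      rw [S.μ_mul hzw ha2] at e2
      rw [eq_inv_of_mul_eq_one_right e1, eq_inv_of_mul_eq_one_right e2, ← mul_inv_rev,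
        ← S.μ_mul hzw hzw, S.h.mul_self_z, S.μ_one, inv_one]
    have b3 := hpair hq' hq''Q h' hkk (by rw [hψ'']; exact n3)
    rw [hq'', S.ψ_mul _ hq _ hcq, S.B_add, S.ψ_conj c hcz q hq, hactc, b1, b2] at b3
    exact absurd b3 (by decide)
  -- the witness
  obtain ⟨n, hn, hψn⟩ := h.surjective (S.ψ q)
  have hi : i = S.ev v (lin M n ^^^ n) := by
    rw [hidef, S.ψ_cm d.hw S.conj_sq hq, ← hψn, d.agree, S.ev_xor]
  simp only [linesMove, List.all_eq_true, List.mem_range, Bool.or_eq_true, beq_iff_eq, Bool.not_eq_true',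
    List.any_eq_true, Bool.and_eq_true, bne_iff_ne] at hlines
  rcases hlines n hn with (e | e) | ⟨en, hen, ⟨⟨hcc, m1⟩, m2⟩, m3⟩
  · exact hi0 (by rw [hi, e, S.ev_zero])
  · rw [← hψn, hi, ← h.lin_th, h.B_ev (lin_lt _ _) (xor_lt (lin_lt _ _) hn), e] at hflag
    exact absurd hflag (by decide)
  obtain ⟨σ, hσc, hσ⟩ := h.agree_table hen
  rw [← hσc, cc_iff] at hcc
  obtain ⟨t, htz, htπ, hor⟩ := d.class_or (S.R_six hσ.1) (Prod.ext (by simp) (by simpa using hcc))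
  rcases hor with htw | htw
  · have htw' : Commute t w := mul_inv_eq_iff_eq_mul.mp htw
    have htq : t * q * t⁻¹ ∈ Q := S.h.conj_mem htz hq
    have hkt : S.μ g (z * cm w (t * q * t⁻¹)) = 1 := by
      rw [S.cm_conj htw', show z * (t * cm w q * t⁻¹) = t * (z * cm w q) * t⁻¹ by
        rw [← mul_assoc t, htz.eq]; group]
      exact hμc (hzw.mul_left (hcw' (d.cm_cq hq))) hk0μ htz htw'
    have hψt : S.ψ (cm w (t * q * t⁻¹)) = S.ev v (lin en.2 (lin M n ^^^ n)) := by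
      rw [S.cm_conj htw', S.ψ_conj t htz _ (S.cm_mem d.hw S.conj_sq hq), ← S.ρ_π htz, htπ]
      rw [← hidef, hi]
      exact hσ.2 _
    have := hplane htq hkt (fun e => m1 (h.injective (lin_lt _ _) (xor_lt (lin_lt _ _) hn)
        (hψt.symm.trans (e.trans hi))))
      (fun e => m2 (h.injective (lin_lt _ _) (lin_lt _ _) (by rw [← hψt, e, hi, h.lin_th])))
    exact m3 (h.injective (lin_lt _ _) (lin_lt _ _) (by rw [← hψt, this, hi, h.lin_th, h.lin_th]))
  · -- then `z w` is a conjugate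
    have hy : IsConj z (z * w) := (S.conj_isConj g).trans (isConj_iff.mpr ⟨t, htw⟩)
    have hconj : IsConj z (g⁻¹ * (w * (z * cm w q)) * g) := by
      refine hy.trans ((isConj_iff.mpr ⟨g⁻¹ * q⁻¹, ?_⟩))
      have hqz : q⁻¹ * z * q = z := by
        rw [mul_assoc, ← (S.commute_of_mem hq).eq, inv_mul_cancel_left]
      calc g⁻¹ * q⁻¹ * (z * w) * (g⁻¹ * q⁻¹)⁻¹ = g⁻¹ * ((q⁻¹ * z * q) * (q⁻¹ * w * q)) * g := by group
        _ = g⁻¹ * (w * (z * cm w q)) * g := by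
          rw [hqz, conj_eq_cm S.conj_sq q, ← mul_assoc z, hzw.eq, mul_assoc w z]
    have hrw : Commute (z * cm w q) w := hzw.mul_left (hcw' (d.cm_cq hq))
    have hkQ : g⁻¹ * (z * cm w q) * g ∈ Q := (S.π_eq_one _ (S.back_commute hrw)).mp hk0μ
    have e : g⁻¹ * (w * (z * cm w q)) * g = z * (g⁻¹ * (z * cm w q) * g) := by rw [hwdef]; group
    rw [e] at hconj
    have e' := hin _ hconj (mul_mem S.h.z_mem hkQ)
    rw [mul_eq_left] at e'
    refine hk01 ?_
    calc k0 = g * (g⁻¹ * (z * cm w q) * g) * g⁻¹ := by rw [rk]; group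
      _ = 1 := by rw [e', mul_one, mul_inv_cancel]

end Six

end Setting

end CfsgLib.S3A6
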