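import Cfsg.Agent.Lib.Invol.S3A6.RankTwo
import Cfsg.Agent.Lib.Invol.S3A6.Pure
import Cfsg.Agent.Lib.Invol.S3A6.Sixteen

/-!
Owner: helper13. The case without fixed vectors.
-/

set_option autoImplicit false
set_option linter.unusedSectionVars false
set_option maxRecDepth 100000

namespace CfsgLib.S3A6

open Cfsg CfsgLib.ThreeTrans Equiv Model

theorem rep_facts : Perm.sign g0 = 1 ∧ Perm.sign s0 ≠ 1 ∧ Perm.sign (g0 * s0) ≠ 1 ∧ g0 * (g0 * s0) = s0 := by
  decide +kernel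

namespace Setting

variable {G : Type*} [Group G] [Finite G] {z : G} {Q : Subgroup G} (S : Setting z Q)
include S

/-- Conjugation of a conjugate by a lift of an even permutation. -/
theorem move_rep {g : G} (hw : Commute (g * z * g⁻¹) z) (hwQ : g * z * g⁻¹ ∉ Q) {s : P6}
    (hπ : S.π (g * z * g⁻¹) = ((1, s) : P36)) {h : P6} (hh : Perm.sign h = 1) :
    ∃ c, Commute c z ∧ Commute (c * g * z * (c * g)⁻¹) z ∧ c * g * z * (c * g)⁻¹ ∉ Q ∧
      S.π (c * g * z * (c * g)⁻¹) = ((1, h * s * h⁻¹) : P36) ∧ (c * g)⁻¹ * z * (c * g) = g⁻¹ * z * g := by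
  obtain ⟨c, hcz, hcπ⟩ := S.R_six hh
  have e : c * g * z * (c * g)⁻¹ = c * (g * z * g⁻¹) * c⁻¹ := by group
  refine ⟨c, hcz, ?_, ?_, ?_, ?_⟩
  · rw [e]; exact (hcz.mul_left hw).mul_left hcz.inv_left
  · rw [e]
    intro hin
    refine hwQ ?_
    have := S.h.conj_mem hcz.inv_left hin
    rwa [show c⁻¹ * (c * (g * z * g⁻¹) * c⁻¹) * c⁻¹⁻¹ = g * z * g⁻¹ by group] at this
  · rw [e, S.π_conj hcz hw, hcπ, hπ]
    exact Prod.ext (by simp) (by simp)
  · rw [show (c * g)⁻¹ * z * (c * g) = g⁻¹ * (c⁻¹ * (z * c)) * g by group, ← hcz.eq, inv_mul_cancel_left]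

theorem snd_facts {g : G} (hw : Commute (g * z * g⁻¹) z) (hwQ : g * z * g⁻¹ ∉ Q) {s : P6}
    (hπ : S.π (g * z * g⁻¹) = ((1, s) : P36)) : s * s = 1 ∧ s ≠ 1 := by
  refine ⟨?_, fun e => hwQ ((S.π_eq_one _ hw).mp (by rw [hπ, e]; rfl))⟩
  have h := congrArg S.π (S.conj_sq (g := g))
  rw [S.π_mul _ _ hw hw, S.π_one, hπ] at h
  exact congrArg Prod.snd h

namespace Start

variable {S} {k : Bool} {v : V} (h : S.Start k v)
include h

theorem six_even {g : G} (hw : Commute (g * z * g⁻¹) z) (hwQ : g * z * g⁻¹ ∉ Q) {s : P6}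
    (hπ : S.π (g * z * g⁻¹) = ((1, s) : P36)) (hs : Perm.sign s = 1) :
    ∃ c, (c * g)⁻¹ * z * (c * g) = g⁻¹ * z * g ∧ S.Six k v (c * g) g0 (gM k) := by
  obtain ⟨hs2, hs1⟩ := S.snd_facts hw hwQ hπ
  obtain ⟨f, hf, hrep⟩ := exists_conj_rep hs2 hs1
  have hsign : Perm.sign (f * s * f⁻¹) = 1 := by
    simp only [map_mul, map_inv, hs, mul_one, mul_inv_cancel]
  have hg : f * s * f⁻¹ = g0 := by
    rcases hrep with e | e | e
    · exact e
    · rw [e] at hsign; exact absurd hsign rep_facts.2.1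
    · rw [e] at hsign; exact absurd hsign rep_facts.2.2.1
  obtain ⟨c, hcz, h1, h2, h3, h4⟩ := S.move_rep hw hwQ hπ hf
  rw [hg] at h3
  have h0 := check_sixteen k
  simp only [Bool.and_eq_true] at h0
  refine ⟨c, h4, h, h1, h2, h3, fun n => ?_, h0.1.1⟩
  rw [← S.ρ_π h1, h3]
  exact h.agree_g.2 n

theorem no_phi (u : V) : ¬ S.Phi u := by
  intro hu
  rcases h.phi_cases hu with h5 | h17
  · exact h.rk2_no_phi h5
  obtain ⟨g, hw, hwQ, τ, τ', -, -, hτs, hτ'1, hτ'2, hτ's, hπ, hπu⟩ := h.pure_witness h17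
  obtain ⟨c, hcu, d⟩ := h.six_even hw hwQ hπ hτs
  have h0 := check_long_image k
  simp only [List.any_eq_true, List.mem_range, Bool.and_eq_true, Bool.not_eq_true'] at h0
  obtain ⟨n, hn, hlong, hflat⟩ := h0
  exact h.rk2_no_phi (d.long_phi hτ'1 hτ'2 hτ's (by rw [hcu]; exact hπu) hn hlong hflat)

theorem not_even {g : G} (hw : Commute (g * z * g⁻¹) z) (hwQ : g * z * g⁻¹ ∉ Q) {s : P6}
    (hπ : S.π (g * z * g⁻¹) = ((1, s) : P36)) (hs : Perm.sign s = 1) : False := by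
  obtain ⟨c, -, d⟩ := h.six_even hw hwQ hπ hs
  have h0 := check_lines k
  simp only [Bool.and_eq_true] at h0
  exact d.no_phi_false h.no_phi (by rw [(genC_eq k).2.2]; exact h0.1.2)

theorem agree_odd (hR : S.R (1, s0)) (n : ℕ) :
    S.ρ (1, g0 * s0) (S.ev v n) = S.ev v (lin (cmp (gM k) (sM k)) n) := by
  have hg := h.agree_g
  have hR' : S.R (1, g0) := S.R_six hg.1
  have e : ∀ u, S.ρ (1, g0 * s0) u = S.A g0 (S.ρ (1, s0) u) := fun u => by
    simp only [A]
    rw [← S.ρ_mul hR' hR, Prod.mk_mul_mk, one_mul]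
  refine (S.ev_lin v (fun a b => ?_) _ (fun i hi => ?_) n).symm
  · rw [e, e, e, S.ρ_add hR, S.A_add hg.1]
  · rw [byte_cmp _ _ hi, ← hg.2, e, ← lin_two_pow (sM k) i hi, ← h.lin_s hR, S.ev_two_pow v i hi]

theorem odd {y : G} (hy : IsConj z y) (hyz : Commute y z) (hyQ : y ∉ Q) : chi (S.π y) ≠ 1 := by
  classical
  intro hchi
  obtain ⟨g, rfl⟩ := isConj_iff.mp hy
  have h2 : S.π (g * z * g⁻¹) * S.π (g * z * g⁻¹) = 1 := by
    rw [← S.π_mul _ _ hyz hyz, S.conj_sq, S.π_one]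
  obtain ⟨s, hπ⟩ : ∃ s, S.π (g * z * g⁻¹) = ((1, s) : P36) :=
    ⟨_, Prod.ext (p3_even_inv _ (congrArg Prod.fst h2) hchi) rfl⟩
  by_cases hs : Perm.sign s = 1
  · exact h.not_even hyz hyQ hπ hs
  obtain ⟨hs2, hs1⟩ := S.snd_facts hyz hyQ hπ
  obtain ⟨f, hf, hrep⟩ := exists_conj_rep hs2 hs1
  have hsign : Perm.sign (f * s * f⁻¹) ≠ 1 := by
    simp only [map_mul, map_inv, hf, one_mul, inv_one, mul_one]
    exact hs
  obtain ⟨c, hcz, h1, h2', h3, -⟩ := S.move_rep hyz hyQ hπ hf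
  obtain ⟨r, hr, hπr⟩ : ∃ r, (r = s0 ∨ r = g0 * s0) ∧ S.π (c * g * z * (c * g)⁻¹) = ((1, r) : P36) := by
    refine ⟨_, ?_, h3⟩
    rcases hrep with e | e | e
    · rw [e] at hsign; exact absurd rep_facts.1 hsign
    · exact Or.inl e
    · exact Or.inr e
  have hRr : S.R (1, r) := hπr ▸ S.R_π h1
  have hR : S.R (1, s0) := by
    rcases hr with rfl | rfl
    · exact hRr
    · have := S.R_mul (S.R_six rep_facts.1) hRr
      rwa [Prod.mk_mul_mk, one_mul, rep_facts.2.2.2] at this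
  have hact : ∀ M, (∀ n, S.ρ (1, r) (S.ev v n) = S.ev v (lin M n)) →
      ∀ n, S.act (c * g * z * (c * g)⁻¹) (S.ev v n) = S.ev v (lin M n) := fun M hM n => by
    rw [← S.ρ_π h1, hπr]; exact hM n
  have h16 := check_sixteen k
  simp only [Bool.and_eq_true, beq_iff_eq] at h16
  have hl := check_lines k
  simp only [Bool.and_eq_true] at hl
  have big : ∀ M, ((List.range 256).filter fun n => lin M n == n).length = 64 →
      (∀ n, S.act (c * g * z * (c * g)⁻¹) (S.ev v n) = S.ev v (lin M n)) → False := by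
    intro M hlen hM
    set x := c * g with hx
    have hfix : 64 ≤ (S.fix (x * z * x⁻¹)).card := by
      rw [← hlen, ← List.toFinset_card_of_nodup (List.nodup_range.filter fun n => lin M n == n),
        ← Finset.card_image_of_injOn (f := S.ev v)]
      · refine Finset.card_le_card fun u hu => ?_
        obtain ⟨n, hn, rfl⟩ := Finset.mem_image.mp hu
        rw [S.mem_fix, hM, beq_iff_eq.mp (List.mem_filter.mp (List.mem_toFinset.mp hn)).2]
      · intro a ha b hb e'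
        exact h.injective (List.mem_range.mp (List.mem_filter.mp (List.mem_toFinset.mp ha)).1)
          (List.mem_range.mp (List.mem_filter.mp (List.mem_toFinset.mp hb)).1) e'
    have himg := S.card_fix_mul_img h1
    obtain ⟨a, ha, ha2⟩ : ∃ a ∈ S.cq (x * z * x⁻¹), a * a ≠ 1 := by
      by_contra hcon
      push Not at hcon
      have h8 := Nat.mul_le_mul hfix (S.eight_le_img h1 hcon)
      omega
    have haz : a * a = z := (S.h.eq_or (S.h.sq_mem (S.mem_cq.mp ha).1)).resolve_left ha2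
    have hu : S.π (x⁻¹ * z * x) = S.μ x a * S.μ x a := by
      rw [← S.μ_mul (S.mem_cq.mp ha).2 (S.mem_cq.mp ha).2, haz]
      rfl
    have hux : Commute (x⁻¹ * z * x⁻¹⁻¹) z := by rw [inv_inv]; exact S.back_commute h1.symm
    have huQ : x⁻¹ * z * x⁻¹⁻¹ ∉ Q := by
      intro hin
      have e : x⁻¹ * z * x⁻¹⁻¹ = z := by
        by_contra hne
        exact h.no_phi _ (S.phi_of (S.conj_isConj _) hin hne)
      refine h2' ?_
      rw [inv_inv] at e
      rw [show x * z * x⁻¹ = x * (x⁻¹ * z * x) * x⁻¹ by rw [e], show x * (x⁻¹ * z * x) * x⁻¹ = z by group]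
      exact S.h.z_mem
    have hpi : S.π (x⁻¹ * z * x⁻¹⁻¹) = ((1, (S.μ x a).2 * (S.μ x a).2) : P36) := by
      rw [inv_inv, hu]
      refine Prod.ext ?_ rfl
      refine p3_even_inv _ ?_ ?_
      · have h3 := congrArg S.π (S.conj_sq (g := x⁻¹))
        rw [S.π_mul _ _ hux hux, S.π_one, inv_inv, hu] at h3
        exact congrArg Prod.fst h3
      · show Perm.sign ((S.μ x a).1 * (S.μ x a).1) = 1
        rw [map_mul]; exact Int.units_mul_self _
    exact h.not_even hux huQ hpi (by rw [map_mul]; exact Int.units_mul_self _)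
  cases k with
  | false =>
    rcases hr with rfl | rfl
    · exact big _ h16.2 (hact _ (h.lin_s hR))
    · exact (Six.no_phi_false (⟨h, h1, h2', hπr, hact _ (h.agree_odd hR), h16.1.2⟩ :
        S.Six false v (c * g) (g0 * s0) (cmp (gM false) (sM false))) h.no_phi hl.2)
  | true =>
    rcases hr with rfl | rfl
    · exact (Six.no_phi_false (⟨h, h1, h2', hπr, hact _ (h.lin_s hR), h16.1.2⟩ :
        S.Six true v (c * g) s0 (sM true)) h.no_phi hl.2)
    · exact big _ h16.2 (hact _ (h.agree_odd hR))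

end Start

end Setting

end CfsgLib.S3A6
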