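import Cfsg.Agent.Lib.Invol.S3A6.Setting
import Mathlib.GroupTheory.Perm.Cycle.Type
import Mathlib.GroupTheory.SpecificGroups.Alternating.Simple

/-!
Owner: helper13. Counting in small quadratic spaces over two elements with a fixed-point-free element of
order three, and an element of order five commuting with it.
-/

set_option autoImplicit false
set_option linter.unusedSectionVars false

namespace CfsgLib.S3A6

open Cfsg

/-- A map of order dividing five on a finite set has the same number of fixed points modulo five. -/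
theorem card_fixed_mod {α : Type*} [DecidableEq α] (s : Finset α) (F : α → α)
    (hs : ∀ x ∈ s, F x ∈ s) (h5 : ∀ x ∈ s, F (F (F (F (F x)))) = x) :
    s.card % 5 = (s.filter fun x => F x = x).card % 5 := by
  classical
  haveI : Fact (Nat.Prime 5) := ⟨Nat.prime_five⟩
  let f : Function.End s := fun x => ⟨F x, hs x x.2⟩
  have hf : f ^ 5 ^ 1 = 1 := funext fun x => Subtype.ext (h5 x x.2)
  have h := Equiv.Perm.card_fixedPoints_modEq hf
  rw [Fintype.card_coe] at h
  have hc : Fintype.card (Function.fixedPoints f) = (s.filter fun x => F x = x).card := by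
    rw [← Fintype.card_coe (s.filter fun x => F x = x)]
    exact Fintype.card_congr
      { toFun := fun x => ⟨(x : ↥s), Finset.mem_filter.mpr ⟨x.1.2, congrArg Subtype.val x.2⟩⟩
        invFun := fun x => ⟨⟨x, (Finset.mem_filter.mp x.2).1⟩, Subtype.ext (Finset.mem_filter.mp x.2).2⟩
        left_inv := fun _ => rfl
        right_inv := fun _ => rfl }
  rw [hc] at h
  exact h

theorem exists_fixed {α : Type*} [DecidableEq α] (s : Finset α) (F : α → α)
    (hs : ∀ x ∈ s, F x ∈ s) (h5 : ∀ x ∈ s, F (F (F (F (F x)))) = x) (hc : ¬ 5 ∣ s.card) :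
    ∃ x ∈ s, F x = x := by
  classical
  by_contra hcon
  push Not at hcon
  have h := card_fixed_mod s F hs h5
  rw [show (s.filter fun x => F x = x) = ∅ from Finset.filter_eq_empty_iff.mpr hcon, Finset.card_empty] at h
  omega

/-- Sets of vectors closed under sums. -/
structure IsSub (U : Finset V) : Prop where
  zero : (0 : V) ∈ U
  add : ∀ {u v}, u ∈ U → v ∈ U → u + v ∈ U

theorem IsSub.exists_card {U : Finset V} (hU : IsSub U) : ∃ k ≤ 8, U.card = 2 ^ k := by
  let K : AddSubgroup V :=
    { carrier := (U : Set V)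
      add_mem' := fun ha hb => Finset.mem_coe.mpr (hU.add ha hb)
      zero_mem' := Finset.mem_coe.mpr hU.zero
      neg_mem' := fun {a} ha => by rwa [show -a = a from neg_eq_of_add_eq_zero_left (v_add_self a)] }
  have h1 : Nat.card K = U.card := Nat.card_eq_finsetCard U
  have h2 : Nat.card V = 2 ^ 8 := by simp [V]
  have h3 := K.card_addSubgroup_dvd_card
  rw [h1, h2, Nat.dvd_prime_pow Nat.prime_two] at h3
  exact h3

theorem IsSub.filter {U : Finset V} (hU : IsSub U) (F : V → V) (hF : ∀ u ∈ U, ∀ v ∈ U, F (u + v) = F u + F v)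
    (h0 : F 0 = 0) : IsSub (U.filter fun v => F v = v) := by
  refine ⟨Finset.mem_filter.mpr ⟨hU.zero, h0⟩, fun {u v} hu hv => ?_⟩
  rw [Finset.mem_filter] at hu hv ⊢
  exact ⟨hU.add hu.1 hv.1, by rw [hF u hu.1 v hv.1, hu.2, hv.2]⟩

theorem IsSub.filter_form {U : Finset V} (hU : IsSub U) (b : V → ZMod 2)
    (hb : ∀ u v, b (u + v) = b u + b v) (h0 : b 0 = 0) : IsSub (U.filter fun v => b v = 0) := by
  refine ⟨Finset.mem_filter.mpr ⟨hU.zero, h0⟩, fun {u v} hu hv => ?_⟩
  rw [Finset.mem_filter] at hu hv ⊢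
  exact ⟨hU.add hu.1 hv.1, by rw [hb, hu.2, hv.2, add_zero]⟩

namespace Setting

variable {G : Type*} [Group G] [Finite G] {z : G} {Q : Subgroup G} (S : Setting z Q)

/-- A set of vectors that is nondegenerate for the form. -/
def Nondeg (U : Finset V) : Prop := ∀ u ∈ U, (∀ v ∈ U, S.B u v = 0) → u = 0

theorem exists_q_one {U : Finset V} (hU : IsSub U) (hn : S.Nondeg U) (h : 1 < U.card) : ∃ v ∈ U, S.q v = 1 := by
  by_contra hcon
  push Not at hcon
  have hq : ∀ v ∈ U, S.q v = 0 := fun v hv => (two_cases _).resolve_right (hcon v hv)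
  obtain ⟨u, hu, hne⟩ : ∃ u ∈ U, u ≠ 0 := Finset.exists_mem_ne h 0
  exact hne (hn u hu fun v hv => by simp only [B, hq _ (hU.add hu hv), hq u hu, hq v hv]; decide)

/-- A fixed-point-free element of order three on a set of vectors. -/
structure Fpf (T : V → V) (U : Finset V) : Prop where
  sub : IsSub U
  map : ∀ v ∈ U, T v ∈ U
  three : ∀ v ∈ U, T (T v) = v + T v
  q_eq : ∀ v ∈ U, S.q (T v) = S.q v
  add : ∀ u ∈ U, ∀ v ∈ U, T (u + v) = T u + T v
  nondeg : S.Nondeg U

namespace Fpf

variable {S} {T : V → V} {U : Finset V} (h : S.Fpf T U)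
include h

theorem map_zero : T 0 = 0 := by
  have := h.add 0 h.sub.zero 0 h.sub.zero
  rw [add_zero, v_add_self] at this
  exact this

theorem cube {v : V} (hv : v ∈ U) : T (T (T v)) = v := by
  rw [h.three _ (h.map v hv), h.three v hv, add_left_comm, v_add_self, add_zero]

theorem B_map {u v : V} (hu : u ∈ U) (hv : v ∈ U) : S.B (T u) (T v) = S.B u v := by
  simp only [Setting.B, ← h.add u hu v hv, h.q_eq _ (h.sub.add hu hv), h.q_eq u hu, h.q_eq v hv]

theorem B_pair {v : V} (hv : v ∈ U) : S.B v (T v) = S.q v := by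
  have e1 := h.q_eq _ (h.map v hv)
  rw [h.three v hv, h.q_eq v hv, S.q_add, h.q_eq v hv] at e1
  rcases two_cases (S.q v) with a | a <;> rw [a] at e1 ⊢ <;>
    rcases two_cases (S.B v (T v)) with b | b <;> rw [b] at e1 ⊢ <;> revert e1 <;> decide

/-- The orthogonal of the line of an anisotropic vector. -/
theorem reduce {v : V} (hv : v ∈ U) (hq : S.q v = 1) :
    S.Fpf T (U.filter fun w => S.B v w = 0 ∧ S.B (T v) w = 0) ∧
      U.card = 4 * (U.filter fun w => S.B v w = 0 ∧ S.B (T v) w = 0).card ∧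
      (U.filter fun w => S.q w = 1).card =
        3 * ((U.filter fun w => S.B v w = 0 ∧ S.B (T v) w = 0).filter fun w => S.q w = 0).card +
          ((U.filter fun w => S.B v w = 0 ∧ S.B (T v) w = 0).filter fun w => S.q w = 1).card := by
  classical
  set W := U.filter fun w => S.B v w = 0 ∧ S.B (T v) w = 0 with hW
  have hTv := h.map v hv
  have b01 : S.B v (T v) = 1 := (h.B_pair hv).trans hq
  have b10 : S.B (T v) v = 1 := by rw [S.B_comm, b01]
  have q3 : S.q (v + T v) = 1 := by rw [← h.three v hv, h.q_eq _ hTv, h.q_eq v hv, hq]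
  let Y : Finset V := {0, v, T v, v + T v}
  have hne : v ≠ 0 := fun e => by rw [e, S.q_zero] at hq; exact zero_ne_one hq
  have hTne : T v ≠ 0 := fun e => by rw [e, S.B_comm, S.B_zero] at b01; exact zero_ne_one b01
  have hvT : v ≠ T v := fun e => by rw [← e, S.B_self] at b01; exact zero_ne_one b01
  have hY : Y.card = 4 := by
    simp only [Y]
    rw [Finset.card_insert_of_notMem, Finset.card_insert_of_notMem, Finset.card_pair]
    · intro e; exact hne (by rw [← add_zero v, ← v_add_self (T v), ← add_assoc, ← e, v_add_self])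
    · simp only [Finset.mem_insert, Finset.mem_singleton, not_or]
      exact ⟨hvT, fun e => hTne (add_eq_left.mp e.symm)⟩
    · simp only [Finset.mem_insert, Finset.mem_singleton, not_or]
      exact ⟨hne.symm, hTne.symm, fun e => hvT (v_add_eq_zero.mp e.symm)⟩
  have hYsub : ∀ y ∈ Y, y ∈ U := by
    simp only [Y, Finset.mem_insert, Finset.mem_singleton]
    rintro y (rfl | rfl | rfl | rfl)
    exacts [h.sub.zero, hv, hTv, h.sub.add hv hTv]
  have hYB : ∀ y ∈ Y, ∀ w ∈ W, S.B y w = 0 := by
    intro y hy w hw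
    obtain ⟨-, w1, w2⟩ := Finset.mem_filter.mp hw
    simp only [Y, Finset.mem_insert, Finset.mem_singleton] at hy
    rcases hy with rfl | rfl | rfl | rfl
    · exact S.B_zero w
    · exact w1
    · exact w2
    · rw [S.B_add, w1, w2, add_zero]
  have hYinj : ∀ y ∈ Y, S.B v y = 0 → S.B (T v) y = 0 → y = 0 := by
    intro y hy
    simp only [Y, Finset.mem_insert, Finset.mem_singleton] at hy
    rcases hy with rfl | rfl | rfl | rfl
    · exact fun _ _ => rfl
    · intro _ e; rw [b10] at e; exact absurd e one_ne_zero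
    · intro e; rw [b01] at e; exact absurd e one_ne_zero
    · intro e; rw [S.B_add_right, S.B_self, b01, zero_add] at e; exact absurd e one_ne_zero
  have hWsub : IsSub W := by
    refine ⟨Finset.mem_filter.mpr ⟨h.sub.zero, by rw [S.B_comm, S.B_zero], by rw [S.B_comm, S.B_zero]⟩,
      fun {a b} ha hb => ?_⟩
    rw [hW, Finset.mem_filter] at ha hb ⊢
    exact ⟨h.sub.add ha.1 hb.1, by rw [S.B_add_right, ha.2.1, hb.2.1, add_zero],
      by rw [S.B_add_right, ha.2.2, hb.2.2, add_zero]⟩
  have hWmap : ∀ w ∈ W, T w ∈ W := by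
    intro w hw
    obtain ⟨hwU, w1, w2⟩ := Finset.mem_filter.mp hw
    have e2 : S.B (T v) (T w) = 0 := by rw [h.B_map hv hwU, w1]
    have e3 : S.B (T (T v)) (T w) = 0 := by rw [h.B_map hTv hwU, w2]
    rw [h.three v hv, S.B_add, e2, add_zero] at e3
    exact Finset.mem_filter.mpr ⟨h.map w hwU, e3, e2⟩
  have hsplit : ∀ u ∈ U, ∃ y ∈ Y, ∃ w ∈ W, u = y + w := by
    intro u hu
    obtain ⟨y, hy, y1, y2⟩ : ∃ y ∈ Y, S.B v y = S.B v u ∧ S.B (T v) y = S.B (T v) u := by
      have hb : S.B v (v + T v) = 1 ∧ S.B (T v) (v + T v) = 1 :=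
        ⟨by rw [S.B_add_right, S.B_self, b01, zero_add],
          by rw [S.B_add_right, S.B_self, b10, add_zero]⟩
      rcases two_cases (S.B v u) with c | c <;> rcases two_cases (S.B (T v) u) with d | d <;> rw [c, d]
      · exact ⟨0, by simp [Y], by rw [S.B_comm, S.B_zero], by rw [S.B_comm, S.B_zero]⟩
      · exact ⟨v, by simp [Y], S.B_self v, b10⟩
      · exact ⟨T v, by simp [Y], b01, S.B_self _⟩
      · exact ⟨v + T v, by simp [Y], hb.1, hb.2⟩
    refine ⟨y, hy, y + u, Finset.mem_filter.mpr ⟨h.sub.add (hYsub y hy) hu, ?_, ?_⟩, (v_cancel y u).symm⟩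
    · rw [S.B_add_right, y1, z2_add_self]
    · rw [S.B_add_right, y2, z2_add_self]
  have hinj : Set.InjOn (fun p : V × V => p.1 + p.2) ↑(Y ×ˢ W) := by
    rintro ⟨y, w⟩ hp ⟨y', w'⟩ hp' e
    simp only [Finset.coe_product, Set.mem_prod, Finset.mem_coe] at hp hp'
    simp only at e
    have hyy : y + y' = w + w' := by
      rw [← v_add_eq_zero, show y + y' + (w + w') = (y + w) + (y' + w') from add_add_add_comm y y' w w', e,
        v_add_self]
    obtain ⟨-, a1, a2⟩ := Finset.mem_filter.mp (hWsub.add hp.2 hp'.2)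
    rw [← hyy] at a1 a2
    have hmem : y + y' ∈ Y := by
      have c : ∀ a b : V, a + (a + b) = b := v_cancel
      have c' : ∀ a b : V, a + (b + a) = b := fun a b => by rw [add_comm b, c]
      have d : ∀ a b : V, a + b + a = b := fun a b => by rw [add_comm, c]
      have d' : ∀ a b : V, a + b + b = a := fun a b => by rw [add_assoc, v_add_self, add_zero]
      have hy := hp.1
      have hy' := hp'.1
      simp only [Y, Finset.mem_insert, Finset.mem_singleton] at hy hy' ⊢
      rcases hy with rfl | rfl | rfl | rfl <;> rcases hy' with rfl | rfl | rfl | rfl <;>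
        simp [v_add_self, c, c', d, d', add_comm]
    have hy0 := hYinj _ hmem a1 a2
    rw [hy0, eq_comm, v_add_eq_zero] at hyy
    rw [v_add_eq_zero] at hy0
    rw [Prod.mk.injEq]
    exact ⟨hy0, hyy⟩
  have himage : (Y ×ˢ W).image (fun p : V × V => p.1 + p.2) = U := by
    ext u
    constructor
    · intro hu
      obtain ⟨⟨y, w⟩, hp, rfl⟩ := Finset.mem_image.mp hu
      exact h.sub.add (hYsub y (Finset.mem_product.mp hp).1) (Finset.mem_filter.mp (Finset.mem_product.mp hp).2).1
    · intro hu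
      obtain ⟨y, hy, w, hw, rfl⟩ := hsplit u hu
      exact Finset.mem_image.mpr ⟨(y, w), Finset.mem_product.mpr ⟨hy, hw⟩, rfl⟩
  have hqy : ∀ y ∈ Y, S.q y = if y = 0 then 0 else 1 := by
    intro y hy
    simp only [Y, Finset.mem_insert, Finset.mem_singleton] at hy
    rcases hy with rfl | rfl | rfl | rfl
    · rw [if_pos rfl, S.q_zero]
    · rw [if_neg hne, hq]
    · rw [if_neg hTne, h.q_eq _ hv, hq]
    · rw [if_neg (fun e => hvT (v_add_eq_zero.mp e)), q3]
  refine ⟨⟨hWsub, hWmap, fun w hw => h.three w (Finset.mem_filter.mp hw).1,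
    fun w hw => h.q_eq w (Finset.mem_filter.mp hw).1,
    fun a ha b hb => h.add a (Finset.mem_filter.mp ha).1 b (Finset.mem_filter.mp hb).1, ?_⟩, ?_, ?_⟩
  · intro a ha hab
    refine h.nondeg a (Finset.mem_filter.mp ha).1 fun u hu => ?_
    obtain ⟨y, hy, w, hw, rfl⟩ := hsplit u hu
    rw [S.B_add_right, hab w hw, S.B_comm, hYB y hy a ha, add_zero]
  · rw [← congrArg Finset.card himage, Finset.card_image_of_injOn hinj, Finset.card_product, hY]
  · rw [← himage, Finset.filter_image, Finset.card_image_of_injOn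
      (hinj.mono (Finset.coe_subset.mpr (Finset.filter_subset _ _)))]
    have hsum : ((Y ×ˢ W).filter fun p : V × V => S.q (p.1 + p.2) = 1) =
        ((Y.erase 0) ×ˢ (W.filter fun w => S.q w = 0)) ∪ (({0} : Finset V) ×ˢ (W.filter fun w => S.q w = 1)) := by
      ext ⟨y, w⟩
      simp only [Finset.mem_filter, Finset.mem_product, Finset.mem_union, Finset.mem_erase, Finset.mem_singleton]
      constructor
      · rintro ⟨⟨hy, hw⟩, e⟩
        rw [S.q_add, hYB y hy w hw, add_zero, hqy y hy] at e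
        by_cases h0 : y = 0
        · rw [if_pos h0, zero_add] at e
          exact Or.inr ⟨h0, hw, e⟩
        · rw [if_neg h0] at e
          refine Or.inl ⟨⟨h0, hy⟩, hw, (two_cases _).resolve_right fun e' => ?_⟩
          rw [e'] at e
          revert e; decide
      · rintro (⟨⟨h0, hy⟩, hw, e⟩ | ⟨rfl, hw, e⟩)
        · exact ⟨⟨hy, hw⟩, by rw [S.q_add, hYB y hy w hw, add_zero, hqy y hy, if_neg h0, e, add_zero]⟩
        · exact ⟨⟨by simp [Y], hw⟩, by rw [zero_add, e]⟩
    have hdis : Disjoint ((Y.erase 0) ×ˢ (W.filter fun w => S.q w = 0))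
        (({0} : Finset V) ×ˢ (W.filter fun w => S.q w = 1)) := by
      rw [Finset.disjoint_left]
      rintro ⟨y, w⟩ h1 h2
      simp only [Finset.mem_product, Finset.mem_erase, Finset.mem_singleton] at h1 h2
      exact h1.1.1 h2.1
    have hY3 : (Y.erase 0).card = 3 := by
      rw [Finset.card_erase_of_mem (by simp [Y]), hY]
    rw [hsum, Finset.card_union_of_disjoint hdis, Finset.card_product, Finset.card_product, hY3,
      Finset.card_singleton, one_mul]

end Fpf

/-- The possible sizes and numbers of anisotropic vectors. -/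
theorem Fpf.counts {T : V → V} : ∀ {U : Finset V}, S.Fpf T U →
    (U.card = 1 ∧ (U.filter fun w => S.q w = 1).card = 0) ∨
    (U.card = 4 ∧ (U.filter fun w => S.q w = 1).card = 3) ∨
    (U.card = 16 ∧ (U.filter fun w => S.q w = 1).card = 6) ∨
    (U.card = 64 ∧ (U.filter fun w => S.q w = 1).card = 36) ∨
    (U.card = 256 ∧ (U.filter fun w => S.q w = 1).card = 120) := by
  intro U
  induction hn : U.card using Nat.strong_induction_on generalizing U with
  | _ n ih =>
    intro h
    rcases Nat.lt_or_ge 1 U.card with hlt | hge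
    · obtain ⟨v, hv, hq⟩ := S.exists_q_one h.sub h.nondeg hlt
      obtain ⟨hW, hc, hN⟩ := h.reduce hv hq
      set W := U.filter fun w => S.B v w = 0 ∧ S.B (T v) w = 0
      have hsp : (W.filter fun w => S.q w = 0).card + (W.filter fun w => S.q w = 1).card = W.card := by
        rw [← Finset.card_filter_add_card_filter_not (s := W) (fun w => S.q w = 0)]
        congr 2
        exact Finset.filter_congr fun w _ => (ne_zero_iff).symm
      have hle : U.card ≤ 256 := (Finset.card_le_univ U).trans (by simp [V])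
      have := ih W.card (by omega) rfl hW
      omega
    · left
      have hU : U = {0} := (Finset.eq_singleton_iff_unique_mem.mpr
        ⟨h.sub.zero, fun x hx => Finset.card_le_one.mp hge x hx 0 h.sub.zero⟩)
      subst hn
      rw [hU]
      refine ⟨rfl, ?_⟩
      rw [Finset.card_eq_zero, Finset.filter_eq_empty_iff]
      intro x hx e
      rw [Finset.mem_singleton.mp hx, S.q_zero] at e
      exact zero_ne_one e

/-- An element of order five commuting with the element of order three is trivial in small spaces. -/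
theorem Fpf.five_trivial {T F : V → V} : ∀ {U : Finset V}, S.Fpf T U → U.card < 256 →
    (∀ v ∈ U, F v ∈ U) → (∀ u ∈ U, ∀ v ∈ U, F (u + v) = F u + F v) → (∀ v ∈ U, S.q (F v) = S.q v) →
    (∀ v ∈ U, T (F v) = F (T v)) → (∀ v ∈ U, F (F (F (F (F v)))) = v) → ∀ v ∈ U, F v = v := by
  intro U
  induction hn : U.card using Nat.strong_induction_on generalizing U with
  | _ n ih =>
    intro h hlt hF hadd hq hcomm h5 x hx
    rcases Nat.lt_or_ge 1 U.card with h1 | hge
    swap
    · have e1 := Finset.card_le_one.mp hge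
      exact e1 _ (hF x hx) x hx
    have hN : ¬ 5 ∣ (U.filter fun w => S.q w = 1).card := by
      rcases h.counts with ⟨a, b⟩ | ⟨a, b⟩ | ⟨a, b⟩ | ⟨a, b⟩ | ⟨a, b⟩ <;> omega
    obtain ⟨v, hv, hfix⟩ := exists_fixed _ F (fun w hw => by
      rw [Finset.mem_filter] at hw ⊢; exact ⟨hF w hw.1, by rw [hq w hw.1, hw.2]⟩)
      (fun w hw => h5 w (Finset.mem_filter.mp hw).1) hN
    obtain ⟨hvU, hqv⟩ := Finset.mem_filter.mp hv
    have hT : F (T v) = T v := by rw [← hcomm v hvU, hfix]
    obtain ⟨hW, hc, -⟩ := h.reduce hvU hqv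
    set W := U.filter fun w => S.B v w = 0 ∧ S.B (T v) w = 0 with hWd
    have hBF : ∀ a ∈ U, ∀ b ∈ U, S.B (F a) (F b) = S.B a b := fun a ha b hb => by
      simp only [B, ← hadd a ha b hb, hq _ (h.sub.add ha hb), hq a ha, hq b hb]
    have hWsub : ∀ w ∈ W, w ∈ U := fun w hw => (Finset.mem_filter.mp hw).1
    have hWF : ∀ w ∈ W, F w ∈ W := by
      intro w hw
      obtain ⟨hwU, w1, w2⟩ := Finset.mem_filter.mp hw
      refine Finset.mem_filter.mpr ⟨hF w hwU, ?_, ?_⟩
      · rw [← hfix, hBF v hvU w hwU, w1]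
      · rw [← hT, hBF _ (h.map v hvU) w hwU, w2]
    have hrec := ih W.card (by omega) rfl hW (by omega) hWF
      (fun a ha b hb => hadd a (hWsub a ha) b (hWsub b hb)) (fun a ha => hq a (hWsub a ha))
      (fun a ha => hcomm a (hWsub a ha)) (fun a ha => h5 a (hWsub a ha))
    obtain ⟨y, hy, hyFix, b1, b2⟩ : ∃ y ∈ U, F y = y ∧ S.B v y = S.B v x ∧ S.B (T v) y = S.B (T v) x := by
      have hTv := h.map v hvU
      have b01 : S.B v (T v) = 1 := (h.B_pair hvU).trans hqv
      have b10 : S.B (T v) v = 1 := by rw [S.B_comm, b01]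
      rcases two_cases (S.B v x) with c | c <;> rcases two_cases (S.B (T v) x) with d | d <;> rw [c, d]
      · refine ⟨0, h.sub.zero, ?_, by rw [S.B_comm, S.B_zero], by rw [S.B_comm, S.B_zero]⟩
        have := hadd 0 h.sub.zero 0 h.sub.zero
        rwa [add_zero, v_add_self] at this
      · exact ⟨v, hvU, hfix, S.B_self v, b10⟩
      · exact ⟨T v, hTv, hT, b01, S.B_self _⟩
      · exact ⟨v + T v, h.sub.add hvU hTv, by rw [hadd v hvU _ hTv, hfix, hT],
          by rw [S.B_add_right, S.B_self, b01, zero_add], by rw [S.B_add_right, S.B_self, b10, add_zero]⟩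
    have hm : y + x ∈ W := Finset.mem_filter.mpr ⟨h.sub.add hy hx,
      by rw [S.B_add_right, b1, z2_add_self], by rw [S.B_add_right, b2, z2_add_self]⟩
    have := hrec _ hm
    rw [hadd y hy x hx, hyFix] at this
    exact add_left_cancel this

/-- An action of the even permutations of six letters on a four-dimensional nondegenerate space fixes it under
an element of order five. -/
theorem four_space {U : Finset V} (hU : IsSub U) (hc : U.card = 16) (hn : S.Nondeg U) (A : P6 → V → V)
    (c : P6) (hc5 : c ^ 5 = 1) (hcs : Equiv.Perm.sign c = 1)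
    (hmap : ∀ a, Equiv.Perm.sign a = 1 → ∀ v ∈ U, A a v ∈ U)
    (hadd : ∀ a, Equiv.Perm.sign a = 1 → ∀ u ∈ U, ∀ v ∈ U, A a (u + v) = A a u + A a v)
    (hmul : ∀ a b, Equiv.Perm.sign a = 1 → Equiv.Perm.sign b = 1 → ∀ v ∈ U, A (a * b) v = A a (A b v))
    (hone : ∀ v ∈ U, A 1 v = v) (hq : ∀ a, Equiv.Perm.sign a = 1 → ∀ v ∈ U, S.q (A a v) = S.q v) :
    ∀ v ∈ U, A c v = v := by
  classical
  have h5 : ∀ v ∈ U, A c (A c (A c (A c (A c v)))) = v := by
    intro v hv
    have hs : ∀ n : ℕ, Equiv.Perm.sign (c ^ n) = 1 := fun n => by rw [map_pow, hcs, one_pow]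
    have hm : ∀ n : ℕ, A (c ^ (n + 1)) v = A c (A (c ^ n) v) := fun n => by
      rw [pow_succ', hmul _ _ hcs (hs n) v hv]
    have e := hone v hv
    rw [← hc5, hm 4, hm 3, hm 2, hm 1, hm 0, pow_zero, hone v hv] at e
    exact e
  by_contra hcon
  push Not at hcon
  obtain ⟨v0, hv0, hne⟩ := hcon
  have h0 : A c 0 = 0 := by
    have := hadd c hcs 0 hU.zero 0 hU.zero
    rwa [add_zero, left_eq_add] at this
  have hfix : (U.filter fun v => A c v = v).card = 1 := by
    obtain ⟨k, hk, e⟩ := (hU.filter (A c) (hadd c hcs) h0).exists_card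
    have hm := card_fixed_mod U (A c) (hmap c hcs) h5
    have hlt : (U.filter fun v => A c v = v).card < 16 := hc ▸ Finset.card_lt_card
      (Finset.filter_ssubset.mpr ⟨v0, hv0, hne⟩)
    rw [e, hc] at hm
    rw [e] at hlt ⊢
    interval_cases k <;> simp_all
  have hnofix : ∀ v ∈ U, A c v = v → v = 0 := fun v hv e =>
    Finset.card_le_one.mp hfix.le v (Finset.mem_filter.mpr ⟨hv, e⟩) 0 (Finset.mem_filter.mpr ⟨hU.zero, h0⟩)
  -- a set of five vectors cannot be stable
  have five : ∀ X : Finset V, (∀ v ∈ X, v ∈ U ∧ v ≠ 0) → X.card = 5 →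
      (∀ a, Equiv.Perm.sign a = 1 → ∀ v ∈ X, A a v ∈ X) → False := by
    intro X hX h5X hst
    haveI : IsSimpleGroup ↥(alternatingGroup (Fin 6)) := alternatingGroup.isSimpleGroup (by simp)
    let f : ↥(alternatingGroup (Fin 6)) → X → X := fun a v =>
      ⟨A a v, hst a (Equiv.Perm.mem_alternatingGroup.mp a.2) v v.2⟩
    have fm : ∀ a b v, f (a * b) v = f a (f b v) := fun a b v => Subtype.ext
      (hmul a b (Equiv.Perm.mem_alternatingGroup.mp a.2) (Equiv.Perm.mem_alternatingGroup.mp b.2) v (hX v v.2).1)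
    have f1 : ∀ v, f 1 v = v := fun v => Subtype.ext (hone v (hX v v.2).1)
    let hom : ↥(alternatingGroup (Fin 6)) →* Equiv.Perm X :=
      MonoidHom.mk' (fun a => ⟨f a, f a⁻¹, fun v => by rw [← fm, inv_mul_cancel, f1],
        fun v => by rw [← fm, mul_inv_cancel, f1]⟩) (fun a b => Equiv.ext (fm a b))
    rcases IsSimpleGroup.eq_bot_or_eq_top_of_normal hom.ker inferInstance with h | h
    · have hinj := (MonoidHom.ker_eq_bot_iff hom).mp h
      have hle := Nat.card_le_card_of_injective hom hinj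
      have e1 : Nat.card ↥(alternatingGroup (Fin 6)) = 360 := by
        have h' := two_mul_nat_card_alternatingGroup (α := Fin 6)
        have h6 : Nat.card (Equiv.Perm (Fin 6)) = 720 := by
          rw [Nat.card_perm, Nat.card_fin]; rfl
        omega
      rw [e1, Nat.card_perm, Nat.card_eq_fintype_card, Fintype.card_coe, h5X] at hle
      exact absurd hle (by decide)
    · obtain ⟨v, hv⟩ : X.Nonempty := Finset.card_pos.mp (by omega)
      have hm : (⟨c, Equiv.Perm.mem_alternatingGroup.mpr hcs⟩ : ↥(alternatingGroup (Fin 6))) ∈ hom.ker :=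
        h ▸ Subgroup.mem_top _
      have e := congrArg Subtype.val (Equiv.congr_fun (MonoidHom.mem_ker.mp hm) ⟨v, hv⟩)
      exact (hX v hv).2 (hnofix v (hX v hv).1 e)
  set S0 := (U.erase 0).filter fun v => S.q v = 0 with hS0
  set S1 := (U.erase 0).filter fun v => S.q v = 1 with hS1
  have hAz : ∀ a, Equiv.Perm.sign a = 1 → ∀ v ∈ U, v ≠ 0 → A a v ≠ 0 := by
    intro a ha v hv hne0 e
    have ha' : Equiv.Perm.sign a⁻¹ = 1 := by rw [map_inv, ha, inv_one]
    have h00 : A a⁻¹ 0 = 0 := by
      have := hadd a⁻¹ ha' 0 hU.zero 0 hU.zero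
      rwa [add_zero, left_eq_add] at this
    apply hne0
    rw [← hone v hv, ← inv_mul_cancel a, hmul a⁻¹ a ha' ha v hv, e, h00]
  have hst : ∀ r : ZMod 2, ∀ a, Equiv.Perm.sign a = 1 → ∀ v ∈ (U.erase 0).filter (fun v => S.q v = r),
      A a v ∈ (U.erase 0).filter fun v => S.q v = r := by
    intro r a ha v hv
    rw [Finset.mem_filter, Finset.mem_erase] at hv ⊢
    exact ⟨⟨hAz a ha v hv.1.2 hv.1.1, hmap a ha v hv.1.2⟩, by rw [hq a ha v hv.1.2, hv.2]⟩
  have hsum : S0.card + S1.card = 15 := by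
    rw [hS0, hS1, show ((U.erase 0).filter fun v => S.q v = 1) = (U.erase 0).filter fun v => ¬ S.q v = 0 from
      Finset.filter_congr fun w _ => ne_zero_iff.symm, Finset.card_filter_add_card_filter_not,
      Finset.card_erase_of_mem hU.zero, hc]
  have hm5 : ∀ r : ZMod 2, ((U.erase 0).filter fun v => S.q v = r).card % 5 = 0 := by
    intro r
    have hsub : ∀ v ∈ (U.erase 0).filter (fun v => S.q v = r), v ≠ 0 ∧ v ∈ U := fun v hv =>
      Finset.mem_erase.mp (Finset.mem_filter.mp hv).1
    rw [card_fixed_mod _ (A c) (hst r c hcs) (fun v hv => h5 v (hsub v hv).2),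
      show (((U.erase 0).filter fun v => S.q v = r).filter fun v => A c v = v) = ∅ from
        Finset.filter_eq_empty_iff.mpr fun v hv e => (hsub v hv).1 (hnofix v (hsub v hv).2 e)]
    rfl
  have hpart : ∀ r : ZMod 2, ((U.erase 0).filter fun v => S.q v = r).card ≠ 5 := fun r h => five _
    (fun v hv => (Finset.mem_erase.mp (Finset.mem_filter.mp hv).1).symm) h (hst r)
  have a0 := hm5 0
  have a1 := hm5 1
  have b0 := hpart 0
  have b1 := hpart 1
  rw [← hS0] at a0 b0
  rw [← hS1] at a1 b1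
  rcases Nat.eq_zero_or_pos S1.card with e | e
  · obtain ⟨v, hv, hqv⟩ := S.exists_q_one hU hn (by omega)
    have : v ∈ S1 := Finset.mem_filter.mpr ⟨Finset.mem_erase.mpr ⟨fun e0 => by
      rw [e0, S.q_zero] at hqv; exact zero_ne_one hqv, hv⟩, hqv⟩
    rw [Finset.card_eq_zero.mp e] at this
    exact absurd this (Finset.notMem_empty v)
  · have e0 : S0 = ∅ := Finset.card_eq_zero.mp (by omega)
    have hone' : ∀ v ∈ U, v ≠ 0 → S.q v = 1 := fun v hv h => by
      refine (two_cases _).resolve_left fun e1 => ?_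
      have : v ∈ S0 := Finset.mem_filter.mpr ⟨Finset.mem_erase.mpr ⟨h, hv⟩, e1⟩
      rw [e0] at this
      exact absurd this (Finset.notMem_empty v)
    obtain ⟨a, ha, ha0⟩ := Finset.exists_mem_ne (s := U) (by omega) 0
    obtain ⟨b, hb, hb0, hba⟩ : ∃ b ∈ U, b ≠ 0 ∧ b ≠ a := by
      obtain ⟨b, hb⟩ : ((U.erase 0).erase a).Nonempty := Finset.card_pos.mp (by
        rw [Finset.card_erase_of_mem (Finset.mem_erase.mpr ⟨ha0, ha⟩), Finset.card_erase_of_mem hU.zero, hc]
        decide)
      rw [Finset.mem_erase, Finset.mem_erase] at hb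
      exact ⟨b, hb.2.2, hb.2.1, hb.1⟩
    obtain ⟨d, hd, hd0, hda, hdb, hdab⟩ : ∃ d ∈ U, d ≠ 0 ∧ d ≠ a ∧ d ≠ b ∧ d ≠ a + b := by
      obtain ⟨d, hd, hd'⟩ := Finset.exists_mem_notMem_of_card_lt_card
        (s := ({0, a, b, a + b} : Finset V)) (t := U) (by
          rw [hc]; exact lt_of_le_of_lt Finset.card_le_four (by decide))
      simp only [Finset.mem_insert, Finset.mem_singleton, not_or] at hd'
      exact ⟨d, hd, hd'.1, hd'.2.1, hd'.2.2.1, hd'.2.2.2⟩
    have hB : ∀ u v, u ∈ U → v ∈ U → u ≠ 0 → v ≠ 0 → u ≠ v → S.B u v = 1 := fun u v hu hv u0 v0 huv => by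
      simp only [B, hone' u hu u0, hone' v hv v0, hone' _ (hU.add hu hv) fun e => huv (v_add_eq_zero.mp e)]
      decide
    have hab0 : a + b ≠ 0 := fun e => hba (v_add_eq_zero.mp e).symm
    have e1 := hB _ _ (hU.add ha hb) hd hab0 hd0 hdab.symm
    rw [S.B_add, hB a d ha hd ha0 hd0 hda.symm, hB b d hb hd hb0 hd0 hdb.symm] at e1
    revert e1; decide

end Setting

end CfsgLib.S3A6
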