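import Cfsg.Agent.Lib.Invol.S3A6.Model

/-!
Owner: helper13. Elementary properties of the packed matrices.
-/

set_option autoImplicit false
set_option maxRecDepth 100000
set_option Elab.async false

namespace CfsgLib.S3A6.Model

theorem byte_lt (M i : ℕ) : byte M i < 256 := Nat.mod_lt _ (by norm_num)

theorem xor_lt {a b : ℕ} (ha : a < 256) (hb : b < 256) : a ^^^ b < 256 := Nat.xor_lt_two_pow (n := 8) ha hb

theorem lin_lt (M n : ℕ) : lin M n < 256 := by
  unfold lin
  generalize List.range 8 = l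
  induction l with
  | nil => norm_num
  | cons i l ih =>
    rw [List.foldr_cons]
    refine xor_lt ?_ ih
    split_ifs
    · exact byte_lt M i
    · norm_num

theorem byte_zero {a : ℕ} (ha : a < 256) (r : ℕ) : byte (a + 256 * r) 0 = a := by
  simp only [byte, pow_zero, Nat.div_one]
  omega

theorem byte_succ {a : ℕ} (ha : a < 256) (r i : ℕ) : byte (a + 256 * r) (i + 1) = byte r i := by
  have e : (a + 256 * r) / 256 = r := by omega
  simp only [byte]
  rw [pow_succ', ← Nat.div_div_eq_div_mul, e]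

/-- The bytes of eight digits. -/
theorem byte_horner (a0 a1 a2 a3 a4 a5 a6 a7 : ℕ) (h : ∀ x ∈ [a0, a1, a2, a3, a4, a5, a6, a7], x < 256)
    {i : ℕ} (hi : i < 8) :
    byte (a0 + 256 * (a1 + 256 * (a2 + 256 * (a3 + 256 * (a4 + 256 * (a5 + 256 * (a6 + 256 * (a7 + 256 * 0))))))))
      i = [a0, a1, a2, a3, a4, a5, a6, a7].getD i 0 := by
  simp only [List.forall_mem_cons] at h
  obtain ⟨h0, h1, h2, h3, h4, h5, h6, h7, -⟩ := h
  interval_cases i <;>
    simp only [byte_succ h0, byte_succ h1, byte_succ h2, byte_succ h3, byte_succ h4, byte_succ h5,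
      byte_succ h6, byte_zero h0, byte_zero h1, byte_zero h2, byte_zero h3, byte_zero h4, byte_zero h5,
      byte_zero h6, byte_zero h7, List.getD_cons_zero, List.getD_cons_succ]

theorem horner (B : ℕ) (f : ℕ → ℕ) : (List.range 8).foldr (fun j r => f j * B ^ j + r) 0 =
    f 0 + B * (f 1 + B * (f 2 + B * (f 3 + B * (f 4 + B * (f 5 + B * (f 6 + B * (f 7 + B * 0))))))) := by
  simp only [show List.range 8 = [0, 1, 2, 3, 4, 5, 6, 7] from rfl, List.foldr_cons, List.foldr_nil]
  ring

theorem horner_eight (B a0 a1 a2 a3 a4 a5 a6 a7 : ℕ) :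
    a0 + B * a1 + B ^ 2 * a2 + B ^ 3 * a3 + B ^ 4 * a4 + B ^ 5 * a5 + B ^ 6 * a6 + B ^ 7 * a7 =
      a0 + B * (a1 + B * (a2 + B * (a3 + B * (a4 + B * (a5 + B * (a6 + B * (a7 + B * 0))))))) := by
  ring

theorem digits_eq (f : ℕ → ℕ) (hf : ∀ i, f i < 256) {i : ℕ} (hi : i < 8) :
    byte ((List.range 8).foldr (fun j r => f j * 256 ^ j + r) 0) i = f i := by
  have hl : ∀ x ∈ [f 0, f 1, f 2, f 3, f 4, f 5, f 6, f 7], x < 256 := by
    simp only [List.forall_mem_cons]
    exact ⟨hf 0, hf 1, hf 2, hf 3, hf 4, hf 5, hf 6, hf 7, fun x h => absurd h List.not_mem_nil⟩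
  rw [horner 256 f, byte_horner _ _ _ _ _ _ _ _ hl hi]
  interval_cases i <;> rfl

theorem byte_cmp (M N : ℕ) {i : ℕ} (hi : i < 8) : byte (cmp M N) i = lin M (byte N i) :=
  digits_eq (fun j => lin M (byte N j)) (fun _ => lin_lt _ _) hi

theorem byte_idm : ∀ i < 8, byte idm i = 2 ^ i := by decide +kernel

theorem byte_thM : ∀ i < 8, byte thM i = if i % 2 = 0 then 2 ^ (i + 1) else 2 ^ (i - 1) + 2 ^ i := by
  decide +kernel

theorem byte_pM : ∀ i < 8, byte pM i = [2, 3, 4, 8, 48, 16, 64, 128].getD i 0 := by decide +kernel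

theorem byte_cM : ∀ i < 8, byte cM i = 2 ^ ((i + 2) % 8) := by decide +kernel

theorem byte_sM : ∀ k : Bool, ∀ i < 8, byte (sM k) i =
    (if k then [64, 128, 16, 32, 4, 8, 1, 2] else [1, 2, 64, 128, 16, 32, 4, 8]).getD i 0 := by
  decide +kernel

theorem byte_gcol (v : ℕ) (hv : v < 256) : ∀ i < 8, byte (gcol v) i =
    [v, lin thM v, lin cM (lin cM (lin cM v)), lin thM (lin cM (lin cM (lin cM v))), lin cM (lin cM v),
      lin thM (lin cM (lin cM v)), lin cM v, lin thM (lin cM v)].getD i 0 := by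
  intro i hi
  rw [← byte_horner v (lin thM v) (lin cM (lin cM (lin cM v))) (lin thM (lin cM (lin cM (lin cM v))))
    (lin cM (lin cM v)) (lin thM (lin cM (lin cM v))) (lin cM v) (lin thM (lin cM v))
    (by simp [hv, lin_lt]) hi]
  congr 1
  exact horner_eight 256 _ _ _ _ _ _ _ _

theorem lin_two_pow (M : ℕ) : ∀ i < 8, lin M (2 ^ i) = byte M i := by
  intro i hi
  interval_cases i <;> simp [lin, List.range_succ, Nat.testBit, Nat.shiftRight_eq_div_pow]

/-- A single block below a nonzero vector. -/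
theorem check_block : (List.range 256).all (fun n => n == 0 || (List.range 4).any fun j =>
    let m := (List.range j).foldr (fun _ r => lin cM r) n
    let x := m ^^^ lin pM m
    [16, 32, 48].contains (lin pM x ^^^ lin thM x)) = true := by
  decide +kernel

/-- The four blocks of a vector. -/
theorem check_split : (List.range 256).all (fun n =>
    ((n &&& 3) ^^^ (n &&& 12)) ^^^ ((n &&& 48) ^^^ (n &&& 192)) == n &&
      [0, 1, 2, 3].contains (n &&& 3) && [0, 4, 8, 12].contains (n &&& 12) &&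
      [0, 16, 32, 48].contains (n &&& 48) && [0, 64, 128, 192].contains (n &&& 192) &&
      qM n == (((n &&& 3 != 0) ^^ (n &&& 12 != 0)) ^^ ((n &&& 48 != 0) ^^ (n &&& 192 != 0)))) = true := by
  decide +kernel

end CfsgLib.S3A6.Model
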