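import Cfsg.Agent.Lib.Invol.S3A6.Weights
import Cfsg.Agent.Lib.Invol.S3A6.Lin

/-!
Owner: helper13. The case without fixed vectors: the coordinates of one of the two monomial models.
-/

set_option autoImplicit false
set_option linter.unusedSectionVars false
set_option maxRecDepth 100000

namespace CfsgLib.S3A6

open Cfsg Equiv Model

theorem start_facts : ∀ k : Bool, Perm.sign (Model.p0 k) = 1 ∧
    Model.c0⁻¹ * Model.p0 k * Model.c0 * (Model.c0 * Model.p0 k * Model.c0⁻¹) = 1 ∧
    Model.c0 * Model.c0 * Model.c0 * Model.c0 = 1 ∧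
    Model.p0 k * (Model.c0 * Model.c0) = Model.c0 * Model.c0 * (Model.p0 k * Model.p0 k) ∧
    Model.p0 k * (Model.c0 * Model.c0 * Model.c0) =
      Model.c0 * Model.c0 * Model.c0 * (Model.c0 * Model.p0 k * Model.c0⁻¹) := by
  decide +kernel

theorem ite_xor : ∀ a b c : Bool, ((if a = true then 1 else 0) + (if b = true then 1 else 0) +
    (if c = true then 1 else 0) : ZMod 2) = if ((a ^^ b) ^^ c) = true then 1 else 0 := by
  decide

namespace Setting

variable {G : Type*} [Group G] [Finite G] {z : G} {Q : Subgroup G} (S : Setting z Q)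
include S

/-- The vectors of the blocks. -/
noncomputable def blk (v : V) : ℕ → V
  | 0 => v
  | k + 1 => S.A Model.c0 (blk v k)

/-- The basis of a start vector. -/
noncomputable def bas (v : V) (i : ℕ) : V :=
  if i % 2 = 0 then S.blk v (i / 2) else S.T (S.blk v (i / 2))

/-- The vector of a code. -/
noncomputable def ev (v : V) (n : ℕ) : V :=
  (List.range 8).foldr (fun i r => (if n.testBit i then S.bas v i else 0) + r) 0

theorem ev_xor (v : V) (m n : ℕ) : S.ev v (m ^^^ n) = S.ev v m + S.ev v n := by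
  unfold ev
  generalize List.range 8 = l
  induction l with
  | nil => simp
  | cons i l ih =>
    simp only [List.foldr_cons]
    rw [ih, Nat.testBit_xor]
    cases m.testBit i <;> cases n.testBit i <;> simp only [Bool.xor_false, Bool.xor_true, Bool.not_true,
      Bool.not_false, if_true, if_false, Bool.false_eq_true, zero_add]
    · abel
    · abel
    · rw [add_add_add_comm, v_add_self, zero_add]

theorem ev_zero (v : V) : S.ev v 0 = 0 := by simp [ev, List.range_succ]

theorem ev_two_pow (v : V) : ∀ i < 8, S.ev v (2 ^ i) = S.bas v i := by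
  intro i hi
  interval_cases i <;> simp [ev, List.range_succ, Nat.testBit, Nat.shiftRight_eq_div_pow]

theorem ev_lin (v : V) {F : V → V} (hadd : ∀ a b, F (a + b) = F a + F b) (M : ℕ)
    (h : ∀ i < 8, F (S.bas v i) = S.ev v (byte M i)) (n : ℕ) : S.ev v (lin M n) = F (S.ev v n) := by
  have h0 : F 0 = 0 := by
    have := hadd 0 0
    rwa [add_zero, left_eq_add] at this
  have hl : ∀ i ∈ List.range 8, i < 8 := fun i hi => List.mem_range.mp hi
  simp only [lin]
  conv_rhs => rw [ev]
  revert hl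
  generalize List.range 8 = l
  intro hl
  induction l with
  | nil => simp [h0, S.ev_zero]
  | cons i l ih =>
    rw [List.foldr_cons, List.foldr_cons, S.ev_xor, hadd, ih fun j hj => hl j (List.mem_cons_of_mem i hj)]
    congr 1
    split_ifs
    · exact (h i (hl i (List.mem_cons_self ..))).symm
    · rw [S.ev_zero, h0]

/-- A vector fixed by an isometry is orthogonal to one moved by it as by a power of `T`. -/
theorem orth_fix (hA : S.CaseA) {f : P6} (hf : Perm.sign f = 1) {u w : V} (hu : S.A f u = u)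
    (hw : S.A f w = S.T w ∨ S.A f w = S.T (S.T w)) : S.B u w = 0 := by
  have h1 : S.B u (S.T (S.T w)) = S.B u (S.T w) ∧ S.B u w = S.B u (S.T w) := by
    have key : ∀ x, S.B u (S.A f x) = S.B u x := fun x => by
      calc S.B u (S.A f x) = S.B (S.A f u) (S.A f x) := by rw [hu]
        _ = S.B u x := S.ρ_B (S.R_six hf) u x
    rcases hw with e | e
    · have a := key w
      have b := key (S.T w)
      rw [S.A_T hf, e] at b
      rw [e] at a
      exact ⟨b, a.symm⟩
    · have a := key w
      have b := key (S.T w)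
      rw [S.A_T hf, e, S.T_cube] at b
      rw [e] at a
      exact ⟨a.trans b, b⟩
  have h2 : S.B u (w + S.T w + S.T (S.T w)) = 0 := by rw [S.caseA_sum hA, S.B_comm, S.B_zero]
  rw [S.B_add_right, S.B_add_right, h1.1, ← h1.2] at h2
  rcases two_cases (S.B u w) with e | e
  · exact e
  · rw [e] at h2
    exact absurd h2 (by decide)

/-- Vectors moved as by the two nontrivial powers of `T` are orthogonal. -/
theorem orth_inv (hA : S.CaseA) {f : P6} (hf : Perm.sign f = 1) {u w : V} (hu : S.A f u = S.T u)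
    (hw : S.A f w = S.T (S.T w)) : S.B u w = 0 := by
  have key : ∀ x, S.B (S.T u) (S.A f x) = S.B u x := fun x => by
    rw [← hu]; exact S.ρ_B (S.R_six hf) u x
  have a := key w
  have b := key (S.T w)
  rw [hw, S.T_B] at a
  rw [S.A_T hf, hw, S.T_cube] at b
  have c : S.B (S.T u) w = S.B u (S.T (S.T w)) := by
    conv_lhs => rw [← S.T_cube w]
    exact S.T_B _ _
  rw [c] at b
  have h2 : S.B u (w + S.T w + S.T (S.T w)) = 0 := by rw [S.caseA_sum hA, S.B_comm, S.B_zero]
  rw [S.B_add_right, S.B_add_right, b, a] at h2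
  rcases two_cases (S.B u w) with e | e
  · exact e
  · rw [e] at h2
    exact absurd h2 (by decide)

/-- A start vector of a kind. -/
structure Start (k : Bool) (v : V) : Prop where
  case : S.CaseA
  ne : v ≠ 0
  p : S.A (Model.p0 k) v = S.T v
  p' : S.A (Model.c0 * Model.p0 k * Model.c0⁻¹) v = v

theorem exists_Start (hA : S.CaseA) : ∃ k v, S.Start k v := by
  obtain ⟨k, v, h1, h2, h3⟩ := S.exists_start hA
  exact ⟨k, v, hA, h1, h2, h3⟩

namespace Start

variable {S} {k : Bool} {v : V} (h : S.Start k v)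
include h

theorem sc : Perm.sign Model.c0 = 1 := w_facts.2.2.1

theorem sp' : Perm.sign (Model.c0 * Model.p0 k * Model.c0⁻¹) = 1 := by
  rw [map_mul, map_mul, map_inv, (start_facts k).1, h.sc]
  rfl

theorem blk_four : S.blk v 4 = v := by
  have sc := h.sc
  show S.A Model.c0 (S.A Model.c0 (S.A Model.c0 (S.A Model.c0 v))) = v
  rw [← S.A_mul sc sc, ← S.A_mul (by rw [map_mul, sc, one_mul]) sc,
    ← S.A_mul (by rw [map_mul, map_mul, sc, one_mul, one_mul]) sc, (start_facts k).2.2.1, S.A_one]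

theorem p_blk : S.A (Model.p0 k) (S.blk v 0) = S.T (S.blk v 0) ∧ S.A (Model.p0 k) (S.blk v 1) = S.blk v 1 ∧
    S.A (Model.p0 k) (S.blk v 2) = S.T (S.T (S.blk v 2)) ∧ S.A (Model.p0 k) (S.blk v 3) = S.blk v 3 := by
  obtain ⟨sp, e1, -, e2, e3⟩ := start_facts k
  have sc := h.sc
  have sp' := h.sp'
  have sci : Perm.sign Model.c0⁻¹ = 1 := by rw [map_inv, sc, inv_one]
  refine ⟨h.p, ?_, ?_, ?_⟩
  · show S.A (Model.p0 k) (S.A Model.c0 v) = S.A Model.c0 v
    have e : Model.p0 k * Model.c0 = Model.c0 * (Model.c0 * Model.p0 k * Model.c0⁻¹)⁻¹ := by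
      rw [← eq_inv_of_mul_eq_one_left e1, ← mul_assoc, ← mul_assoc, mul_inv_cancel, one_mul]
    rw [← S.A_mul sp sc, e, S.A_mul sc (by rw [map_inv, sp', inv_one])]
    congr 1
    conv_lhs => rw [← h.p']
    exact S.A_inv sp' v
  · show S.A (Model.p0 k) (S.A Model.c0 (S.A Model.c0 v)) = S.T (S.T (S.A Model.c0 (S.A Model.c0 v)))
    rw [← S.A_mul sc sc, ← S.A_mul sp (by rw [map_mul, sc, one_mul]), e2,
      S.A_mul (by rw [map_mul, sc, one_mul]) (by rw [map_mul, sp, one_mul]), S.A_mul sp sp, h.p,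
      S.A_T sp, h.p, S.A_T (by rw [map_mul, sc, one_mul]), S.A_T (by rw [map_mul, sc, one_mul])]
  · show S.A (Model.p0 k) (S.A Model.c0 (S.A Model.c0 (S.A Model.c0 v))) = _
    have scc : Perm.sign (Model.c0 * Model.c0) = 1 := by rw [map_mul, sc, one_mul]
    have sccc : Perm.sign (Model.c0 * Model.c0 * Model.c0) = 1 := by rw [map_mul, scc, sc, one_mul]
    rw [← S.A_mul sc sc, ← S.A_mul scc sc, ← S.A_mul sp sccc, e3, S.A_mul sccc sp', h.p',
      S.A_mul scc sc, S.A_mul sc sc]
    rfl

theorem lin_p (n : ℕ) : S.ev v (lin pM n) = S.A (Model.p0 k) (S.ev v n) := by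
  refine S.ev_lin v (fun a b => S.A_add (start_facts k).1 a b) pM (fun i hi => ?_) n
  obtain ⟨h0, h1, h2, h3⟩ := h.p_blk
  have sp := (start_facts k).1
  have e3 : S.ev v 3 = S.bas v 0 + S.bas v 1 := by
    rw [← S.ev_two_pow v 0 (by norm_num), ← S.ev_two_pow v 1 (by norm_num), ← S.ev_xor]; rfl
  have e48 : S.ev v 48 = S.bas v 4 + S.bas v 5 := by
    rw [← S.ev_two_pow v 4 (by norm_num), ← S.ev_two_pow v 5 (by norm_num), ← S.ev_xor]; rfl
  rw [byte_pM i hi]
  interval_cases i
  · exact h0.trans (S.ev_two_pow v 1 (by norm_num)).symm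
  · refine ((S.A_T sp _).trans ?_).trans e3.symm
    rw [h0, S.caseA_TT h.case]
    rfl
  · exact h1.trans (S.ev_two_pow v 2 (by norm_num)).symm
  · exact ((S.A_T sp _).trans (congrArg S.T h1)).trans (S.ev_two_pow v 3 (by norm_num)).symm
  · refine (h2.trans ?_).trans e48.symm
    rw [S.caseA_TT h.case]
    rfl
  · refine ((S.A_T sp _).trans ?_).trans (S.ev_two_pow v 4 (by norm_num)).symm
    rw [h2, S.T_cube]
    rfl
  · exact h3.trans (S.ev_two_pow v 6 (by norm_num)).symm
  · exact ((S.A_T sp _).trans (congrArg S.T h3)).trans (S.ev_two_pow v 7 (by norm_num)).symm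

theorem lin_th (n : ℕ) : S.ev v (lin thM n) = S.T (S.ev v n) := by
  refine S.ev_lin v (fun a b => S.T_add a b) thM (fun i hi => ?_) n
  rw [byte_thM i hi]
  interval_cases i
  · exact (S.ev_two_pow v 1 (by norm_num)).symm
  · show S.T (S.T (S.blk v 0)) = S.ev v (1 ^^^ 2)
    rw [S.caseA_TT h.case, S.ev_xor]
    exact (congrArg₂ (· + ·) (S.ev_two_pow v 0 (by norm_num)) (S.ev_two_pow v 1 (by norm_num))).symm
  · exact (S.ev_two_pow v 3 (by norm_num)).symm
  · show S.T (S.T (S.blk v 1)) = S.ev v (4 ^^^ 8)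
    rw [S.caseA_TT h.case, S.ev_xor]
    exact (congrArg₂ (· + ·) (S.ev_two_pow v 2 (by norm_num)) (S.ev_two_pow v 3 (by norm_num))).symm
  · exact (S.ev_two_pow v 5 (by norm_num)).symm
  · show S.T (S.T (S.blk v 2)) = S.ev v (16 ^^^ 32)
    rw [S.caseA_TT h.case, S.ev_xor]
    exact (congrArg₂ (· + ·) (S.ev_two_pow v 4 (by norm_num)) (S.ev_two_pow v 5 (by norm_num))).symm
  · exact (S.ev_two_pow v 7 (by norm_num)).symm
  · show S.T (S.T (S.blk v 3)) = S.ev v (64 ^^^ 128)
    rw [S.caseA_TT h.case, S.ev_xor]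
    exact (congrArg₂ (· + ·) (S.ev_two_pow v 6 (by norm_num)) (S.ev_two_pow v 7 (by norm_num))).symm

theorem lin_c (n : ℕ) : S.ev v (lin cM n) = S.A Model.c0 (S.ev v n) := by
  refine S.ev_lin v (fun a b => S.A_add h.sc a b) cM (fun i hi => ?_) n
  rw [byte_cM i hi, S.ev_two_pow v _ (Nat.mod_lt _ (by norm_num))]
  interval_cases i
  · rfl
  · exact S.A_T h.sc _
  · rfl
  · exact S.A_T h.sc _
  · rfl
  · exact S.A_T h.sc _
  · exact h.blk_four
  · exact (S.A_T h.sc _).trans (congrArg S.T h.blk_four)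

theorem blk_two_ne : S.blk v 2 ≠ 0 := fun e => by
  refine h.ne (S.ρ_injective (S.R_six h.sc) (S.ρ_injective (S.R_six h.sc) ?_))
  show S.blk v 2 = S.A Model.c0 (S.A Model.c0 0)
  rw [e, S.A_zero h.sc, S.A_zero h.sc]

theorem eq_zero {n : ℕ} (hn : n < 256) (he : S.ev v n = 0) : n = 0 := by
  by_contra hne
  have h0 := check_block
  simp only [List.all_eq_true, List.mem_range, Bool.or_eq_true, beq_iff_eq, List.any_eq_true,
    List.contains_iff_mem, List.mem_cons, List.not_mem_nil, or_false] at h0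
  obtain ⟨j, -, hj⟩ := (h0 n hn).resolve_left hne
  have hm : ∀ j, S.ev v ((List.range j).foldr (fun _ r => lin cM r) n) = 0 := by
    intro j
    generalize List.range j = l
    induction l with
    | nil => exact he
    | cons i l ih => rw [List.foldr_cons, h.lin_c, ih, S.A_zero h.sc]
  generalize hmdef : (List.range j).foldr (fun _ r => lin cM r) n = m at hj
  have hm0 := hmdef ▸ hm j
  have hx : S.ev v (m ^^^ lin pM m) = 0 := by
    rw [S.ev_xor, hm0, h.lin_p, hm0, S.A_zero (start_facts k).1, add_zero]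
  have hy : S.ev v (lin pM (m ^^^ lin pM m) ^^^ lin thM (m ^^^ lin pM m)) = 0 := by
    rw [S.ev_xor, h.lin_p, h.lin_th, hx, S.A_zero (start_facts k).1, S.T_zero, add_zero]
  have e4 : S.ev v 16 = S.blk v 2 := S.ev_two_pow v 4 (by norm_num)
  have e5 : S.ev v 32 = S.T (S.blk v 2) := S.ev_two_pow v 5 (by norm_num)
  have hne2 := h.blk_two_ne
  rcases hj with e | e | e <;> rw [e] at hy
  · exact hne2 (e4.symm.trans hy)
  · rw [e5] at hy
    exact hne2 (S.ρ_injective S.R_th (hy.trans S.T_zero.symm))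
  · rw [show 48 = 16 ^^^ 32 by rfl, S.ev_xor, e4, e5, v_add_eq_zero] at hy
    exact hne2 (S.caseA_free h.case hy.symm)

theorem injective {m n : ℕ} (hm : m < 256) (hn : n < 256) (e : S.ev v m = S.ev v n) : m = n := by
  have h0 := h.eq_zero (xor_lt hm hn) (by rw [S.ev_xor, e, v_add_self])
  exact Nat.xor_eq_zero_iff.mp h0

theorem surjective (u : V) : ∃ n < 256, S.ev v n = u := by
  classical
  have he : (Finset.range 256).image (S.ev v) = Finset.univ := by
    refine Finset.eq_univ_of_card _ ?_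
    rw [Finset.card_image_of_injOn fun a ha b hb e =>
      h.injective (Finset.mem_range.mp ha) (Finset.mem_range.mp hb) e]
    simp [V]
  have hu : u ∈ (Finset.range 256).image (S.ev v) := he ▸ Finset.mem_univ u
  obtain ⟨n, hn, e⟩ := Finset.mem_image.mp hu
  exact ⟨n, Finset.mem_range.mp hn, e⟩

theorem blk_orth : ∀ i < 4, ∀ j < 4, i ≠ j → ∀ a b, S.B (S.Tp a (S.blk v i)) (S.Tp b (S.blk v j)) = 0 := by
  have hA := h.case
  have sp := (start_facts k).1
  obtain ⟨h0, h1, h2, h3⟩ := h.p_blk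
  have e0 : ∀ a, S.A (Model.p0 k) (S.Tp a (S.blk v 0)) = S.T (S.Tp a (S.blk v 0)) := fun a => by
    rw [S.A_Tp sp, h0]; exact (S.Tp_Tp a 1 _).trans ((congrArg (S.Tp · _) (add_comm a 1)).trans (S.Tp_Tp 1 a _).symm)
  have e2 : ∀ a, S.A (Model.p0 k) (S.Tp a (S.blk v 2)) = S.T (S.T (S.Tp a (S.blk v 2))) := fun a => by
    rw [S.A_Tp sp, h2]; exact (S.Tp_Tp a 2 _).trans ((congrArg (S.Tp · _) (add_comm a 2)).trans (S.Tp_Tp 2 a _).symm)
  have e1 : ∀ a, S.A (Model.p0 k) (S.Tp a (S.blk v 1)) = S.Tp a (S.blk v 1) := fun a => by rw [S.A_Tp sp, h1]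
  have e3 : ∀ a, S.A (Model.p0 k) (S.Tp a (S.blk v 3)) = S.Tp a (S.blk v 3) := fun a => by rw [S.A_Tp sp, h3]
  have k13 : ∀ a b, S.B (S.Tp a (S.blk v 1)) (S.Tp b (S.blk v 3)) = 0 := fun a b => by
    have := S.orth_inv hA sp (e0 a) (e2 b)
    rw [← S.ρ_B (S.R_six h.sc)] at this
    change S.B (S.A Model.c0 (S.Tp a (S.blk v 0))) (S.A Model.c0 (S.Tp b (S.blk v 2))) = 0 at this
    rwa [S.A_Tp h.sc, S.A_Tp h.sc] at this
  intro i hi j hj hne a b
  interval_cases i <;> interval_cases j
  all_goals first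
    | exact absurd rfl hne
    | exact k13 a b
    | (rw [S.B_comm]; exact k13 b a)
    | exact S.orth_inv hA sp (e0 a) (e2 b)
    | (rw [S.B_comm]; exact S.orth_inv hA sp (e0 b) (e2 a))
    | exact S.orth_fix hA sp (e1 a) (Or.inl (e0 b))
    | exact S.orth_fix hA sp (e3 a) (Or.inl (e0 b))
    | exact S.orth_fix hA sp (e1 a) (Or.inr (e2 b))
    | exact S.orth_fix hA sp (e3 a) (Or.inr (e2 b))
    | (rw [S.B_comm]; exact S.orth_fix hA sp (e1 b) (Or.inl (e0 a)))
    | (rw [S.B_comm]; exact S.orth_fix hA sp (e3 b) (Or.inl (e0 a)))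
    | (rw [S.B_comm]; exact S.orth_fix hA sp (e1 b) (Or.inr (e2 a)))
    | (rw [S.B_comm]; exact S.orth_fix hA sp (e3 b) (Or.inr (e2 a)))

theorem bas_Tp (i : ℕ) : ∃ a, S.bas v i = S.Tp a (S.blk v (i / 2)) := by
  simp only [bas]
  split_ifs
  · exact ⟨0, rfl⟩
  · exact ⟨1, rfl⟩

theorem q_start : S.q v = 1 := by
  refine (two_cases _).resolve_left fun hq => h.ne (S.nondeg fun u => ?_)
  obtain ⟨n, -, rfl⟩ := h.surjective u
  have hb : ∀ i ∈ List.range 8, S.B v (S.bas v i) = 0 := by
    intro i hi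
    have hi' := List.mem_range.mp hi
    have hz : ∀ a, S.B v (S.Tp a v) = 0 := fun a => by
      have hp : S.B v (S.T v) = 0 := (S.V1_fpf.B_pair (S.caseA_mem h.case v)).trans hq
      fin_cases a
      · exact S.B_self v
      · exact hp
      · show S.B v (S.T (S.T v)) = 0
        rw [S.caseA_TT h.case, S.B_add_right, S.B_self, hp, add_zero]
    obtain ⟨a, ea⟩ := h.bas_Tp i
    rw [ea]
    by_cases h0 : i / 2 = 0
    · rw [h0]; exact hz a
    · exact h.blk_orth 0 (by norm_num) _ (by omega) (Ne.symm h0) 0 a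
  revert hb
  unfold ev
  generalize List.range 8 = l
  intro hb
  induction l with
  | nil => exact (S.B_comm v 0).trans (S.B_zero v)
  | cons i l ih =>
    rw [List.foldr_cons, S.B_add_right, ih fun j hj => hb j (List.mem_cons_of_mem i hj), add_zero]
    split_ifs
    · exact hb i (List.mem_cons_self ..)
    · rw [S.B_comm]; exact S.B_zero v

theorem q_blk : ∀ i < 4, S.q (S.blk v i) = 1 := by
  intro i hi
  have hs : ∀ w, S.q (S.A Model.c0 w) = S.q w := S.A_q h.sc
  interval_cases i
  · exact h.q_start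
  · exact (hs _).trans h.q_start
  · exact (hs _).trans ((hs _).trans h.q_start)
  · exact (hs _).trans ((hs _).trans ((hs _).trans h.q_start))

/-- The vectors of one block. -/
theorem block_cases {m j : ℕ} (hj : j < 4) (hm : m = 0 ∨ m = 4 ^ j ∨ m = 2 * 4 ^ j ∨ m = 3 * 4 ^ j) :
    S.ev v m = 0 ∧ m = 0 ∨ m ≠ 0 ∧ ∃ a, S.ev v m = S.Tp a (S.blk v j) := by
  rcases hm with rfl | rfl | rfl | rfl
  · exact Or.inl ⟨S.ev_zero v, rfl⟩
  · refine Or.inr ⟨by positivity, 0, ?_⟩
    interval_cases j
    exacts [S.ev_two_pow v 0 (by norm_num), S.ev_two_pow v 2 (by norm_num), S.ev_two_pow v 4 (by norm_num),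
      S.ev_two_pow v 6 (by norm_num)]
  · refine Or.inr ⟨by positivity, 1, ?_⟩
    interval_cases j
    exacts [S.ev_two_pow v 1 (by norm_num), S.ev_two_pow v 3 (by norm_num), S.ev_two_pow v 5 (by norm_num),
      S.ev_two_pow v 7 (by norm_num)]
  · refine Or.inr ⟨by positivity, 2, ?_⟩
    show S.ev v (3 * 4 ^ j) = S.T (S.T (S.blk v j))
    rw [S.caseA_TT h.case]
    interval_cases j
    · exact (S.ev_xor v 1 2).trans (congrArg₂ (· + ·) (S.ev_two_pow v 0 (by norm_num)) (S.ev_two_pow v 1 (by norm_num)))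
    · exact (S.ev_xor v 4 8).trans (congrArg₂ (· + ·) (S.ev_two_pow v 2 (by norm_num)) (S.ev_two_pow v 3 (by norm_num)))
    · exact (S.ev_xor v 16 32).trans (congrArg₂ (· + ·) (S.ev_two_pow v 4 (by norm_num)) (S.ev_two_pow v 5 (by norm_num)))
    · exact (S.ev_xor v 64 128).trans (congrArg₂ (· + ·) (S.ev_two_pow v 6 (by norm_num)) (S.ev_two_pow v 7 (by norm_num)))

theorem q_ev {n : ℕ} (hn : n < 256) : S.q (S.ev v n) = if qM n then 1 else 0 := by
  have h0 := check_split
  simp only [List.all_eq_true, List.mem_range, Bool.and_eq_true, beq_iff_eq, List.contains_iff_mem,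
    List.mem_cons, List.not_mem_nil, or_false] at h0
  obtain ⟨⟨⟨⟨⟨e, m0⟩, m1⟩, m2⟩, m3⟩, hq⟩ := h0 n hn
  rw [hq]
  have c0 := h.block_cases (j := 0) (by norm_num) m0
  have c1 := h.block_cases (j := 1) (by norm_num) m1
  have c2 := h.block_cases (j := 2) (by norm_num) m2
  have c3 := h.block_cases (j := 3) (by norm_num) m3
  conv_lhs => rw [← e]
  rw [S.ev_xor, S.ev_xor, S.ev_xor]
  generalize n &&& 3 = a0 at *
  generalize n &&& 12 = a1 at *
  generalize n &&& 48 = a2 at *
  generalize n &&& 192 = a3 at *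
  have val : ∀ {m j}, j < 4 → (S.ev v m = 0 ∧ m = 0 ∨ m ≠ 0 ∧ ∃ a, S.ev v m = S.Tp a (S.blk v j)) →
      S.q (S.ev v m) = if m != 0 then 1 else 0 := by
    rintro m j hj (⟨e0, rfl⟩ | ⟨hm, a, ea⟩)
    · rw [e0, S.q_zero]; rfl
    · rw [ea, show (m != 0) = true from bne_iff_ne.mpr hm, if_pos rfl, ← h.q_blk j hj]
      fin_cases a
      · rfl
      · exact S.T_q _
      · exact (S.T_q _).trans (S.T_q _)
  have orth : ∀ {m m' i j}, i < 4 → j < 4 → i ≠ j →
      (S.ev v m = 0 ∧ m = 0 ∨ m ≠ 0 ∧ ∃ a, S.ev v m = S.Tp a (S.blk v i)) →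
      (S.ev v m' = 0 ∧ m' = 0 ∨ m' ≠ 0 ∧ ∃ a, S.ev v m' = S.Tp a (S.blk v j)) →
      S.B (S.ev v m) (S.ev v m') = 0 := by
    rintro m m' i j hi hj hij (⟨e0, -⟩ | ⟨-, a, ea⟩) hm'
    · rw [e0]; exact S.B_zero _
    rcases hm' with ⟨e0, -⟩ | ⟨-, b, eb⟩
    · rw [e0, S.B_comm]; exact S.B_zero _
    · rw [ea, eb]; exact h.blk_orth i hi j hj hij a b
  rw [S.q_add, S.q_add, S.q_add, S.B_add, S.B_add_right, S.B_add_right, val (by norm_num) c0,
    val (by norm_num) c1, val (by norm_num) c2, val (by norm_num) c3,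
    orth (by norm_num) (by norm_num) (by norm_num) c0 c1, orth (by norm_num) (by norm_num) (by norm_num) c2 c3,
    orth (by norm_num) (by norm_num) (by norm_num) c0 c2, orth (by norm_num) (by norm_num) (by norm_num) c0 c3,
    orth (by norm_num) (by norm_num) (by norm_num) c1 c2, orth (by norm_num) (by norm_num) (by norm_num) c1 c3]
  generalize (a0 != 0) = b0
  generalize (a1 != 0) = b1
  generalize (a2 != 0) = b2
  generalize (a3 != 0) = b3
  revert b0 b1 b2 b3
  decide

theorem B_ev {m n : ℕ} (hm : m < 256) (hn : n < 256) :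
    S.B (S.ev v m) (S.ev v n) = if BM m n then 1 else 0 := by
  simp only [Setting.B, ← S.ev_xor, h.q_ev (xor_lt hm hn), h.q_ev hm, h.q_ev hn, BM]
  exact ite_xor _ _ _

/-- A permutation agreeing with a matrix. -/
def Agree (_h : S.Start k v) (σ : P6) (f : ℕ → ℕ) : Prop :=
  Perm.sign σ = 1 ∧ ∀ n, S.A σ (S.ev v n) = S.ev v (f n)

theorem agree_p : h.Agree (Model.p0 k) (lin pM) := ⟨(start_facts k).1, fun n => (h.lin_p n).symm⟩

theorem agree_c : h.Agree Model.c0 (lin cM) := ⟨h.sc, fun n => (h.lin_c n).symm⟩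

theorem agree_comp {σ τ : P6} {f g : ℕ → ℕ} (h1 : h.Agree σ f) (h2 : h.Agree τ g) :
    h.Agree (σ * τ) fun n => f (g n) :=
  ⟨by rw [map_mul, h1.1, h2.1, one_mul], fun n => by rw [S.A_mul h1.1 h2.1, h2.2, h1.2]⟩

theorem agree_g : h.Agree g0 (lin (gM k)) := by
  have sg : Perm.sign g0 = 1 := by decide +kernel
  obtain ⟨hgg, -, hconj, -, rel0, rel1⟩ := check_perms k
  obtain ⟨v0, hv0, e0⟩ := h.surjective (S.A g0 v)
  have hblk : ∀ j, S.A g0 (S.blk v (j + 1)) = S.A Model.c0 (S.A Model.c0 (S.A Model.c0 (S.A g0 (S.blk v j)))) := by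
    intro j
    show S.A g0 (S.A Model.c0 (S.blk v j)) = _
    have sc := h.sc
    have scc : Perm.sign (Model.c0 * Model.c0) = 1 := by rw [map_mul, sc, one_mul]
    have e : g0 * Model.c0 = Model.c0 * Model.c0 * Model.c0 * g0 := by decide +kernel
    rw [← S.A_mul sg sc, e, S.A_mul (by rw [map_mul, scc, sc, one_mul]) sg, S.A_mul scc sc, S.A_mul sc sc]
  have hc4 : ∀ u, S.A Model.c0 (S.A Model.c0 (S.A Model.c0 (S.A Model.c0 u))) = u := fun u => by
    have sc := h.sc
    rw [← S.A_mul sc sc, ← S.A_mul (by rw [map_mul, sc, one_mul]) sc,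
      ← S.A_mul (by rw [map_mul, map_mul, sc, one_mul, one_mul]) sc, (start_facts k).2.2.1, S.A_one]
  have b0 : S.A g0 (S.blk v 0) = S.ev v v0 := e0.symm
  have b1 : S.A g0 (S.blk v 1) = S.ev v (lin cM (lin cM (lin cM v0))) := by
    rw [hblk 0, b0, h.lin_c, h.lin_c, h.lin_c]
  have b2 : S.A g0 (S.blk v 2) = S.ev v (lin cM (lin cM v0)) := by
    rw [hblk 1, b1]
    simp only [h.lin_c, hc4]
  have b3 : S.A g0 (S.blk v 3) = S.ev v (lin cM v0) := by
    rw [hblk 2, b2]
    simp only [h.lin_c, hc4]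
  have hg : h.Agree g0 (lin (gcol v0)) := by
    refine ⟨sg, fun n => (S.ev_lin v (fun a b => S.A_add sg a b) _ (fun i hi => ?_) n).symm⟩
    rw [byte_gcol v0 hv0 i hi]
    interval_cases i
    · exact b0
    · exact (S.A_T sg _).trans ((congrArg S.T b0).trans (h.lin_th _).symm)
    · exact b1
    · exact (S.A_T sg _).trans ((congrArg S.T b1).trans (h.lin_th _).symm)
    · exact b2
    · exact (S.A_T sg _).trans ((congrArg S.T b2).trans (h.lin_th _).symm)
    · exact b3
    · exact (S.A_T sg _).trans ((congrArg S.T b3).trans (h.lin_th _).symm)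
  have hgood : good k (gcol v0) = true := by
    have hid : ∀ {σ : P6} {f : ℕ → ℕ}, h.Agree σ f → σ = 1 → ∀ n < 256, f n < 256 → f n = n := by
      intro σ f hσ e n hn hf
      refine h.injective hf hn ?_
      rw [← hσ.2 n, e, S.A_one]
    have hq : ∀ n < 256, qM (lin (gcol v0) n) = qM n := by
      intro n hn
      have e := S.A_q sg (S.ev v n)
      rw [hg.2 n, h.q_ev (lin_lt _ _), h.q_ev hn] at e
      revert e
      generalize qM (lin (gcol v0) n) = a
      generalize qM n = b
      revert a b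
      decide
    cases k with
    | false =>
      simp only [good, List.all_eq_true, List.mem_range, Bool.and_eq_true, beq_iff_eq]
      intro n hn
      refine ⟨⟨hid (h.agree_comp hg hg) hgg n hn (lin_lt _ _), hq n hn⟩, ?_⟩
      have hx := h.agree_comp hg h.agree_p
      refine hid (h.agree_comp hx (h.agree_comp hx hx)) ?_ n hn (lin_lt _ _)
      simpa [pow_succ, mul_assoc] using rel0 rfl
    | true =>
      simp only [good, List.all_eq_true, List.mem_range, Bool.and_eq_true, beq_iff_eq]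
      intro n hn
      obtain ⟨r5, r4⟩ := rel1 rfl
      refine ⟨⟨⟨hid (h.agree_comp hg hg) hgg n hn (lin_lt _ _), hq n hn⟩, ?_⟩, ?_⟩
      · have hx := h.agree_comp hg h.agree_p
        refine hid (h.agree_comp hx (h.agree_comp hx (h.agree_comp hx (h.agree_comp hx hx)))) ?_ n hn (lin_lt _ _)
        simpa [pow_succ, mul_assoc] using r5
      · have hx := h.agree_comp h.agree_c (h.agree_comp hg h.agree_p)
        refine hid (h.agree_comp hx (h.agree_comp hx (h.agree_comp hx hx))) ?_ n hn (lin_lt _ _)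
        simpa [pow_succ, mul_assoc] using r4
  have hfin := check_good k
  simp only [List.all_eq_true, List.mem_range, Bool.or_eq_true, Bool.not_eq_true', beq_iff_eq] at hfin
  have e := (hfin v0 hv0).resolve_left (by rw [hgood]; decide)
  rwa [e] at hg

theorem agree_cmp {σ τ : P6} {M N : ℕ} (h1 : h.Agree σ (lin M)) (h2 : h.Agree τ (lin N)) :
    h.Agree (σ * τ) (lin (cmp M N)) := by
  have hs : Perm.sign (σ * τ) = 1 := by rw [map_mul, h1.1, h2.1, one_mul]
  refine ⟨hs, fun n => (S.ev_lin v (fun a b => S.A_add hs a b) _ (fun i hi => ?_) n).symm⟩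
  rw [byte_cmp M N hi, ← h1.2, S.A_mul h1.1 h2.1]
  congr 1
  rw [← S.ev_two_pow v i hi, h2.2, lin_two_pow N i hi]

/-- The table gives the action of all even permutations. -/
theorem agree_table {e : ℕ × ℕ} (he : e ∈ els k) : ∃ σ : P6, code σ = e.1 ∧ h.Agree σ (lin e.2) := by
  have hall : ∀ i : ℕ, ∀ (hi : i < (tbl k).length),
      ∃ σ : P6, code σ = (tbl k)[i].1 ∧ h.Agree σ (lin (tbl k)[i].2.1) := by
    intro i
    induction i using Nat.strongRecOn with
    | _ i ih =>
      intro hi
      have h0 := check_tbl k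
      simp only [List.all_eq_true] at h0
      have h1 := h0 ((tbl k)[i], i) (List.mk_mem_zipIdx_iff_getElem?.mpr (List.getElem?_eq_getElem hi))
      by_cases hz : i = 0
      · subst hz
        simp only [beq_self_eq_true, if_true, Bool.and_eq_true, beq_iff_eq] at h1
        refine ⟨1, by rw [code_one, h1.1], map_one _, fun n => ?_⟩
        rw [h1.2, S.A_one]
        exact (S.ev_lin v (F := fun u => u) (fun _ _ => rfl) idm (fun j hj => by
          rw [byte_idm j hj, S.ev_two_pow v j hj]) n).symm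
      · rw [if_neg (by simpa using hz)] at h1
        simp only [Bool.and_eq_true, decide_eq_true_eq, beq_iff_eq] at h1
        obtain ⟨⟨hpar, hgen⟩, hc, hm⟩ := h1
        have hpar' : (tbl k)[i].2.2.1 < (tbl k).length := lt_trans hpar hi
        obtain ⟨τ, hτc, hτ⟩ := ih _ hpar hpar'
        rw [List.getD_eq_getElem _ _ hpar'] at hc hm
        obtain ⟨g0c, g1c, g2c⟩ := genC_eq k
        generalize hgi : (tbl k)[i].2.2.2 = gi at hgen hc hm
        interval_cases gi
        · exact ⟨Model.p0 k * τ, by rw [code_mul, g0c, hτc, hc],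
            by rw [hm]; exact h.agree_cmp h.agree_p hτ⟩
        · exact ⟨Model.c0 * τ, by rw [code_mul, g1c, hτc, hc],
            by rw [hm]; exact h.agree_cmp h.agree_c hτ⟩
        · exact ⟨g0 * τ, by rw [code_mul, g2c, hτc, hc],
            by rw [hm]; exact h.agree_cmp h.agree_g hτ⟩
  obtain ⟨t, ht, rfl⟩ := List.mem_map.mp he
  obtain ⟨i, hi, rfl⟩ := List.mem_iff_getElem.mp ht
  exact hall i hi

theorem exists_entry {σ : P6} (hσ : Perm.sign σ = 1) :
    ∃ e ∈ els k, e.1 = code σ ∧ h.Agree σ (lin e.2) := by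
  have h0 := check_cover k
  simp only [List.all_eq_true, List.any_eq_true, beq_iff_eq] at h0
  obtain ⟨e, he, hc⟩ := h0 (code σ) (List.mem_filter.mpr ⟨code_mem σ, sign_eq_one_iff.mp hσ⟩)
  obtain ⟨τ, hτc, hτ⟩ := h.agree_table he
  have : τ = σ := code_injective (hτc.trans hc)
  subst this
  exact ⟨e, he, hc, hτ⟩

/-- The odd transposition. -/
theorem lin_s (hR : S.R (1, s0)) (n : ℕ) : S.ρ (1, s0) (S.ev v n) = S.ev v (lin (sM k) n) := by
  have hadd := S.ρ_add hR
  have hss : ∀ u, S.ρ (1, s0) (S.ρ (1, s0) u) = u := fun u => by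
    rw [← S.ρ_mul hR hR, show ((1, s0) : P36) * (1, s0) = 1 by decide +kernel, S.ρ_one]
  have hT : ∀ u, S.ρ (1, s0) (S.T u) = S.T (S.ρ (1, s0) u) := fun u => by
    simp only [T]
    rw [← S.ρ_mul hR S.R_th, ← S.ρ_mul S.R_th hR, th_comm]
  have sc := h.sc
  have scc : Perm.sign (Model.c0 * Model.c0) = 1 := by rw [map_mul, sc, one_mul]
  have sccc : Perm.sign (Model.c0 * Model.c0 * Model.c0) = 1 := by rw [map_mul, scc, sc, one_mul]
  have hblk : ∀ j, S.ρ (1, s0) (S.blk v (j + 1)) =
      S.A Model.c0 (S.A Model.c0 (S.A Model.c0 (S.ρ (1, s0) (S.blk v j)))) := by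
    intro j
    show S.ρ (1, s0) (S.ρ (1, Model.c0) (S.blk v j)) = _
    rw [← S.ρ_mul hR (S.R_six sc),
      show ((1, s0) : P36) * (1, Model.c0) = (1, Model.c0 * Model.c0 * Model.c0) * (1, s0) by decide +kernel,
      S.ρ_mul (S.R_six sccc) hR, ← S.A_mul sc sc, ← S.A_mul scc sc]
    rfl
  have hconj : ∀ {f f' : P6}, Perm.sign f = 1 → Perm.sign f' = 1 → s0 * f = f' * s0 → ∀ u,
      S.A f' (S.ρ (1, s0) u) = S.ρ (1, s0) (S.A f u) := by
    intro f f' hf hf' e u
    simp only [A]
    rw [← S.ρ_mul (S.R_six hf') hR, ← S.ρ_mul hR (S.R_six hf), Prod.mk_mul_mk, Prod.mk_mul_mk, e]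
  set u := S.ρ (1, s0) v with hu
  have sp := (start_facts k).1
  have key : ∀ w, S.A (Model.p0 k) w = S.T w → S.A (Model.c0 * Model.p0 k * Model.c0⁻¹) w = w →
      ∃ a, w = S.Tp a v ∨ w = 0 := by
    intro w h1 h2
    obtain ⟨m, hm, rfl⟩ := h.surjective w
    have hp' : h.Agree (Model.c0 * Model.p0 k * Model.c0⁻¹)
        (fun n => lin cM (lin pM (lin cM (lin cM (lin cM n))))) := by
      rw [show (Model.c0⁻¹ : P6) = Model.c0 * (Model.c0 * Model.c0) by decide +kernel, mul_assoc]
      exact h.agree_comp h.agree_c (h.agree_comp h.agree_p (h.agree_comp h.agree_c (h.agree_comp h.agree_c h.agree_c)))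
    rw [← h.lin_p, ← h.lin_th] at h1
    rw [hp'.2] at h2
    have e1 := h.injective (lin_lt _ _) (lin_lt _ _) h1
    have e2 := h.injective (lin_lt _ _) hm h2
    have hc : ∀ n < 256, lin pM n = lin thM n → lin cM (lin pM (lin cM (lin cM (lin cM n)))) = n →
        n = 0 ∨ n = 1 ∨ n = 2 ∨ n = 3 := by decide +kernel
    have hb := h.block_cases (j := 0) (m := m) (by norm_num) (hc m hm e1 e2)
    rcases hb with ⟨e0, -⟩ | ⟨-, a, ea⟩
    · exact ⟨0, Or.inr e0⟩
    · exact ⟨a, Or.inl ea⟩
  have u0 : u ≠ 0 := fun e => h.ne (S.ρ_injective hR (e.trans (S.ρ_zero hR).symm))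
  -- the image of the start vector
  have hs0 : S.ρ (1, s0) v = if k then S.blk v 3 else v := by
    cases k with
    | false =>
      obtain ⟨a, ha⟩ := key u (by
          rw [hconj sp sp (by decide +kernel) v, h.p, hT])
        (by
          have e : S.A (Model.c0 * Model.p0 false * Model.c0⁻¹)⁻¹ v = v := by
            conv_lhs => rw [← h.p']
            exact S.A_inv h.sp' v
          rw [hconj (f := (Model.c0 * Model.p0 false * Model.c0⁻¹)⁻¹) (by rw [map_inv, h.sp', inv_one]) h.sp'
            (by decide +kernel) v, e])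
      have ha' := ha.resolve_right u0
      have hfix := hss v
      rw [← hu, ha'] at hfix
      simp only [Bool.false_eq_true, if_false]
      fin_cases a
      · exact ha'
      · change S.ρ (1, s0) (S.T v) = v at hfix
        change S.ρ (1, s0) v = S.T v at ha'
        rw [hT, ha', S.caseA_TT h.case] at hfix
        exact absurd (S.ρ_injective S.R_th ((add_eq_left.mp hfix).trans S.T_zero.symm)) h.ne
      · change S.ρ (1, s0) (S.T (S.T v)) = v at hfix
        change S.ρ (1, s0) v = S.T (S.T v) at ha'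
        rw [hT, hT, ha', S.T_cube] at hfix
        exact absurd (S.caseA_free h.case hfix) h.ne
    | true =>
      -- the rotated image is again a standard vector
      have sp' := h.sp'
      obtain ⟨a, ha⟩ := key (S.A Model.c0 u) (by
          rw [← S.A_mul sp sc,
            show Model.p0 true * Model.c0 = Model.c0 * (Model.c0⁻¹ * Model.p0 true * Model.c0) by group,
            S.A_mul sc (by rw [map_mul, map_mul, map_inv, sp, sc]; rfl),
            hconj (f := Model.p0 true) (f' := Model.c0⁻¹ * Model.p0 true * Model.c0) sp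
              (by rw [map_mul, map_mul, map_inv, sp, sc]; rfl) (by decide +kernel) v, h.p, hT, S.A_T sc])
        (by
          rw [← S.A_mul sp' sc,
            show Model.c0 * Model.p0 true * Model.c0⁻¹ * Model.c0 = Model.c0 * Model.p0 true by group,
            S.A_mul sc sp,
            hconj (f := (Model.c0 * Model.p0 true * Model.c0⁻¹)⁻¹) (f' := Model.p0 true)
              (by rw [map_inv, sp', inv_one]) sp (by decide +kernel) v,
            show S.A (Model.c0 * Model.p0 true * Model.c0⁻¹)⁻¹ v = v by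
              conv_lhs => rw [← h.p']
              exact S.A_inv sp' v])
      have h4 : ∀ w, S.A Model.c0 (S.A Model.c0 (S.A Model.c0 (S.A Model.c0 w))) = w := fun w => by
        rw [← S.A_mul sc sc, ← S.A_mul scc sc, ← S.A_mul sccc sc, (start_facts true).2.2.1, S.A_one]
      have u' : u = S.Tp a (S.blk v 3) := by
        have hne : S.A Model.c0 u ≠ 0 := fun e => u0 (S.ρ_injective (S.R_six sc) (e.trans (S.A_zero sc).symm))
        have e := congrArg (fun w => S.A Model.c0 (S.A Model.c0 (S.A Model.c0 w))) (ha.resolve_right hne)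
        simp only [h4] at e
        rw [e, S.A_Tp sc, S.A_Tp sc, S.A_Tp sc]
        rfl
      have h3 : S.ρ (1, s0) (S.blk v 3) = S.A Model.c0 u := by
        rw [hblk 2, hblk 1, hblk 0]
        show _ = S.A Model.c0 u
        rw [h4, h4]
        rfl
      have hfix := hss v
      rw [← hu, u'] at hfix
      simp only [if_true]
      fin_cases a
      · exact u'
      · change S.ρ (1, s0) (S.T (S.blk v 3)) = v at hfix
        change u = S.T (S.blk v 3) at u'
        rw [hT, h3, u', S.A_T sc] at hfix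
        have e4 : S.A Model.c0 (S.blk v 3) = v := h4 v
        rw [e4, S.caseA_TT h.case] at hfix
        exact absurd (S.ρ_injective S.R_th ((add_eq_left.mp hfix).trans S.T_zero.symm)) h.ne
      · change S.ρ (1, s0) (S.T (S.T (S.blk v 3))) = v at hfix
        change u = S.T (S.T (S.blk v 3)) at u'
        rw [hT, hT, h3, u', S.A_T sc, S.A_T sc] at hfix
        have e4 : S.A Model.c0 (S.blk v 3) = v := h4 v
        rw [e4, S.T_cube] at hfix
        exact absurd (S.caseA_free h.case hfix) h.ne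
  have b0 : S.ρ (1, s0) (S.blk v 0) = if k then S.blk v 3 else S.blk v 0 := hs0
  have h4 := h.blk_four
  have h5 : ∀ j, S.A Model.c0 (S.blk v j) = S.blk v (j + 1) := fun j => rfl
  have h6 : ∀ j, S.blk v (j + 4) = S.blk v j := by
    intro j
    induction j with
    | zero => exact h4
    | succ j ih => exact congrArg (S.A Model.c0) ih
  have b : ∀ j < 4, S.ρ (1, s0) (S.blk v j) = S.blk v (if k then 3 - j else (4 - j) % 4) := by
    intro j hj
    cases k <;> simp only [Bool.false_eq_true, if_true, if_false] at b0 ⊢ <;> interval_cases j <;>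
      simp only [hblk, b0, h5, h6] <;> rfl
  refine (S.ev_lin v hadd _ (fun i hi => ?_) n).symm
  rw [byte_sM k i hi]
  cases k <;> interval_cases i <;>
    first
      | exact (b 0 (by norm_num)).trans (S.ev_two_pow v 0 (by norm_num)).symm
      | exact (b 0 (by norm_num)).trans (S.ev_two_pow v 6 (by norm_num)).symm
      | exact (b 1 (by norm_num)).trans (S.ev_two_pow v 6 (by norm_num)).symm
      | exact (b 1 (by norm_num)).trans (S.ev_two_pow v 4 (by norm_num)).symm
      | exact (b 2 (by norm_num)).trans (S.ev_two_pow v 4 (by norm_num)).symm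
      | exact (b 2 (by norm_num)).trans (S.ev_two_pow v 2 (by norm_num)).symm
      | exact (b 3 (by norm_num)).trans (S.ev_two_pow v 2 (by norm_num)).symm
      | exact (b 3 (by norm_num)).trans (S.ev_two_pow v 0 (by norm_num)).symm
      | exact ((hT _).trans (congrArg S.T (b 0 (by norm_num)))).trans (S.ev_two_pow v 1 (by norm_num)).symm
      | exact ((hT _).trans (congrArg S.T (b 0 (by norm_num)))).trans (S.ev_two_pow v 7 (by norm_num)).symm
      | exact ((hT _).trans (congrArg S.T (b 1 (by norm_num)))).trans (S.ev_two_pow v 7 (by norm_num)).symm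
      | exact ((hT _).trans (congrArg S.T (b 1 (by norm_num)))).trans (S.ev_two_pow v 5 (by norm_num)).symm
      | exact ((hT _).trans (congrArg S.T (b 2 (by norm_num)))).trans (S.ev_two_pow v 5 (by norm_num)).symm
      | exact ((hT _).trans (congrArg S.T (b 2 (by norm_num)))).trans (S.ev_two_pow v 3 (by norm_num)).symm
      | exact ((hT _).trans (congrArg S.T (b 3 (by norm_num)))).trans (S.ev_two_pow v 3 (by norm_num)).symm
      | exact ((hT _).trans (congrArg S.T (b 3 (by norm_num)))).trans (S.ev_two_pow v 1 (by norm_num)).symm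

end Start

end Setting

end CfsgLib.S3A6
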