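import Cfsg.Agent.Lib.Invol.S3A6.PlanePoint

/-!
Owner: helper13. The case of one moved plane: the set of vectors of conjugates of `z` is empty.
-/

set_option autoImplicit false
set_option linter.unusedSectionVars false

namespace CfsgLib.S3A6

open Cfsg CfsgLib.ThreeTrans Equiv

theorem count_sixteen {n p u a : ℕ} (h4 : 4 ≤ u) (h1 : n * u ≤ p) (h2 : n * p = 256) (h3 : 128 ≤ a * n) :
    16 ≤ a := by
  have h5 : n * (n * u) ≤ 256 := h2 ▸ Nat.mul_le_mul_left n h1
  have h8 : n ≤ 8 := by nlinarith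
  nlinarith

namespace Setting

variable {G : Type*} [Group G] [Finite G] {z : G} {Q : Subgroup G} (S : Setting z Q)
include S

theorem A_tr {h : P6} (hh : Perm.sign h = 1) (a y : V) :
    S.A h (S.tr a y) = S.tr (S.A h a) (S.A h y) := by
  have hB : S.B (S.A h a) (S.A h y) = S.B a y := S.ρ_B (S.R_six hh) a y
  simp only [tr, hB]
  split_ifs with c
  · rfl
  · exact S.A_add hh y a

theorem caseB_comm_fix {γ : P36} (hB : S.CaseB) (hγ : S.R γ) {w : V} (hqa : S.q (S.e0 w) = 1)
    (hV0 : ∀ y ∈ S.V0, S.ρ γ y = S.tr (S.e0 w) y) {h : P6} (hh : Perm.sign h = 1)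
    (hc : h * γ.2 = γ.2 * h) : S.A h w = w := by
  have ha : S.A h (S.e0 w) = S.e0 w := by
    obtain ⟨y, hy, hy1⟩ : ∃ y ∈ S.V0, S.B (S.e0 w) y = 1 := by
      by_contra hcon
      push Not at hcon
      have := S.V0_nondeg _ (S.e0_mem w) fun y hy => (two_cases _).resolve_right (hcon y hy)
      rw [this, S.q_zero] at hqa
      exact zero_ne_one hqa
    have hcom : γ * (1, h) = (1, h) * γ := Prod.ext (by simp) (by simpa using hc.symm)
    have e : S.ρ γ (S.A h y) = S.A h (S.ρ γ y) := by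
      simp only [A]
      rw [← S.ρ_mul hγ (S.R_six hh), hcom, S.ρ_mul (S.R_six hh) hγ]
    rw [hV0 _ (S.A_mem_V0 hh hy), hV0 y hy, tr, tr, hy1, if_neg one_ne_zero, S.A_add hh] at e
    split_ifs at e with c
    · rw [left_eq_add] at e
      have hq := S.A_q hh (S.e0 w)
      rw [e, S.q_zero, hqa] at hq
      exact absurd hq zero_ne_one
    · exact (add_left_cancel e).symm
  conv_lhs => rw [← S.e0_add_e1 w]
  rw [S.A_add hh, ha, S.caseB_A_V1 hB hh (S.e1_mem w), S.e0_add_e1]

/-- The product of an element and a conjugate under the six letters acts by two transvections. -/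
theorem caseB_prod {γ : P36} (hγ : S.R γ) (h2 : γ * γ = 1) {a : V}
    (hV0 : ∀ y ∈ S.V0, S.ρ γ y = S.tr a y) {h : P6} (hh : Perm.sign h = 1) :
    Perm.sign (γ.2 * (h * γ.2 * h⁻¹)) = 1 ∧
      ∀ y ∈ S.V0, S.A (γ.2 * (h * γ.2 * h⁻¹)) y = S.tr a (S.tr (S.A h a) y) := by
  constructor
  · simp only [map_mul, map_inv, hh, one_mul, inv_one, mul_one]
    exact Int.units_mul_self _
  intro y hy
  have hhi : Perm.sign h⁻¹ = 1 := by rw [map_inv, hh, inv_one]
  have hR := S.R_mul (S.R_mul (S.R_six hh) hγ) (S.R_six hhi)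
  have e : ((1, γ.2 * (h * γ.2 * h⁻¹)) : P36) = γ * ((1, h) * γ * (1, h⁻¹)) := by
    have ht : γ.1 * γ.1 = 1 := congrArg Prod.fst h2
    ext1 <;> simp [ht]
  show S.ρ (1, _) y = _
  rw [e, S.ρ_mul hγ hR, S.ρ_mul (S.R_mul (S.R_six hh) hγ) (S.R_six hhi), S.ρ_mul (S.R_six hh) hγ]
  have hy' : S.A h⁻¹ y ∈ S.V0 := S.A_mem_V0 hhi hy
  show S.ρ γ (S.A h (S.ρ γ (S.A h⁻¹ y))) = _
  have hy2 : S.A h (S.A h⁻¹ y) = y := by rw [← S.A_mul hh hhi, mul_inv_cancel, S.A_one]
  rw [hV0 _ hy', hV0 _ (S.A_mem_V0 hh (by rw [← hV0 _ hy']; exact S.ρ_mem_V0 hγ hy')), S.A_tr hh, hy2]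

theorem caseB_trivial (hB : S.CaseB) {p : P6} (hp : Perm.sign p = 1) (h : ∀ y ∈ S.V0, S.A p y = y) :
    p = 1 := by
  refine congrArg Prod.snd (S.ρ_faithful (S.R_six hp) fun v => ?_)
  show S.A p v = v
  rw [← S.e0_add_e1 v, S.A_add hp, h _ (S.e0_mem v), S.caseB_A_V1 hB hp (S.e1_mem v)]

theorem caseB_no_even {g : G} (hB : S.CaseB) (hg : S.Carries g) {γ : P36} (hγ : S.R γ) (h2 : γ * γ = 1)
    (hqa : S.q (S.e0 (S.pt g)) = 1) (hV0 : ∀ y ∈ S.V0, S.ρ γ y = S.tr (S.e0 (S.pt g)) y)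
    (he : Perm.sign γ.2 = 1) : False := by
  by_cases h1 : γ.2 = 1
  · exact S.caseB_not_fixed hg fun a ha => S.caseB_comm_fix hB hγ hqa hV0 ha (by rw [h1, one_mul, mul_one])
  obtain ⟨h, hh, hp1, hp5⟩ := exists_five (congrArg Prod.snd h2) h1 he
  obtain ⟨hpe, hp⟩ := S.caseB_prod hγ h2 hV0 hh
  set p := γ.2 * (h * γ.2 * h⁻¹) with hpdef
  have hqb : S.q (S.A h (S.e0 (S.pt g))) = 1 := by rw [S.A_q hh, hqa]
  have hm : ∀ n : ℕ, ∀ y, S.A (p ^ (n + 1)) y = S.A p (S.A (p ^ n) y) := fun n y => by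
    rw [pow_succ', S.A_mul hpe (by rw [map_pow, hpe, one_pow])]
  have hmem : ∀ y ∈ S.V0, S.A p y ∈ S.V0 := fun y hy => S.A_mem_V0 hpe hy
  rcases two_cases (S.B (S.e0 (S.pt g)) (S.A h (S.e0 (S.pt g)))) with c | c
  · have e : p ^ 2 = 1 := S.caseB_trivial hB (by rw [map_pow, hpe, one_pow]) fun y hy => by
      rw [hm 1, pow_one, hp _ (hmem y hy), hp y hy]
      exact (S.tr_pow hqa hqb y).1 c
    refine hp1 ?_
    rw [← hp5, show 5 = 2 * 2 + 1 by rfl, pow_succ, pow_mul, e, one_pow, one_mul]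
  · have e : p ^ 3 = 1 := S.caseB_trivial hB (by rw [map_pow, hpe, one_pow]) fun y hy => by
      rw [hm 2, hm 1, pow_one, hp _ (hmem _ (hmem y hy)), hp _ (hmem y hy), hp y hy]
      exact (S.tr_pow hqa hqb y).2 c
    have e2 : p ^ 2 = 1 := by
      have : p ^ 5 = p ^ 3 * p ^ 2 := by rw [← pow_add]
      rw [hp5, e, one_mul] at this
      exact this.symm
    refine hp1 ?_
    rw [← hp5, show 5 = 2 * 2 + 1 by rfl, pow_succ, pow_mul, e2, one_pow, one_mul]

/-- For an odd second component the group of the pair has at least 16 elements. -/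
theorem caseB_sixteen {g : G} (hB : S.CaseB) (hg : S.Carries g) {γ : P36} (hγ : S.R γ) (h2 : γ * γ = 1)
    (hqa : S.q (S.e0 (S.pt g)) = 1) (hV0 : ∀ y ∈ S.V0, S.ρ γ y = S.tr (S.e0 (S.pt g)) y)
    (he : Perm.sign γ.2 ≠ 1) : 16 ≤ Nat.card (S.AP g) := by
  classical
  have h1 : γ.2 ≠ 1 := fun e => he (by rw [e, map_one])
  obtain ⟨h, k, hh, hk, hp1, hp3, hcomm⟩ := exists_three (congrArg Prod.snd h2) h1 he
  obtain ⟨hpe, hp⟩ := S.caseB_prod hγ h2 hV0 hh
  set a := S.e0 (S.pt g) with hadef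
  set p := γ.2 * (h * γ.2 * h⁻¹) with hpdef
  set b := S.A h a with hbdef
  have hb0 : b ∈ S.V0 := S.A_mem_V0 hh (S.e0_mem _)
  have ha0 : a ∈ S.V0 := S.e0_mem _
  have hqb : S.q b = 1 := by rw [S.A_q hh, hqa]
  have hab : S.B a b = 1 := by
    refine (two_cases _).resolve_left fun c => ?_
    have e : p ^ 2 = 1 := S.caseB_trivial hB (by rw [map_pow, hpe, one_pow]) fun y hy => by
      rw [pow_two, S.A_mul hpe hpe, hp _ (S.A_mem_V0 hpe hy), hp y hy]
      exact (S.tr_pow hqa hqb y).1 c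
    refine hp1 ?_
    rw [← hp3, show 3 = 2 + 1 by rfl, pow_succ, e, one_mul]
  set P := k * p * k⁻¹ with hPdef
  have hki : Perm.sign k⁻¹ = 1 := by rw [map_inv, hk, inv_one]
  have hPe : Perm.sign P = 1 := by simp [hPdef, hpe, hk]
  have hfix : S.A P (S.pt g) = S.pt g := S.caseB_comm_fix hB hγ hqa hV0 hPe hcomm.symm
  have hshape : ∀ y, S.A p y + y = 0 ∨ S.A p y + y = a ∨ S.A p y + y = b ∨ S.A p y + y = a + b := by
    intro y
    have e : S.A p y + y = S.A p (S.e0 y) + S.e0 y := by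
      conv_lhs => rw [← S.e0_add_e1 y]
      rw [S.A_add hpe, S.caseB_A_V1 hB hpe (S.e1_mem y), add_add_add_comm, v_add_self, add_zero]
    rw [e, hp _ (S.e0_mem y), S.tr_tr]
    generalize S.e0 y = u
    rcases two_cases (S.B b u) with c | c <;> rcases two_cases (S.B a u) with d | d <;>
      simp [c, d, hab, z2_add_self, add_comm u, v_add_self, add_assoc, add_comm b a]
  have hkey : ∀ y, S.A P y + y = S.A k (S.A p (S.A k⁻¹ y) + S.A k⁻¹ y) := by
    intro y
    have e2 : S.A k (S.A k⁻¹ y) = y := by rw [← S.A_mul hk hki, mul_inv_cancel, S.A_one]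
    rw [hPdef, S.A_mul (by rw [map_mul, hk, hpe, mul_one]) hki, S.A_mul hk hpe, S.A_add hk, e2]
  set U : Finset V := Finset.univ.image fun y => S.A P y + y with hU
  have hUq : ∀ u ∈ U, u = 0 ∨ S.q u = 1 := by
    intro u hu
    obtain ⟨y, -, rfl⟩ := Finset.mem_image.mp hu
    rw [hkey]
    rcases hshape (S.A k⁻¹ y) with e | e | e | e <;> rw [e]
    · exact Or.inl (S.ρ_zero (S.R_six hk))
    · exact Or.inr (by rw [S.A_q hk, hqa])
    · exact Or.inr (by rw [S.A_q hk, hqb])
    · exact Or.inr (by rw [S.A_q hk, S.q_add, hqa, hqb, hab]; decide)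
  have hUsub : IsSub U := by
    refine ⟨Finset.mem_image.mpr ⟨0, Finset.mem_univ _, by rw [add_zero]; exact S.ρ_zero (S.R_six hPe)⟩, ?_⟩
    intro u v hu hv
    obtain ⟨x, -, rfl⟩ := Finset.mem_image.mp hu
    obtain ⟨y, -, rfl⟩ := Finset.mem_image.mp hv
    exact Finset.mem_image.mpr ⟨x + y, Finset.mem_univ _, by rw [S.A_add hPe]; abel⟩
  have hUmem : ∀ y, S.A k (S.A p y + y) ∈ U := fun y => Finset.mem_image.mpr ⟨S.A k y, Finset.mem_univ _, by
    rw [hkey, S.A_inv hk]⟩
  have hUa : S.A k a ∈ U := by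
    have h := hUmem b
    rwa [hp b hb0, S.tr_tr, S.B_self, hab, if_pos rfl, if_pos rfl, add_zero,
      if_neg (by rw [add_zero]; exact one_ne_zero), add_comm b a, add_assoc, v_add_self, add_zero] at h
  have hUb : S.A k b ∈ U := by
    have h := hUmem a
    have hba : S.B b a = 1 := (S.B_comm b a).trans hab
    rw [hp a ha0, S.tr_tr, hba, S.B_self, hab, if_neg one_ne_zero, if_neg one_ne_zero,
      if_neg (by rw [zero_add]; exact one_ne_zero),
      show a + b + a + a = b + (a + a) + a by abel, v_add_self, add_zero] at h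
    have h' := hUsub.add h hUa
    rwa [← S.A_add hk, add_assoc, v_add_self, add_zero] at h'
  have hU4 : 4 ≤ U.card := by
    have ha' : S.A k a ≠ 0 := fun e => by
      have := S.A_q hk a
      rw [e, S.q_zero, hqa] at this
      exact zero_ne_one this
    have hb' : S.A k b ≠ 0 := fun e => by
      have := S.A_q hk b
      rw [e, S.q_zero, hqb] at this
      exact zero_ne_one this
    have hne : S.A k a ≠ S.A k b := fun e => by
      have := S.ρ_injective (S.R_six hk) e
      rw [← this, S.B_self] at hab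
      exact zero_ne_one hab
    refine le_trans (le_of_eq ?_) (Finset.card_le_card
      (show ({0, S.A k a, S.A k b, S.A k a + S.A k b} : Finset V) ⊆ U by
        intro y hy
        simp only [Finset.mem_insert, Finset.mem_singleton] at hy
        rcases hy with rfl | rfl | rfl | rfl
        exacts [hUsub.zero, hUa, hUb, hUsub.add hUa hUb]))
    rw [Finset.card_insert_of_notMem, Finset.card_insert_of_notMem, Finset.card_pair]
    · exact fun e => ha' (right_eq_add.mp e)
    · simp only [Finset.mem_insert, Finset.mem_singleton, not_or]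
      exact ⟨hne, fun e => hb' (left_eq_add.mp e)⟩
    · simp only [Finset.mem_insert, Finset.mem_singleton, not_or]
      exact ⟨ha'.symm, hb'.symm, fun e => hne (v_add_eq_zero.mp e.symm)⟩
  have hEfix : ∀ v ∈ S.EP g, S.A P v = v := by
    intro v hv
    have hm : S.A P v + v ∈ S.EP g := (S.EP_sub g).add ((S.stab hg (S.R_six hPe) hfix).2 v hv) hv
    rcases hUq _ (Finset.mem_image.mpr ⟨v, Finset.mem_univ _, rfl⟩) with e | e
    · exact v_add_eq_zero.mp e
    · rw [S.EP_singular hg hm] at e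
      exact absurd e zero_ne_one
  have hperpU : ∀ v ∈ S.EP g, ∀ u ∈ U, S.B u v = 0 := by
    intro v hv u hu
    obtain ⟨y, -, rfl⟩ := Finset.mem_image.mp hu
    rw [S.B_add]
    calc S.B (S.A P y) v + S.B y v = S.B (S.A P y) (S.A P v) + S.B y v := by rw [hEfix v hv]
      _ = 0 := by rw [A, A, S.ρ_B (S.R_six hPe), z2_add_self]
  have hcard : (S.EP g).card * U.card ≤ (S.perp (S.EP g)).card := by
    rw [← Finset.card_product]
    refine Finset.card_le_card_of_injOn (fun e : V × V => e.1 + e.2) (fun e he => ?_) ?_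
    · obtain ⟨he1, he2⟩ := Finset.mem_product.mp he
      refine S.mem_perp.mpr fun v hv => ?_
      rw [S.B_add_right, S.EP_isotropic hg v hv _ he1, S.B_comm, hperpU v hv _ he2, add_zero]
    · rintro ⟨e, u⟩ hp' ⟨e', u'⟩ hq' heq
      obtain ⟨he1, hu1⟩ := Finset.mem_product.mp (Finset.mem_coe.mp hp')
      obtain ⟨he2, hu2⟩ := Finset.mem_product.mp (Finset.mem_coe.mp hq')
      simp only at heq
      have heu : e + e' = u + u' := by
        rw [← v_add_eq_zero, show e + e' + (u + u') = (e + u) + (e' + u') by abel, heq, v_add_self]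
      have hu0 : u + u' = 0 := by
        rcases hUq _ (hUsub.add hu1 hu2) with c | c
        · exact c
        · rw [← heu, S.EP_singular hg ((S.EP_sub g).add he1 he2)] at c
          exact absurd c zero_ne_one
      exact Prod.ext (v_add_eq_zero.mp (heu.trans hu0)) (v_add_eq_zero.mp hu0)
  have hmul := S.card_mul_perp (S.EP_sub g)
  have hAP := S.AP_card hg
  exact count_sixteen hU4 hcard hmul hAP

/-- The pair of the odd component and the identity lies in the group. -/
theorem caseB_first {g : G} (hg : S.Carries g) {γ : P36} (hγ : γ ∈ S.AP g) (ht : γ.1 ≠ 1)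
    (h16 : 16 ≤ Nat.card (S.AP g)) (hs : γ.2 ≠ 1) : (γ.1, 1) ∈ S.AP g := by
  classical
  have hc := fun {δ η : P36} (h : δ ∈ S.AP g) (h' : η ∈ S.AP g) => congrArg Prod.snd (S.AP_comm hg h h')
  have hsq := fun {δ : P36} (h : δ ∈ S.AP g) => congrArg Prod.snd (S.AP_sq hg h)
  set K : Finset P6 := Finset.univ.filter fun b => ((1, b) : P36) ∈ S.AP g with hK
  have hKm : ∀ {b}, b ∈ K ↔ ((1, b) : P36) ∈ S.AP g := fun {b} => by simp [hK]
  have hfst : ∀ δ ∈ S.AP g, δ.1 = 1 ∨ δ.1 = γ.1 := by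
    intro δ hδ
    rcases p3_inv_comm δ.1 γ.1 (congrArg Prod.fst (S.AP_sq hg hδ)) (congrArg Prod.fst (S.AP_sq hg hγ))
      (congrArg Prod.fst (S.AP_comm hg hδ hγ)) with e | e | e
    exacts [Or.inl e, absurd e ht, Or.inr e]
  have hK8 : 8 ≤ K.card := by
    have h : Nat.card (S.AP g) ≤ 2 * K.card := by
      let f : S.AP g → Bool × P6 := fun δ =>
        if (δ : P36).1 = 1 then (true, (δ : P36).2) else (false, γ.2 * (δ : P36).2)
      have hf : Function.Injective f := by
        intro δ η e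
        simp only [f] at e
        split_ifs at e with c d d
        · simp only [Prod.mk.injEq] at e
          exact Subtype.ext (Prod.ext (c.trans d.symm) e.2)
        · simp at e
        · simp at e
        · simp only [Prod.mk.injEq] at e
          exact Subtype.ext (Prod.ext (((hfst _ δ.2).resolve_left c).trans ((hfst _ η.2).resolve_left d).symm)
            (mul_left_cancel e.2))
      have hmem : ∀ δ : S.AP g, f δ ∈ Finset.univ ×ˢ K := by
        intro δ
        simp only [f]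
        refine Finset.mem_product.mpr ⟨Finset.mem_univ _, hKm.mpr ?_⟩
        split_ifs with c
        · rw [← c]; exact δ.2
        · have h := mul_mem hγ δ.2
          have e : γ * (δ : P36) = (1, γ.2 * (δ : P36).2) := by
            refine Prod.ext ?_ rfl
            show γ.1 * (δ : P36).1 = 1
            rw [(hfst _ δ.2).resolve_left c]
            exact congrArg Prod.fst (S.AP_sq hg hγ)
          rwa [e] at h
      haveI : Fintype (S.AP g) := Fintype.ofFinite _
      rw [Nat.card_eq_fintype_card, ← Finset.card_univ]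
      refine le_trans (Finset.card_le_card_of_injOn f (fun δ _ => hmem δ) hf.injOn) ?_
      simp
    omega
  obtain ⟨a, ha, a1⟩ := Finset.exists_mem_ne (s := K) (by omega) 1
  obtain ⟨b, hb, hb'⟩ := Finset.exists_mem_notMem_of_card_lt_card
    (s := ({1, a} : Finset P6)) (t := K) (lt_of_le_of_lt Finset.card_le_two (by omega))
  obtain ⟨c, hcK, hc'⟩ := Finset.exists_mem_notMem_of_card_lt_card
    (s := ({1, a, b, a * b} : Finset P6)) (t := K) (lt_of_le_of_lt Finset.card_le_four (by omega))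
  simp only [Finset.mem_insert, Finset.mem_singleton, not_or] at hb' hc'
  rw [hKm] at ha hb hcK
  have e := elem_span (hsq ha) (hsq hb) (hsq hcK) (hsq hγ) a1 hb'.1 hc'.1 hs (hc ha hb) (hc ha hcK)
    (hc hb hcK) (hc ha hγ) (hc hb hγ) (hc hcK hγ) hb'.2 hc'.2.1 hc'.2.2.1 hc'.2.2.2
  have hsK : ((1, γ.2) : P36) ∈ S.AP g := by
    rcases e with e | e | e | e | e | e | e <;> rw [e]
    · exact ha
    · exact hb
    · exact hcK
    · simpa using mul_mem ha hb
    · simpa using mul_mem ha hcK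
    · simpa using mul_mem hb hcK
    · simpa using mul_mem (mul_mem ha hb) hcK
  have h := mul_mem hγ hsK
  rwa [show γ * (1, γ.2) = (γ.1, 1) from Prod.ext (mul_one _) (show γ.2 * γ.2 = 1 from congrArg Prod.snd (S.AP_sq hg hγ))] at h

/-- The final contradiction of the plane case. -/
theorem caseB_central {g : G} (hB : S.CaseB) (hg : S.Carries g) {τ : P36} (hτ : τ ∈ S.AP g) (hs : τ.2 = 1)
    (hqa : S.q (S.e0 (S.pt g)) = 1) {y1 : V} (hy1 : y1 ∈ S.V1) (hB1 : S.B (S.e1 (S.pt g)) y1 = 1)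
    (h1 : S.ρ τ y1 + y1 = S.e1 (S.pt g)) : False := by
  classical
  set w := S.pt g with hw
  set a := S.e0 w with ha
  set b := S.e1 w with hb
  have hτR := S.AP_R hτ
  have hτ2 := S.AP_sq hg hτ
  have hinv : ∀ v, S.ρ τ (S.ρ τ v) = v := fun v => by rw [← S.ρ_mul hτR hτR, hτ2, S.ρ_one]
  have hsym : ∀ u v, S.B (S.ρ τ u) v = S.B u (S.ρ τ v) := fun u v => by
    calc S.B (S.ρ τ u) v = S.B (S.ρ τ u) (S.ρ τ (S.ρ τ v)) := by rw [hinv]
      _ = _ := S.ρ_B hτR _ _
  have haV := S.e0_mem w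
  have hbV := S.e1_mem w
  have hBw : ∀ u ∈ S.V0, S.B w u = S.B a u := fun u hu => by
    rw [← S.e0_add_e1 w, S.B_add, ← hb, S.B_comm b, S.B_V0_V1 hu hbV, add_zero]
  have hBw1 : S.B w y1 = 1 := by
    rw [← S.e0_add_e1 w, S.B_add, S.B_V0_V1 haV hy1, zero_add, ← hb, hB1]
  set I : Finset V := S.V0.image fun y => S.ρ τ y + y with hI
  have hIV : ∀ i ∈ I, i ∈ S.V0 := fun i hi => by
    obtain ⟨y, hy, rfl⟩ := Finset.mem_image.mp hi
    exact S.V0_sub.add (S.ρ_mem_V0 hτR hy) hy
  have hIsub : IsSub I := by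
    refine ⟨Finset.mem_image.mpr ⟨0, S.V0_sub.zero, by rw [add_zero]; exact S.ρ_zero hτR⟩, ?_⟩
    intro u v hu hv
    obtain ⟨x, hx, rfl⟩ := Finset.mem_image.mp hu
    obtain ⟨y, hy, rfl⟩ := Finset.mem_image.mp hv
    exact Finset.mem_image.mpr ⟨x + y, S.V0_sub.add hx hy, by rw [S.ρ_add hτR]; abel⟩
  have hIiso : S.Isotropic I := by
    intro u hu v hv
    obtain ⟨x, hx, rfl⟩ := Finset.mem_image.mp hu
    obtain ⟨y, hy, rfl⟩ := Finset.mem_image.mp hv
    rw [S.B_add, S.B_add_right, S.B_add_right, S.ρ_B hτR, hsym x y]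
    generalize S.B x y = p
    generalize S.B x (S.ρ τ y) = r
    revert p r
    decide
  set J : Finset V := (I ×ˢ ({0, b} : Finset V)).image (fun p : V × V => p.1 + p.2) with hJ
  have hJm : ∀ {v}, v ∈ J ↔ v ∈ I ∨ v + b ∈ I := by
    intro v
    simp only [hJ, Finset.mem_image, Finset.mem_product, Finset.mem_insert, Finset.mem_singleton, Prod.exists]
    constructor
    · rintro ⟨i, j, ⟨hi, rfl | rfl⟩, rfl⟩
      · exact Or.inl (by rwa [add_zero])
      · exact Or.inr (by rwa [add_assoc, v_add_self, add_zero])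
    · rintro (h | h)
      · exact ⟨v, 0, ⟨h, Or.inl rfl⟩, add_zero v⟩
      · exact ⟨v + b, b, ⟨h, Or.inr rfl⟩, by rw [add_assoc, v_add_self, add_zero]⟩
  have hJsub : IsSub J := by
    refine ⟨hJm.mpr (Or.inl hIsub.zero), fun {u v} hu hv => hJm.mpr ?_⟩
    rcases hJm.mp hu with c | c <;> rcases hJm.mp hv with d | d
    · exact Or.inl (hIsub.add c d)
    · exact Or.inr (by rw [add_assoc]; exact hIsub.add c d)
    · exact Or.inr (by rw [add_right_comm]; exact hIsub.add c d)
    · refine Or.inl ?_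
      have := hIsub.add c d
      rwa [add_add_add_comm, v_add_self, add_zero] at this
  have hJiso : S.Isotropic J := by
    intro u hu v hv
    obtain ⟨⟨i, j⟩, hp, rfl⟩ := Finset.mem_image.mp hu
    obtain ⟨⟨i', j'⟩, hp', rfl⟩ := Finset.mem_image.mp hv
    obtain ⟨hi, hj⟩ := Finset.mem_product.mp hp
    obtain ⟨hi', hj'⟩ := Finset.mem_product.mp hp'
    have hjV : ∀ j ∈ ({0, b} : Finset V), j ∈ S.V1 := fun j hj => by
      simp only [Finset.mem_insert, Finset.mem_singleton] at hj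
      rcases hj with rfl | rfl
      exacts [S.V1_sub.zero, hbV]
    simp only [S.B_add, S.B_add_right, hIiso i hi i' hi', S.B_V0_V1 (hIV i hi) (hjV j' hj'),
      S.B_comm j i', S.B_V0_V1 (hIV i' hi') (hjV j hj), zero_add, add_zero]
    simp only [Finset.mem_insert, Finset.mem_singleton] at hj hj'
    rcases hj with rfl | rfl <;> rcases hj' with rfl | rfl <;>
      first | exact S.B_zero _ | exact S.B_self _ | (rw [S.B_comm]; exact S.B_zero _)
  have hI8 : I.card ≤ 8 := by
    have h := S.isotropic_card hJsub hJiso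
    have hc : J.card = 2 * I.card := by
      rw [hJ, Finset.card_image_of_injOn, Finset.card_product, Finset.card_pair (S.pt_e1_ne hg).symm, mul_comm]
      rintro ⟨i, j⟩ hp ⟨i', j'⟩ hp' e
      obtain ⟨hi, hj⟩ := Finset.mem_product.mp (Finset.mem_coe.mp hp)
      obtain ⟨hi', hj'⟩ := Finset.mem_product.mp (Finset.mem_coe.mp hp')
      simp only at e
      have hjV : ∀ j ∈ ({0, b} : Finset V), j ∈ S.V1 := fun j hj => by
        simp only [Finset.mem_insert, Finset.mem_singleton] at hj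
        rcases hj with rfl | rfl
        exacts [S.V1_sub.zero, hbV]
      have hij : i + i' = j + j' := by
        rw [← v_add_eq_zero, show i + i' + (j + j') = (i + j) + (i' + j') by abel, e, v_add_self]
      have h0 := S.V0_V1_zero (hIV _ (hIsub.add hi hi')) (hij ▸ S.V1_sub.add (hjV j hj) (hjV j' hj'))
      exact Prod.ext (v_add_eq_zero.mp h0) (v_add_eq_zero.mp (hij.symm.trans h0))
    omega
  have hIA : ∀ h, Perm.sign h = 1 → ∀ i ∈ I, S.A h i ∈ I := by
    intro h hh i hi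
    obtain ⟨y, hy, rfl⟩ := Finset.mem_image.mp hi
    refine Finset.mem_image.mpr ⟨S.A h y, S.A_mem_V0 hh hy, ?_⟩
    have hcom : τ * (1, h) = (1, h) * τ := Prod.ext (by simp) (by simp [hs])
    rw [S.A_add hh]
    simp only [A]
    rw [← S.ρ_mul hτR (S.R_six hh), hcom, S.ρ_mul (S.R_six hh) hτR]
  have hIfix : ∀ h, Perm.sign h = 1 → ∀ i ∈ I, S.A h i = i := fun h hh =>
    S.trivial_of_five hIA (by
      have hsub := hIsub.filter (S.A c5) (fun u _ v _ => S.A_add c5_facts.1 u v)
        (S.ρ_zero (S.R_six c5_facts.1))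
      obtain ⟨j, -, e⟩ := hsub.exists_card
      obtain ⟨k, -, e'⟩ := hIsub.exists_card
      have hmod := card_fixed_mod I (S.A c5) (fun v hv => hIA c5 c5_facts.1 v hv) (fun v _ => S.A_five v)
      have hle := Finset.card_filter_le I fun v => S.A c5 v = v
      rw [e, e'] at hmod hle
      rw [e'] at hI8
      have hjk : j = k := by
        have hk : k ≤ 3 := (Nat.pow_le_pow_iff_right (by norm_num)).mp (hI8.trans_eq (by norm_num))
        have hj : j ≤ k := (Nat.pow_le_pow_iff_right (by norm_num)).mp hle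
        interval_cases k <;> interval_cases j <;> simp_all
      intro v hv
      have heq : I.filter (fun v => S.A c5 v = v) = I :=
        Finset.eq_of_subset_of_card_le (Finset.filter_subset _ _) (by rw [e, e', hjk])
      rw [← heq] at hv
      exact (Finset.mem_filter.mp hv).2) hh
  by_cases hsing : ∃ i ∈ I, i ≠ 0 ∧ S.q i = 0
  · obtain ⟨i, hi, h0, hq⟩ := hsing
    exact S.no_singular_fixed hB (hIV i hi) h0 hq fun h hh => hIfix h hh i hi
  push Not at hsing
  have hperp0 : ∀ y ∈ S.V0, S.B a y = 0 → S.ρ τ y = y := by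
    intro y hy hy0
    refine v_add_eq_zero.mp (by_contra fun hne => hsing _ (Finset.mem_image.mpr ⟨y, hy, rfl⟩) hne ?_)
    exact S.EP_singular hg (S.AP_perp hg hτ ((hBw y hy).trans hy0))
  obtain ⟨y0, hy0, hy0'⟩ : ∃ y ∈ S.V0, S.B a y = 1 := by
    by_contra hcon
    push Not at hcon
    have := S.V0_nondeg a haV fun y hy => (two_cases _).resolve_right (hcon y hy)
    rw [this, S.q_zero] at hqa
    exact zero_ne_one hqa
  set i := S.ρ τ y0 + y0 with hi
  have hiI : i ∈ I := Finset.mem_image.mpr ⟨y0, hy0, rfl⟩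
  have hqi : S.q i = 1 := by
    have hperp : S.B w (y0 + y1) = 0 := by rw [S.B_add_right, hBw y0 hy0, hy0', hBw1]; decide
    have h := S.EP_singular hg (S.AP_perp hg hτ hperp)
    rw [S.ρ_add hτR, add_add_add_comm, ← hi, h1, S.q_add, S.B_V0_V1 (hIV i hiI) hbV,
      S.caseB_q hB hbV (S.pt_e1_ne hg), add_zero] at h
    revert h
    generalize S.q i = p
    revert p
    decide
  have hia : i = a := by
    refine v_add_eq_zero.mp (S.V0_nondeg _ (S.V0_sub.add (hIV i hiI) haV) fun u hu => ?_)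
    have hperp : ∀ u ∈ S.V0, S.B a u = 0 → S.B (i + a) u = 0 := fun u hu hu0 => by
      rw [S.B_add, hi, S.B_add, hsym, hperp0 u hu hu0, z2_add_self, hu0, add_zero]
    have hy : S.B (i + a) y0 = 0 := by
      have hb' : S.B (S.ρ τ y0) y0 = 1 := by
        have h := S.q_add (S.ρ τ y0) y0
        rw [← hi, hqi, S.ρ_q hτR, z2_add_self, zero_add] at h
        exact h.symm
      rw [S.B_add, hi, S.B_add, hb', S.B_self, hy0']
      decide
    rcases two_cases (S.B a u) with c | c
    · exact hperp u hu c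
    · have h := hperp (u + y0) (S.V0_sub.add hu hy0) (by rw [S.B_add_right, c, hy0']; decide)
      rwa [S.B_add_right, hy, add_zero] at h
  refine S.caseB_not_fixed hg fun h hh => ?_
  rw [← hw]
  conv_lhs => rw [← S.e0_add_e1 w]
  rw [S.A_add hh, ← ha, ← hia, hIfix h hh i hiI, S.caseB_A_V1 hB hh (S.e1_mem w), hia, ha, S.e0_add_e1]

/-- In the plane case no other conjugate of `z` lies in `Q`. -/
theorem caseB_no_phi (hB : S.CaseB) (v : V) : ¬ S.Phi v := by
  intro hv
  obtain ⟨g, hg, -⟩ := S.exists_pt hv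
  obtain ⟨γ, hγ, hne, htriv⟩ := S.caseB_exists_siegel hB hg
  have hγR := S.AP_R hγ
  have h2 := S.AP_sq hg hγ
  obtain ⟨hchi, hqa, hV0, hV1⟩ := S.siegel hB hγR h2 hne (S.q_pt hg) (S.pt_e1_ne hg) htriv
  by_cases he : Perm.sign γ.2 = 1
  · exact S.caseB_no_even hB hg hγR h2 hqa hV0 he
  have hs : γ.2 ≠ 1 := fun e => he (by rw [e, map_one])
  have ht : γ.1 ≠ 1 := fun e => hchi (by rw [chi, e, map_one])
  have h16 := S.caseB_sixteen hB hg hγR h2 hqa hV0 he
  have hτ := S.caseB_first hg hγ ht h16 hs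
  have hy1 : S.T (S.e1 (S.pt g)) ∈ S.V1 := S.V1_fpf.map _ (S.e1_mem _)
  have hB1 : S.B (S.e1 (S.pt g)) (S.T (S.e1 (S.pt g))) = 1 :=
    (S.V1_fpf.B_pair (S.e1_mem _)).trans (S.caseB_q hB (S.e1_mem _) (S.pt_e1_ne hg))
  refine S.caseB_central hB hg hτ rfl hqa hy1 hB1 ?_
  have hsR : S.R (1, γ.2) := by
    have := S.R_mul (S.AP_R hτ) hγR
    rwa [show ((γ.1, 1) : P36) * γ = (1, γ.2) from
      Prod.ext (show γ.1 * γ.1 = 1 from congrArg Prod.fst h2) (one_mul _)] at this
  have hfix := S.caseB_fix hB hsR (congrArg Prod.snd h2) hy1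
  have e : S.ρ γ (S.T (S.e1 (S.pt g))) = S.ρ (γ.1, 1) (S.T (S.e1 (S.pt g))) := by
    conv_lhs => rw [show γ = (γ.1, 1) * (1, γ.2) from Prod.ext (mul_one _).symm (one_mul _).symm]
    rw [S.ρ_mul (S.AP_R hτ) hsR, hfix]
  rw [← e]
  exact hV1 _ hy1 hB1

end Setting

end CfsgLib.S3A6
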