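import Cfsg.Agent.Lib.Invol.S3A6.ModelData

/-!
Owner: helper13. Facts about the two monomial models, checked by computation on codes below 256.
A vector is a code of four blocks of two bits; the bits of a block stand for a vector and its multiple
by the scalar of order three.
-/

set_option autoImplicit false
set_option maxRecDepth 100000
set_option Elab.async false

namespace CfsgLib.S3A6.Model

open Equiv

/-- A byte of a packed matrix. -/
def byte (M i : ℕ) : ℕ := M / 256 ^ i % 256

/-- The image of a vector under a packed matrix. -/
def lin (M n : ℕ) : ℕ :=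
  (List.range 8).foldr (fun i r => (if n.testBit i then byte M i else 0) ^^^ r) 0

/-- The product of packed matrices. -/
def cmp (M N : ℕ) : ℕ := (List.range 8).foldr (fun i r => lin M (byte N i) * 256 ^ i + r) 0

/-- The identity matrix. -/
def idm : ℕ := (List.range 8).foldr (fun i r => 2 ^ i * 256 ^ i + r) 0

/-- The scalar of order three. -/
def thM : ℕ := 13871139766500066050

/-- The quadratic form: the parity of the number of nonzero blocks. -/
def qM (n : ℕ) : Bool :=
  ((n % 4 != 0) ^^ (n / 4 % 4 != 0)) ^^ ((n / 16 % 4 != 0) ^^ (n / 64 % 4 != 0))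

/-- The polar form. -/
def BM (u v : ℕ) : Bool := (qM (u ^^^ v) ^^ qM u) ^^ qM v

/-- The three-cycle or pair of three-cycles of a kind. -/
def p0 : Bool → P6
  | false => swap 0 1 * swap 1 2
  | true => swap 0 1 * swap 1 2 * (swap 3 4 * swap 4 5)

/-- The element of order four. -/
def c0 : P6 := swap 0 3 * (swap 1 4 * swap 4 2 * swap 2 5)

/-- The matrix of `p0`. -/
def pM : ℕ := 9241404233843213058

/-- The matrix of `c0`. -/
def cM : ℕ := 144537675956750340

/-- The matrix of the involution. -/
def gM : Bool → ℕ
  | false => 3032515005557869125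
  | true => 12129498167511427605

/-- The matrix of the odd transposition. -/
def sM : Bool → ℕ
  | false => 577621907453510145
  | true => 144405476863410240

/-- The generators with their matrices. -/
def gen (k : Bool) : ℕ → P6 × ℕ
  | 0 => (p0 k, pM)
  | 1 => (c0, cM)
  | _ => (g0, gM k)

/-- The codes of the generators. -/
def genC : Bool → ℕ → ℕ
  | false, 0 => 181777
  | true, 0 => 120849
  | _, 1 => 41315
  | _, _ => 180307

theorem genC_eq : ∀ k : Bool, code (p0 k) = genC k 0 ∧ code c0 = genC k 1 ∧ code g0 = genC k 2 := by
  decide +kernel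

/-- The table of a kind. -/
def tbl : Bool → List (ℕ × ℕ × ℕ × ℕ)
  | false => tblA
  | true => tblB

/-- The codes and matrices of the even permutations. -/
def els (k : Bool) : List (ℕ × ℕ) := (tbl k).map fun e => (e.1, e.2.1)

theorem check_tbl : ∀ k : Bool, (tbl k).zipIdx.all (fun e =>
    if e.2 == 0 then e.1.1 == cone && e.1.2.1 == idm else
      decide (e.1.2.2.1 < e.2) && decide (e.1.2.2.2 < 3) &&
        let p := (tbl k).getD e.1.2.2.1 (0, 0, 0, 0)
        e.1.1 == cmul (genC k e.1.2.2.2) p.1 &&
          e.1.2.1 == cmp (if e.1.2.2.2 == 0 then pM else if e.1.2.2.2 == 1 then cM else gM k) p.2.1) = true := by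
  decide +kernel

theorem check_cover : ∀ k : Bool, evens.all (fun n => (els k).any fun e => e.1 == n) = true := by
  decide +kernel

/-- The three powers of the scalar. -/
def scalar : Fin 3 → ℕ := ![idm, thM, cmp thM thM]

/-- The orbit of a vector. -/
def orb (k : Bool) (n : ℕ) : List ℕ :=
  (els k).flatMap fun e => (List.finRange 3).map fun i => lin (scalar i) (lin e.2 n)

/-- The mask of the orbit of length 45. -/
def pureMask : ℕ := 0x842028404280111042808420284011102840428084201110000e000e000e0000

/-- The vectors of the long orbit. -/
def rk2 (n : ℕ) : Bool := n != 0 && !qM n && !pureMask.testBit n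

theorem check_orbits : ∀ k : Bool, (List.range 256).all (fun n =>
    (!rk2 n || (orb k 5).contains n) && (!pureMask.testBit n || (orb k 17).contains n)) = true := by
  decide +kernel

theorem check_orbits' : ∀ k : Bool, ((orb k 5).all rk2 && (orb k 17).all fun n => pureMask.testBit n) = true := by
  decide +kernel

/-- The space of a long vector. -/
def L5 : List ℕ := [0, 5, 10, 15, 80, 85, 90, 95, 160, 165, 170, 175, 240, 245, 250, 255]

/-- The long vectors in it. -/
def L5r : List ℕ := [5, 10, 15, 80, 160, 240]

theorem check_L5 : L5.Nodup ∧ (L5.filter rk2 = L5r) ∧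
    L5.all (fun n => L5r.any (fun a => L5r.any fun b => a ^^^ b == n) || L5r.contains n ||
      L5r.any fun a => L5r.any fun b => L5r.any fun c => a ^^^ b ^^^ c == n) = true := by
  decide +kernel

/-- The even involutions fixing a vector. -/
def fixers (k : Bool) (n : ℕ) : List (ℕ × ℕ) :=
  (els k).filter fun e => e.1 != cone && cmul e.1 e.1 == cone && lin e.2 n == n

theorem check_five_fixers : ∀ k : Bool, (fixers k 5).length = 3 ∧
    ((els k).any fun e => lin thM (lin e.2 5) == 5) = true := by
  decide +kernel

/-- The images of the orthogonal of a vector. -/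
def imgs (F : List (ℕ × ℕ)) (n : ℕ) : List ℕ :=
  0 :: F.flatMap fun e => ((List.range 256).filter fun v => !BM n v).map fun v => lin e.2 v ^^^ v

theorem check_five_span : ∀ k : Bool, L5.all (fun n => (imgs (fixers k 5) 5).any fun a =>
    (imgs (fixers k 5) 5).any fun b => a ^^^ b == n) = true := by
  decide +kernel

theorem check_three_fix : ∀ k : Bool, ((els k).all (fun e =>
      !(e.1 != cone && cmul (cmul e.1 e.1) e.1 == cone && lin e.2 5 == 5)) &&
    (els k).any fun e => e.1 != cone && cmul (cmul e.1 e.1) e.1 == cone && lin e.2 17 == 17) = true := by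
  decide +kernel

/-- The even permutations fixing the short representative. -/
def stab (k : Bool) : List (ℕ × ℕ) := (els k).filter fun e => lin e.2 17 == 17

/-- The involutions all of whose conjugates under the stabilizer commute with them. -/
def normalFour (k : Bool) : List (ℕ × ℕ) :=
  (fixers k 17).filter fun e => (stab k).all fun h => cc (cmul (cmul h.1 e.1) (icode h.1)) e.1

theorem check_four : ∀ k : Bool, (normalFour k).all (fun e => (normalFour k).all fun f =>
    (stab k).any fun h => cmul (cmul h.1 e.1) (icode h.1) == f.1) = true := by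
  decide +kernel

/-- The space of a short vector. -/
def L17 : List ℕ := [0, 17, 34, 51, 68, 85, 102, 119, 140, 157, 174, 191, 200, 217, 234, 251]

theorem check_L17 : L17.Nodup ∧ ∀ k : Bool, L17.all (fun n => (imgs (normalFour k) 17).any fun a =>
    (imgs (normalFour k) 17).any fun b => a ^^^ b == n) = true := by
  decide +kernel

/-- A triple permuted by an element fixing the short representative, outside its space. -/
def triple (k : Bool) (b : ℕ) : Bool :=
  pureMask.testBit b && !BM b 17 && (stab k).any fun h =>
    let a := lin h.2 b
    lin h.2 a == b ^^^ a && lin h.2 (b ^^^ a) == b && !L17.contains b && !L17.contains a && !L17.contains (b ^^^ a)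

theorem check_triples : ∀ k : Bool, (triple k 72 && triple k 136 &&
    (els k).any fun e => lin thM (lin e.2 72) == 17 && lin thM (lin e.2 17) == 136) = true := by
  decide +kernel

/-- The matrix of the involution with sixteen fixed vectors in an odd class. -/
def oddSixteen : Bool → P6 × ℕ
  | false => (g0 * s0, cmp (gM false) (sM false))
  | true => (s0, sM true)

/-- The matrix of the other odd involution. -/
def oddBig : Bool → P6 × ℕ
  | false => (s0, sM false)
  | true => (g0 * s0, cmp (gM true) (sM true))

/-- An involution whose fixed vectors are its commutators, all singular. -/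
def sixteen (M : ℕ) : Bool :=
  ((List.range 256).all fun n => lin M (lin M n ^^^ n) == lin M n ^^^ n && !qM (lin M n ^^^ n)) &&
    ((List.range 256).filter fun n => lin M n == n).length == 16

theorem check_sixteen : ∀ k : Bool, (sixteen (gM k) && sixteen (oddSixteen k).2 &&
    ((List.range 256).filter fun n => lin (oddBig k).2 n == n).length == 64) = true := by
  decide +kernel

theorem check_long_image : ∀ k : Bool, (List.range 256).any (fun n =>
    rk2 (lin (gM k) n ^^^ n) && !BM (lin thM n) (lin (gM k) n ^^^ n)) = true := by
  decide +kernel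

/-- Some commutator pairs trivially with its multiple. -/
def hasFlat (M : ℕ) : Bool :=
  (List.range 256).any fun n => lin M n ^^^ n != 0 && !BM (lin thM n) (lin M n ^^^ n)

/-- Every other commutator line is moved by an even permutation commuting with the involution. -/
def linesMove (k : Bool) (c M : ℕ) : Bool :=
  (List.range 256).all fun n =>
    let i := lin M n ^^^ n
    i == 0 || !BM (lin thM n) i || (els k).any fun e =>
      cc e.1 c && lin e.2 i != i && lin e.2 i != lin thM i && lin e.2 i != lin thM (lin thM i)

theorem check_lines : ∀ k : Bool, (hasFlat (gM k) && hasFlat (oddSixteen k).2 &&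
    linesMove k (genC k 2) (gM k) &&
    linesMove k (if k then code s0 else code (g0 * s0)) (oddSixteen k).2) = true := by
  decide +kernel

/-- The candidates for the matrix of the involution. -/
def gcol (v : ℕ) : ℕ :=
  let c3 := lin cM (lin cM (lin cM v))
  let c2 := lin cM (lin cM v)
  let c1 := lin cM v
  v + 256 * lin thM v + 256 ^ 2 * c3 + 256 ^ 3 * lin thM c3 + 256 ^ 4 * c2 + 256 ^ 5 * lin thM c2 +
    256 ^ 6 * c1 + 256 ^ 7 * lin thM c1

/-- The relations of the candidate. -/
def good : Bool → ℕ → Bool
  | false, M => (List.range 256).all fun n =>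
      lin M (lin M n) == n && qM (lin M n) == qM n &&
        lin M (lin pM (lin M (lin pM (lin M (lin pM n))))) == n
  | true, M => (List.range 256).all fun n =>
      lin M (lin M n) == n && qM (lin M n) == qM n &&
        lin M (lin pM (lin M (lin pM (lin M (lin pM (lin M (lin pM (lin M (lin pM n))))))))) == n &&
        lin cM (lin M (lin pM (lin cM (lin M (lin pM (lin cM (lin M (lin pM (lin cM (lin M (lin pM n))))))))))) == n

theorem check_good : ∀ k : Bool, (List.range 256).all (fun v => !good k (gcol v) || gcol v == gM k) = true := by
  decide +kernel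

theorem check_perms : ∀ k : Bool, g0 * g0 = 1 ∧ c0 ^ 4 = 1 ∧ g0 * c0 * g0 = c0⁻¹ ∧ s0 * c0 * s0 = c0⁻¹ ∧
    (k = false → (g0 * p0 k) ^ 3 = 1) ∧ (k = true → (g0 * p0 k) ^ 5 = 1 ∧ (c0 * g0 * p0 k) ^ 4 = 1) := by
  decide +kernel

end CfsgLib.S3A6.Model
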