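import Cfsg.Agent.Lib.Invol.S3A6.Ident

/-!
Owner: helper13. The two orbits on singular vectors in the monomial model.
-/

set_option autoImplicit false
set_option linter.unusedSectionVars false
set_option maxRecDepth 100000

namespace CfsgLib.S3A6

open Cfsg Equiv Model

/-- The powers of the three-cycle. -/
def tw : Fin 3 → P3 := ![1, t3, t3 * t3]

theorem tw_facts : ∀ i : Fin 3, Perm.sign (tw i) = 1 := by decide +kernel

theorem scalar_cases (i : Fin 3) : i = 0 ∨ i = 1 ∨ i = 2 := by revert i; decide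

namespace Setting

variable {G : Type*} [Group G] [Finite G] {z : G} {Q : Subgroup G} (S : Setting z Q)
include S

/-- A vector fixed by an even permutation of order three of the six letters. -/
def Short (u : V) : Prop := ∃ σ : P6, Perm.sign σ = 1 ∧ σ ≠ 1 ∧ σ * σ * σ = 1 ∧ S.A σ u = u

theorem short_ρ {γ : P36} (hγ : S.R γ) {u : V} (hu : S.Short u) : S.Short (S.ρ γ u) := by
  obtain ⟨σ, hs, hne, h3, hfix⟩ := hu
  have hs' : Perm.sign (γ.2 * σ * γ.2⁻¹) = 1 := by
    simp only [map_mul, map_inv, hs, mul_one, mul_inv_cancel]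
  refine ⟨γ.2 * σ * γ.2⁻¹, hs', fun e => hne (by rwa [conj_eq_one_iff] at e), ?_, ?_⟩
  · rw [conj_mul, conj_mul, h3, mul_one, mul_inv_cancel]
  · have e : ((1, γ.2 * σ * γ.2⁻¹) : P36) * γ = γ * (1, σ) :=
      Prod.ext (by simp) (by simp [mul_assoc])
    show S.ρ (1, _) (S.ρ γ u) = _
    rw [← S.ρ_mul (S.R_six hs') hγ, e, S.ρ_mul hγ (S.R_six hs)]
    exact congrArg (S.ρ γ) hfix

theorem R_el {σ : P6} (hσ : Perm.sign σ = 1) (i : Fin 3) : S.R (tw i, σ) := S.R_even (tw_facts i) hσ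

theorem ρ_back {γ : P36} (hγ : S.R γ) {a b : V} (e : S.ρ γ a = b) : S.ρ γ⁻¹ b = a := by
  rw [← e, ← S.ρ_mul (S.R_inv hγ) hγ, inv_mul_cancel, S.ρ_one]

namespace Start

variable {S} {k : Bool} {v : V} (h : S.Start k v)
include h

theorem lin_scalar (i : Fin 3) (n : ℕ) : S.ev v (lin (scalar i) n) = S.Tp i (S.ev v n) := by
  rcases scalar_cases i with rfl | rfl | rfl
  · exact S.ev_lin v (F := fun u => u) (fun _ _ => rfl) idm (fun j hj => by
      rw [byte_idm j hj, S.ev_two_pow v j hj]) n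
  · exact h.lin_th n
  · refine S.ev_lin v (F := fun u => S.T (S.T u)) (fun a b => by simp only [S.T_add]) (cmp thM thM)
      (fun j hj => ?_) n
    rw [byte_cmp thM thM hj, h.lin_th, ← lin_two_pow thM j hj, h.lin_th, S.ev_two_pow v j hj]

theorem ρ_el {σ : P6} {f : ℕ → ℕ} (hσ : h.Agree σ f) (i : Fin 3) (n : ℕ) :
    S.ρ (tw i, σ) (S.ev v n) = S.ev v (lin (scalar i) (f n)) := by
  rw [h.lin_scalar, ← hσ.2]
  have hR := S.R_six hσ.1
  rcases scalar_cases i with rfl | rfl | rfl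
  · rfl
  · show S.ρ (t3, σ) _ = S.ρ th _
    rw [show ((t3, σ) : P36) = th * (1, σ) from Prod.ext (by simp [th]) (by simp [th]), S.ρ_mul S.R_th hR]
    rfl
  · show S.ρ (t3 * t3, σ) _ = S.ρ th (S.ρ th _)
    rw [show ((t3 * t3, σ) : P36) = th * th * (1, σ) from Prod.ext (by simp [th]) (by simp [th]),
      S.ρ_mul (S.R_mul S.R_th S.R_th) hR, S.ρ_mul S.R_th S.R_th]
    rfl

theorem exists_of_orb {a n : ℕ} (hn : n ∈ orb k a) :
    ∃ γ, S.R γ ∧ S.ρ γ (S.ev v a) = S.ev v n := by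
  simp only [orb, List.mem_flatMap, List.mem_map] at hn
  obtain ⟨e, he, i, -, rfl⟩ := hn
  obtain ⟨σ, -, hσ⟩ := h.agree_table he
  exact ⟨(tw i, σ), S.R_el hσ.1 i, h.ρ_el hσ i a⟩

theorem rk2_orb {n : ℕ} (hn : n < 256) (hr : rk2 n = true) :
    ∃ γ, S.R γ ∧ S.ρ γ (S.ev v 5) = S.ev v n := by
  have h0 := check_orbits k
  simp only [List.all_eq_true, List.mem_range, Bool.and_eq_true, Bool.or_eq_true, Bool.not_eq_true',
    List.contains_iff_mem] at h0
  exact h.exists_of_orb ((h0 n hn).1.resolve_left (by rw [hr]; decide))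

theorem pure_orb {n : ℕ} (hn : n < 256) (hp : pureMask.testBit n = true) :
    ∃ γ, S.R γ ∧ S.ρ γ (S.ev v 17) = S.ev v n := by
  have h0 := check_orbits k
  simp only [List.all_eq_true, List.mem_range, Bool.and_eq_true, Bool.or_eq_true, Bool.not_eq_true',
    List.contains_iff_mem] at h0
  exact h.exists_of_orb ((h0 n hn).2.resolve_left (by rw [hp]; decide))

theorem short_five : ¬ S.Short (S.ev v 5) := by
  rintro ⟨σ, hs, hne, h3, hfix⟩
  obtain ⟨e, he, hc, hσ⟩ := h.exists_entry hs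
  have h0 := check_three_fix k
  simp only [Bool.and_eq_true, List.all_eq_true, Bool.not_eq_true', ← Bool.not_eq_true] at h0
  rw [hσ.2] at hfix
  refine h0.1 e he ⟨⟨?_, ?_⟩, ?_⟩
  · rw [bne_iff_ne, hc, ← code_one, ne_eq, code_eq_iff]; exact hne
  · rw [beq_iff_eq, hc, ← code_mul, ← code_mul, ← code_one, code_eq_iff]; exact h3
  · rw [beq_iff_eq]; exact h.injective (lin_lt _ _) (by norm_num) hfix

theorem short_seventeen : S.Short (S.ev v 17) := by
  have h0 := check_three_fix k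
  simp only [Bool.and_eq_true, List.any_eq_true, bne_iff_ne, beq_iff_eq] at h0
  obtain ⟨e, he, ⟨hne, h3⟩, hfix⟩ := h0.2
  obtain ⟨σ, hc, hσ⟩ := h.agree_table he
  refine ⟨σ, hσ.1, fun e' => hne (by rw [← hc, e', code_one]), code_injective ?_, ?_⟩
  · rw [code_mul, code_mul, hc, h3, code_one]
  · rw [hσ.2, hfix]

theorem rk2_ρ {γ : P36} (hγ : S.R γ) {m n : ℕ} (hm : m < 256) (hn : n < 256) (hr : rk2 n = true)
    (e : S.ρ γ (S.ev v n) = S.ev v m) : rk2 m = true := by
  obtain ⟨δ, hδ, hd⟩ := h.rk2_orb hn hr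
  simp only [rk2, Bool.and_eq_true, bne_iff_ne, ne_eq, Bool.not_eq_true'] at hr ⊢
  refine ⟨⟨?_, ?_⟩, ?_⟩
  · rintro rfl
    rw [S.ev_zero] at e
    exact hr.1.1 (h.eq_zero hn (S.ρ_injective hγ (e.trans (S.ρ_zero hγ).symm)))
  · have hq := S.ρ_q hγ (S.ev v n)
    rw [e, h.q_ev hm, h.q_ev hn, hr.1.2] at hq
    by_contra hc
    rw [Bool.not_eq_false] at hc
    rw [hc] at hq
    exact absurd hq (by decide)
  · by_contra hc
    rw [Bool.not_eq_false] at hc
    obtain ⟨η, hη, he⟩ := h.pure_orb hm hc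
    have hsh := S.short_ρ (S.R_inv (S.R_mul hγ hδ)) (S.short_ρ hη h.short_seventeen)
    rw [he, S.ρ_back (S.R_mul hγ hδ) (by rw [S.ρ_mul hγ hδ, hd, e])] at hsh
    exact h.short_five hsh

/-- A vector of a conjugate reduces to one of two standard ones. -/
theorem phi_cases {u : V} (hu : S.Phi u) : S.Phi (S.ev v 5) ∨ S.Phi (S.ev v 17) := by
  obtain ⟨n, hn, rfl⟩ := h.surjective u
  have h0 : n ≠ 0 := fun e => S.phi_ne_zero hu (by rw [e, S.ev_zero])
  have hq : qM n = false := by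
    have := S.phi_singular hu
    rw [h.q_ev hn] at this
    by_contra hc
    rw [Bool.not_eq_false] at hc
    rw [hc] at this
    exact absurd this (by decide)
  by_cases hp : pureMask.testBit n = true
  · obtain ⟨γ, hγ, e⟩ := h.pure_orb hn hp
    exact Or.inr (S.ρ_back hγ e ▸ S.phi_ρ (S.R_inv hγ) hu)
  · obtain ⟨γ, hγ, e⟩ := h.rk2_orb hn (by simp [rk2, h0, hq, hp])
    exact Or.inl (S.ρ_back hγ e ▸ S.phi_ρ (S.R_inv hγ) hu)

end Start

end Setting

end CfsgLib.S3A6
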