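import Cfsg.Agent.Lib.Invol.S3A6.Sign

/-!
Owner: helper13. A conjugate of `z` in `Q`: the point, the elementary group fixing it and the totally
singular space, all in the coordinates of one group.
-/

set_option autoImplicit false
set_option linter.unusedSectionVars false

namespace CfsgLib.S3A6

open Cfsg CfsgLib.ThreeTrans Equiv

namespace Setting

variable {G : Type*} [Group G] [Finite G] {z : G} {Q : Subgroup G} (S : Setting z Q)
include S

theorem ρ_fix_lift {γ : P36} (hγ : S.R γ) {u : G} (hu : u ∈ Q) (huz : u ∉ Subgroup.zpowers z)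
    (hfix : S.ρ γ (S.ψ u) = S.ψ u) : ∃ c, Commute c z ∧ Commute c u ∧ S.π c = γ := by
  obtain ⟨c, hc, rfl⟩ := hγ
  rw [S.ρ_π hc, ← S.ψ_conj c hc u hu, eq_comm, S.ψ_eq_iff hu (S.h.conj_mem hc hu)] at hfix
  rcases hfix with e | e
  · exact ⟨c, hc, mul_inv_eq_iff_eq_mul.mp e, rfl⟩
  · obtain ⟨q, hq, eq'⟩ := S.h.exists_move hu huz
    refine ⟨q * c, (S.commute_of_mem hq).mul_left hc, ?_, ?_⟩
    · refine mul_inv_eq_iff_eq_mul.mp ?_
      rw [show q * c * u * (q * c)⁻¹ = q * (c * u * c⁻¹) * q⁻¹ by group, e,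
        show q * (z * u) * q⁻¹ = (q * z * q⁻¹) * (q * u * q⁻¹) by group, eq', (S.commute_of_mem hq).eq,
        mul_inv_cancel_right, ← mul_assoc, S.h.mul_self_z, one_mul]
    · rw [S.π_mul _ _ (S.commute_of_mem hq) hc, S.π_of_mem hq, one_mul]

/-- `g` carries `z` to another element of `Q`. -/
def Carries (_S : Setting z Q) (g : G) : Prop := g * z * g⁻¹ ∈ Q ∧ g * z * g⁻¹ ≠ z

theorem carries_back {g : G} (hg : S.Carries g) : g⁻¹ * z * g ∈ Q ∧ g⁻¹ * z * g ∉ Subgroup.zpowers z := by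
  constructor
  · obtain ⟨a, ha, e⟩ := S.h.mem_conj (by rw [S.hcard]; norm_num) hg.1
    have e' : g * a * g⁻¹ = z := e
    rwa [← show a = g⁻¹ * z * g by rw [← e']; group]
  · intro hm
    rcases S.h.eq_or hm with e | e
    · exact S.h.z_ne_one (by rw [← show g * (g⁻¹ * z * g) * g⁻¹ = z by group, e, mul_one, mul_inv_cancel])
    · exact hg.2 (by
        calc g * z * g⁻¹ = g * (g⁻¹ * z * g) * g⁻¹ := by rw [e]
          _ = z := by group)

theorem carries_inv {g : G} (hg : S.Carries g) : S.Carries g⁻¹ := by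
  obtain ⟨h1, h2⟩ := S.carries_back hg
  refine ⟨by rw [inv_inv]; exact h1, fun e => h2 ?_⟩
  rw [inv_inv] at e
  rw [e]
  exact Subgroup.mem_zpowers z

/-- The point of a pair. -/
def pt (g : G) : V := S.ψ (g⁻¹ * z * g)

theorem phi_pt {g : G} (hg : S.Carries g) : S.Phi (S.pt g) := by
  obtain ⟨h1, h2⟩ := S.carries_back hg
  exact S.phi_of (isConj_iff.mpr ⟨g⁻¹, by rw [inv_inv]⟩) h1 fun e => h2 (by rw [e]; exact Subgroup.mem_zpowers z)

theorem exists_pt {v : V} (h : S.Phi v) : ∃ g, S.Carries g ∧ S.pt g = v := by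
  obtain ⟨g, hg, hne, rfl⟩ := h
  exact ⟨g⁻¹, S.carries_inv ⟨hg, hne⟩, by rw [pt, inv_inv]⟩

theorem q_pt {g : G} (hg : S.Carries g) : S.q (S.pt g) = 0 := S.phi_singular (S.phi_pt hg)

theorem back_mul (g a b : G) : g⁻¹ * (a * b) * g = (g⁻¹ * a * g) * (g⁻¹ * b * g) := by group

theorem μ_one (g : G) : S.μ g 1 = 1 := by rw [μ, mul_one, inv_mul_cancel, S.π_one]

theorem μ_z {g : G} (hg : S.Carries g) : S.μ g z = 1 := S.π_of_mem (S.carries_back hg).1

theorem μ_inv {g a : G} (ha : Commute a (g * z * g⁻¹)) : S.μ g a⁻¹ = (S.μ g a)⁻¹ := by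
  refine eq_inv_of_mul_eq_one_left ?_
  rw [← S.μ_mul ha.inv_left ha, inv_mul_cancel, S.μ_one]

/-- The elementary group of a pair. -/
def AP (g : G) : Subgroup P36 where
  carrier := {γ | ∃ a ∈ S.cq (g * z * g⁻¹), S.μ g a = γ}
  mul_mem' := by
    rintro _ _ ⟨a, ha, rfl⟩ ⟨b, hb, rfl⟩
    exact ⟨a * b, mul_mem ha hb, S.μ_mul (S.mem_cq.mp ha).2 (S.mem_cq.mp hb).2⟩
  one_mem' := ⟨1, one_mem _, S.μ_one g⟩
  inv_mem' := by
    rintro _ ⟨a, ha, rfl⟩
    exact ⟨a⁻¹, inv_mem ha, S.μ_inv (S.mem_cq.mp ha).2⟩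

theorem mem_AP {g : G} {γ : P36} : γ ∈ S.AP g ↔ ∃ a ∈ S.cq (g * z * g⁻¹), S.μ g a = γ := Iff.rfl

theorem AP_R {g : G} {γ : P36} (h : γ ∈ S.AP g) : S.R γ := by
  obtain ⟨a, ha, rfl⟩ := S.mem_AP.mp h
  exact S.R_π (S.back_commute (S.mem_cq.mp ha).2)

theorem AP_fix {g : G} (hg : S.Carries g) {γ : P36} (h : γ ∈ S.AP g) : S.ρ γ (S.pt g) = S.pt g := by
  obtain ⟨a, ha, rfl⟩ := S.mem_AP.mp h
  obtain ⟨haQ, hax⟩ := S.mem_cq.mp ha
  rw [μ, S.ρ_π (S.back_commute hax), pt, ← S.ψ_conj _ (S.back_commute hax) _ (S.carries_back hg).1]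
  congr 1
  calc g⁻¹ * a * g * (g⁻¹ * z * g) * (g⁻¹ * a * g)⁻¹ = g⁻¹ * (a * z * a⁻¹) * g := by group
    _ = g⁻¹ * z * g := by rw [(S.commute_of_mem haQ).eq, mul_inv_cancel_right]

theorem AP_sq {g : G} (hg : S.Carries g) {γ : P36} (h : γ ∈ S.AP g) : γ * γ = 1 := by
  obtain ⟨a, ha, rfl⟩ := S.mem_AP.mp h
  obtain ⟨haQ, hax⟩ := S.mem_cq.mp ha
  rw [← S.μ_mul hax hax]
  rcases S.h.eq_or (S.h.sq_mem haQ) with e | e <;> rw [e]
  exacts [S.μ_one g, S.μ_z hg]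

theorem AP_comm {g : G} (hg : S.Carries g) {γ δ : P36} (h : γ ∈ S.AP g) (h' : δ ∈ S.AP g) :
    γ * δ = δ * γ := by
  have e := S.AP_sq hg (mul_mem h h')
  rw [eq_inv_of_mul_eq_one_left e, mul_inv_rev, inv_eq_of_mul_eq_one_left (S.AP_sq hg h),
    inv_eq_of_mul_eq_one_left (S.AP_sq hg h')]

/-- The space of a pair. -/
noncomputable def EP (g : G) : Finset V :=
  open Classical in Finset.univ.filter fun v => ∃ a ∈ Q, g * a * g⁻¹ ∈ Q ∧ S.ψ a = v

theorem mem_EP {g : G} {v : V} : v ∈ S.EP g ↔ ∃ a ∈ Q, g * a * g⁻¹ ∈ Q ∧ S.ψ a = v := by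
  simp [EP]

theorem EP_sub (g : G) : IsSub (S.EP g) := by
  refine ⟨S.mem_EP.mpr ⟨1, one_mem Q, by rw [mul_one, mul_inv_cancel]; exact one_mem Q, S.ψ_one⟩, ?_⟩
  intro u v hu hv
  obtain ⟨a, ha, ha', rfl⟩ := S.mem_EP.mp hu
  obtain ⟨b, hb, hb', rfl⟩ := S.mem_EP.mp hv
  exact S.mem_EP.mpr ⟨a * b, mul_mem ha hb, by rw [← conj_mul]; exact mul_mem ha' hb', S.ψ_mul _ ha _ hb⟩

theorem mem_map {g x : G} : x ∈ Q.map (MulAut.conj g).toMonoidHom ↔ g⁻¹ * x * g ∈ Q := by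
  constructor
  · rintro ⟨a, ha, rfl⟩
    show g⁻¹ * (g * a * g⁻¹) * g ∈ Q
    rwa [show g⁻¹ * (g * a * g⁻¹) * g = a by group]
  · exact fun h => ⟨_, h, show g * (g⁻¹ * x * g) * g⁻¹ = x by group⟩

theorem inf_sq {g : G} (hg : S.Carries g) {a : G} (ha : a ∈ Q) (ha' : g * a * g⁻¹ ∈ Q) : a * a = 1 := by
  have hp := (S.h.largePair (by rw [S.hcard]; norm_num) hg.1 hg.2).inf_elementary
  have h : g * a * g⁻¹ ∈ Q ⊓ Q.map (MulAut.conj g).toMonoidHom := ⟨ha', ⟨a, ha, rfl⟩⟩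
  have e := hp.2 _ h
  rw [pow_two, conj_mul, conj_eq_one_iff] at e
  exact e

theorem EP_singular {g : G} (hg : S.Carries g) {v : V} (hv : v ∈ S.EP g) : S.q v = 0 := by
  obtain ⟨a, ha, ha', rfl⟩ := S.mem_EP.mp hv
  exact (S.sq_one_iff ha).mp (S.inf_sq hg ha ha')

theorem EP_isotropic {g : G} (hg : S.Carries g) : S.Isotropic (S.EP g) := fun u hu v hv => by
  simp only [B, S.EP_singular hg hu, S.EP_singular hg hv, S.EP_singular hg ((S.EP_sub g).add hu hv)]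
  decide

theorem pt_mem_EP {g : G} (hg : S.Carries g) : S.pt g ∈ S.EP g :=
  S.mem_EP.mpr ⟨_, (S.carries_back hg).1,
    by rw [show g * (g⁻¹ * z * g) * g⁻¹ = z by group]; exact S.h.z_mem, rfl⟩

/-- Kernel bound: the group of a pair is large unless the space is. -/
theorem AP_card {g : G} (hg : S.Carries g) : 128 ≤ Nat.card (S.AP g) * (S.EP g).card := by
  classical
  set x := g * z * g⁻¹ with hx
  have hxz : x ∉ Subgroup.zpowers z := fun h => by
    rcases S.h.eq_or h with e | e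
    · exact S.h.z_ne_one (conj_eq_one_iff.mp e)
    · exact hg.2 e
  have h256 : 256 ≤ Nat.card (S.cq x) := by
    have hle : Nat.card Q ≤ 2 * Nat.card (S.cq x) := by
      refine card_le_two_mul inf_le_left fun a ha b hb => ?_
      rcases two_cases (S.B (S.ψ a) (S.ψ x)) with e | e
      · exact Or.inl (S.mem_cq.mpr ⟨ha, (S.sq_mul_sq ha hg.1).mp e⟩)
      rcases two_cases (S.B (S.ψ b) (S.ψ x)) with e' | e'
      · exact Or.inr (Or.inl (S.mem_cq.mpr ⟨hb, (S.sq_mul_sq hb hg.1).mp e'⟩))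
      refine Or.inr (Or.inr (S.mem_cq.mpr ⟨mul_mem (inv_mem ha) hb, (S.sq_mul_sq (mul_mem (inv_mem ha) hb) hg.1).mp ?_⟩))
      rw [S.ψ_mul _ (inv_mem ha) _ hb, S.ψ_inv ha, S.B_add, e, e']
      decide
    rw [S.hcard] at hle
    omega
  let f : ↥(S.cq x) →* P36 := MonoidHom.mk' (fun a => S.μ g a)
    fun a b => S.μ_mul (S.mem_cq.mp a.2).2 (S.mem_cq.mp b.2).2
  have hr : f.range = S.AP g := by
    ext γ
    rw [S.mem_AP, MonoidHom.mem_range]
    exact ⟨fun ⟨a, e⟩ => ⟨a, a.2, e⟩, fun ⟨a, ha, e⟩ => ⟨⟨a, ha⟩, e⟩⟩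
  have hk : Nat.card f.ker ≤ 2 * (S.EP g).card := by
    rw [← S.card_pre (S.EP_sub g)]
    refine Nat.card_le_card_of_injective (fun a => (⟨g⁻¹ * ((a : ↥(S.cq x)) : G) * g, ?_⟩ : S.pre _ _)) ?_
    · have h1 : g⁻¹ * ((a : ↥(S.cq x)) : G) * g ∈ Q :=
        (S.π_eq_one _ (S.back_commute (S.mem_cq.mp (a : ↥(S.cq x)).2).2)).mp a.2
      refine S.mem_pre.mpr ⟨h1, S.mem_EP.mpr ⟨_, h1, ?_, rfl⟩⟩
      rw [show g * (g⁻¹ * ((a : ↥(S.cq x)) : G) * g) * g⁻¹ = ((a : ↥(S.cq x)) : G) by group]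
      exact (S.mem_cq.mp (a : ↥(S.cq x)).2).1
    · intro a b e
      have e' : g⁻¹ * ((a : ↥(S.cq x)) : G) * g = g⁻¹ * ((b : ↥(S.cq x)) : G) * g := congrArg Subtype.val e
      exact Subtype.ext (Subtype.ext (by simpa using e'))
  have h := f.ker.index_mul_card
  rw [Subgroup.index_ker, hr] at h
  have hmul := Nat.mul_le_mul_left (Nat.card (S.AP g)) hk
  rw [h] at hmul
  nlinarith

theorem AP_eight {g : G} (hg : S.Carries g) : 8 ≤ Nat.card (S.AP g) := by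
  have h := S.AP_card hg
  have h2 := S.isotropic_card (S.EP_sub g) (S.EP_isotropic hg)
  nlinarith

/-- The action on the orthogonal of the point is trivial modulo the space. -/
theorem AP_perp {g : G} (hg : S.Carries g) {γ : P36} (h : γ ∈ S.AP g) {v : V}
    (hv : S.B (S.pt g) v = 0) : S.ρ γ v + v ∈ S.EP g := by
  obtain ⟨a, ha, rfl⟩ := S.mem_AP.mp h
  obtain ⟨haQ, hax⟩ := S.mem_cq.mp ha
  obtain ⟨b, hb, rfl⟩ := S.ψ_surj v
  have hbu : Commute (g⁻¹ * z * g) b := (S.sq_mul_sq (S.carries_back hg).1 hb).mp hv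
  have hb' : Commute (g * b * g⁻¹) z := by
    show g * b * g⁻¹ * z = z * (g * b * g⁻¹)
    calc g * b * g⁻¹ * z = g * (b * (g⁻¹ * z * g)) * g⁻¹ := by group
      _ = z * (g * b * g⁻¹) := by rw [← hbu.eq]; group
  have hc := S.back_commute hax
  have hm := S.h.conj_mem hc hb
  rw [μ, S.ρ_π hc, ← S.ψ_conj _ hc b hb, ← S.ψ_inv hb, ← S.ψ_mul _ hm _ (inv_mem hb)]
  refine S.mem_EP.mpr ⟨_, mul_mem hm (inv_mem hb), ?_, by rw [S.ψ_mul _ hm _ (inv_mem hb), S.ψ_inv hb]⟩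
  rw [show g * (g⁻¹ * a * g * b * (g⁻¹ * a * g)⁻¹ * b⁻¹) * g⁻¹ =
    a * (g * b * g⁻¹ * a⁻¹ * (g * b * g⁻¹)⁻¹) by group]
  exact mul_mem haQ (S.h.conj_mem hb' (inv_mem haQ))

/-- Elements fixing the point normalize the group and the space of the pair. -/
theorem stab {g : G} (hg : S.Carries g) {γ : P36} (hγ : S.R γ) (hfix : S.ρ γ (S.pt g) = S.pt g) :
    (∀ δ ∈ S.AP g, γ * δ * γ⁻¹ ∈ S.AP g) ∧ ∀ v ∈ S.EP g, S.ρ γ v ∈ S.EP g := by
  obtain ⟨c, hcz, hcu, rfl⟩ := S.ρ_fix_lift hγ (S.carries_back hg).1 (S.carries_back hg).2 hfix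
  have hdz : Commute (g * c * g⁻¹) z := by
    show g * c * g⁻¹ * z = z * (g * c * g⁻¹)
    calc g * c * g⁻¹ * z = g * (c * (g⁻¹ * z * g)) * g⁻¹ := by group
      _ = z * (g * c * g⁻¹) := by rw [hcu.eq]; group
  have hdx : Commute (g * c * g⁻¹) (g * z * g⁻¹) := LargeData.commute_conj_iff'.mpr hcz
  constructor
  · intro δ hδ
    obtain ⟨a, ha, rfl⟩ := S.mem_AP.mp hδ
    obtain ⟨haQ, hax⟩ := S.mem_cq.mp ha
    refine S.mem_AP.mpr ⟨g * c * g⁻¹ * a * (g * c * g⁻¹)⁻¹, S.mem_cq.mpr ⟨S.h.conj_mem hdz haQ,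
      (hdx.mul_left hax).mul_left hdx.inv_left⟩, ?_⟩
    rw [μ, μ, ← S.π_conj hcz (S.back_commute hax)]
    congr 1
    group
  · intro v hv
    obtain ⟨a, ha, ha', rfl⟩ := S.mem_EP.mp hv
    rw [S.ρ_π hcz, ← S.ψ_conj c hcz a ha]
    refine S.mem_EP.mpr ⟨_, S.h.conj_mem hcz ha, ?_, rfl⟩
    rw [show g * (c * a * c⁻¹) * g⁻¹ = g * c * g⁻¹ * (g * a * g⁻¹) * (g * c * g⁻¹)⁻¹ by group]
    exact S.h.conj_mem hdz ha'

/-- An element of order three fixing the point does not centralize the group of the pair. -/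
theorem no_central_three {g : G} (hg : S.Carries g) {γ : P36} (hγ : S.R γ) (h3 : γ ^ 3 = 1)
    (hfix : S.ρ γ (S.pt g) = S.pt g) (hcen : ∀ δ ∈ S.AP g, γ * δ = δ * γ) : γ = 1 := by
  classical
  obtain ⟨c, hcz, rfl, k, hk⟩ := S.exists_lift_three hγ h3
  rw [S.ρ_π hcz] at hfix
  have hcu := S.commute_of_act hcz hk (S.carries_back hg).1 hfix
  set d := g * c * g⁻¹ with hd
  have hdz : Commute d z := by
    show g * c * g⁻¹ * z = z * (g * c * g⁻¹)
    calc g * c * g⁻¹ * z = g * (c * (g⁻¹ * z * g)) * g⁻¹ := by group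
      _ = z * (g * c * g⁻¹) := by rw [hcu.eq]; group
  have hdk : d ^ 3 ^ k = 1 := by rw [hd, conj_pow, hk, mul_one, mul_inv_cancel]
  set x := g * z * g⁻¹ with hx
  have hdx : Commute d x := LargeData.commute_conj_iff'.mpr hcz
  set E := S.EP g⁻¹ with hE
  have hdx' : S.act d (S.ψ x) = S.ψ x := by
    rw [← S.ψ_conj d hdz x hg.1, hdx.eq, mul_inv_cancel_right]
  have key : ∀ v, S.B (S.ψ x) v = 0 → S.act d v + v ∈ E := by
    intro v hv
    obtain ⟨a, ha, rfl⟩ := S.ψ_surj v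
    have hax : Commute a x := ((S.sq_mul_sq hg.1 ha).mp hv).symm
    have ham : a ∈ S.cq x := S.mem_cq.mpr ⟨ha, hax⟩
    have hm := S.h.conj_mem hdz ha
    have hg1 : g⁻¹ * (d * a * d⁻¹ * a⁻¹) * g = c * (g⁻¹ * a * g) * c⁻¹ * (g⁻¹ * a * g)⁻¹ := by
      rw [hd]; group
    have hin : g⁻¹ * (d * a * d⁻¹ * a⁻¹) * g ∈ Q := by
      have hb := S.back_commute hax
      rw [hg1, ← S.π_eq_one _ (((hcz.mul_left hb).mul_left hcz.inv_left).mul_left hb.inv_left),
        S.π_mul _ _ ((hcz.mul_left hb).mul_left hcz.inv_left) hb.inv_left, S.π_conj hcz hb, S.π_inv hb]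
      have e := hcen _ (S.mem_AP.mpr ⟨a, ham, rfl⟩)
      simp only [μ] at e
      rw [e, mul_inv_cancel_right, mul_inv_cancel]
    rw [← S.ψ_conj d hdz a ha]
    refine S.mem_EP.mpr ⟨d * a * d⁻¹ * a⁻¹, mul_mem hm (inv_mem ha), by rw [inv_inv]; exact hin, ?_⟩
    rw [S.ψ_mul _ hm _ (inv_mem ha), S.ψ_inv ha]
  have hiter : ∀ (v w : V), S.act d v = v + w → S.act d w = w → ∀ n : ℕ, S.act (d ^ n) v = v + n • w := by
    intro v w h1 h2 n
    induction n with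
    | zero => rw [pow_zero, S.act_one, zero_smul, add_zero]
    | succ n ih =>
      have hn : S.act d (n • w) = n • w := by
        clear ih
        induction n with
        | zero => rw [zero_smul, S.act_zero hdz]
        | succ n ih2 => rw [succ_nsmul, S.act_add hdz, ih2, h2]
      rw [pow_succ', S.act_mul hdz (hdz.pow_left n), ih, S.act_add hdz, h1, hn, succ_nsmul, add_assoc,
        add_comm w]
  have hodd : 3 ^ k % 2 = 1 := by rw [Nat.pow_mod]; simp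
  have hfixed : ∀ v, S.act d (S.act d v + v) = S.act d v + v → S.act d v + v = 0 := by
    intro v hv
    have h := hiter v (S.act d v + v) (by rw [add_comm (S.act d v) v, v_cancel]) hv (3 ^ k)
    have hs : (3 ^ k) • (S.act d v + v) = S.act d v + v := by
      conv_lhs => rw [← Nat.div_add_mod (3 ^ k) 2, hodd, add_nsmul, one_nsmul, mul_nsmul', two_nsmul,
        v_add_self, zero_add]
    rw [hdk, S.act_one, hs, left_eq_add] at h
    exact h
  have himgE : ∀ i ∈ S.img d, i ∈ E := by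
    intro i hi
    let f : V → V := fun y => S.act d y + y
    have hmaps : ∀ y ∈ S.img d, f y ∈ S.img d := fun y _ => S.mem_img.mpr ⟨y, rfl⟩
    have hinj : Set.InjOn f (S.img d : Set V) := by
      intro a ha b hb e
      obtain ⟨u, hu⟩ := S.mem_img.mp ((S.img_sub hdz).add (Finset.mem_coe.mp ha) (Finset.mem_coe.mp hb))
      refine v_add_eq_zero.mp ?_
      rw [← hu]
      refine hfixed u ?_
      rw [hu, S.act_add hdz, ← v_add_eq_zero,
        show S.act d a + S.act d b + (a + b) = (S.act d a + a) + (S.act d b + b) by abel]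
      exact v_add_eq_zero.mpr e
    obtain ⟨y, hy, rfl⟩ := Finset.surj_on_of_inj_on_of_card_le (fun a _ => f a) hmaps
      (fun a b ha hb e => hinj ha hb e) le_rfl i hi
    refine key y ?_
    obtain ⟨v, rfl⟩ := S.mem_img.mp hy
    rw [S.B_add_right]
    calc S.B (S.ψ x) (S.act d v) + S.B (S.ψ x) v
        = S.B (S.act d (S.ψ x)) (S.act d v) + S.B (S.ψ x) v := by rw [hdx']
      _ = 0 := by rw [S.act_B hdz, z2_add_self]
  have hsymm : ∀ u v, S.B (S.act d u) v = S.B u (S.act d v) := by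
    intro u v
    have h := S.EP_isotropic (S.carries_inv hg) _ (himgE _ (S.mem_img.mpr ⟨u, rfl⟩)) _
      (himgE _ (S.mem_img.mpr ⟨v, rfl⟩))
    rw [S.B_add, S.B_add_right, S.B_add_right, S.act_B hdz] at h
    revert h
    generalize S.B u v = p
    generalize S.B (S.act d u) v = r
    generalize S.B u (S.act d v) = s
    revert p r s
    decide
  have hdd : ∀ u, S.act d (S.act d u) = u := by
    intro u
    refine v_add_eq_zero.mp (S.nondeg fun v => ?_)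
    rw [S.B_add, hsymm, S.act_B hdz, z2_add_self]
  have hd1 : ∀ u, S.act d u = u := by
    intro u
    refine v_add_eq_zero.mp (hfixed u ?_)
    rw [S.act_add hdz, hdd, add_comm]
  have hdQ := S.mem_of_act hdz hd1
  have hd0 := S.eq_one_of_three hdQ hdk
  have hc1 : c = 1 := by
    rw [hd, conj_eq_one_iff] at hd0
    exact hd0
  rw [hc1, S.π_one]

/-- The element of order three in the first factor moves every point. -/
theorem th_moves {g : G} (hg : S.Carries g) : S.T (S.pt g) ≠ S.pt g := by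
  intro hfix
  refine th_ne_one (S.no_central_three hg S.R_th (by decide +kernel) hfix fun δ hδ => ?_)
  have hk : th * δ * th⁻¹ * δ⁻¹ ∈ S.AP g := mul_mem ((S.stab hg S.R_th hfix).1 δ hδ) (inv_mem hδ)
  have h2 := S.AP_sq hg hk
  have e2 : (th * δ * th⁻¹ * δ⁻¹).2 = 1 := by simp [th]
  have e1 : (th * δ * th⁻¹ * δ⁻¹).1 = 1 := by
    refine p3_even_inv _ (congrArg Prod.fst h2) ?_
    simp only [th, Prod.fst_mul, Prod.fst_inv, map_mul, map_inv, t3_facts.1, one_mul, inv_one, mul_one]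
    exact mul_inv_cancel _
  have e : th * δ * th⁻¹ * δ⁻¹ = 1 := Prod.ext e1 e2
  rw [mul_inv_eq_one, mul_inv_eq_iff_eq_mul] at e
  exact e

end Setting

end CfsgLib.S3A6
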