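import Mathlib.GroupTheory.Perm.Cycle.Type
import Mathlib.GroupTheory.GroupAction.Quotient
import Mathlib.Data.ZMod.Basic
import Mathlib.Algebra.BigOperators.Group.Finset.Basic
import Mathlib.Tactic.Group
import Mathlib.Tactic.NormNum.Prime

/-!
Owner: helper13. A group of order 32 cannot carry, in the transitive conjugation action on its
nontrivial elements, an invariant set of twelve neighbours closed under the base point.
-/

set_option autoImplicit false
set_option maxRecDepth 100000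

namespace CfsgLib.S3A6

open Equiv

theorem even_of_invol {α : Type*} [DecidableEq α] (s : Finset α) (f : α → α) (hf : ∀ a ∈ s, f a ∈ s)
    (hff : ∀ a ∈ s, f (f a) = a) (hne : ∀ a ∈ s, f a ≠ a) : ((s.card : ℕ) : ZMod 2) = 0 := by
  rw [Finset.card_eq_sum_ones, Nat.cast_sum]
  refine Finset.sum_involution (fun a _ => f a) (fun a _ => by norm_num; decide) (fun a ha _ => hne a ha) hf hff

/-- The representatives of the orbits of doubling. -/
def reps31 : Fin 6 → ZMod 31 := ![1, 3, 5, 7, 11, 15]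

theorem check31 : ∀ b : Fin 6 → Bool,
    (Finset.univ.filter fun d : ZMod 31 => ∃ j : Fin 6, b j = true ∧ ∃ i : Fin 5, d = reps31 j * 2 ^ (i : ℕ)).card
      ≠ 12 := by
  decide +kernel

theorem cover31 : ∀ d : ZMod 31, d = 0 ∨ ∃ j : Fin 6, ∃ i : Fin 5, d = reps31 j * 2 ^ (i : ℕ) := by
  decide +kernel

theorem half31 : ∀ d : ZMod 31, 16 * (2 * d) = d := by decide +kernel

/-- A subset of the residues closed under doubling has no twelve elements. -/
theorem card_ne_of_double (S : Finset (ZMod 31)) (h0 : (0 : ZMod 31) ∉ S) (h2 : ∀ d ∈ S, 2 * d ∈ S) :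
    S.card ≠ 12 := by
  have hpow : ∀ (d : ZMod 31) (i : ℕ), d ∈ S → d * 2 ^ i ∈ S := by
    intro d i hd
    induction i with
    | zero => rwa [pow_zero, mul_one]
    | succ i ih => rw [pow_succ, ← mul_assoc, mul_comm]; exact h2 _ ih
  have hback : ∀ (d : ZMod 31) (i : Fin 5), d * 2 ^ (i : ℕ) ∈ S → d ∈ S := by
    intro d i hd
    have h := hpow _ (5 - (i : ℕ)) hd
    rwa [mul_assoc, ← pow_add, show (i : ℕ) + (5 - (i : ℕ)) = 5 by omega,
      show (2 : ZMod 31) ^ 5 = 1 by decide, mul_one] at h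
  have e : S = Finset.univ.filter fun d : ZMod 31 =>
      ∃ j : Fin 6, decide (reps31 j ∈ S) = true ∧ ∃ i : Fin 5, d = reps31 j * 2 ^ (i : ℕ) := by
    ext d
    simp only [Finset.mem_filter, Finset.mem_univ, true_and, decide_eq_true_eq]
    constructor
    · intro hd
      obtain ⟨j, i, rfl⟩ := (cover31 d).resolve_left fun e => h0 (e ▸ hd)
      exact ⟨j, hback _ i hd, i, rfl⟩
    · rintro ⟨j, hj, i, rfl⟩
      exact hpow _ _ hj
  rw [e]
  exact check31 _

/-- A permutation with a single cycle through the whole of 31 points. -/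
theorem exists_single_cycle {X : Type*} [Fintype X] [DecidableEq X] (hX : Fintype.card X = 31)
    (K : Subgroup (Perm X)) (x0 : X) (htrans : ∀ x, ∃ σ ∈ K, σ x0 = x) :
    ∃ σ ∈ K, σ ^ 31 = 1 ∧ (∀ x, ∃ i : ℕ, (σ ^ i) x0 = x) ∧ ∀ i : ℕ, (σ ^ i) x0 = x0 → 31 ∣ i := by
  haveI : Fact (Nat.Prime 31) := ⟨by norm_num⟩
  have horb : MulAction.orbit K x0 = Set.univ := by
    refine Set.eq_univ_of_forall fun x => ?_
    obtain ⟨σ, hσ, e⟩ := htrans x
    exact ⟨⟨σ, hσ⟩, e⟩
  have hd : 31 ∣ Nat.card K := by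
    have h := Subgroup.card_eq_card_quotient_mul_card_subgroup (MulAction.stabilizer K x0)
    rw [← Nat.card_congr (MulAction.orbitEquivQuotientStabilizer K x0), horb, Nat.card_univ,
      Nat.card_eq_fintype_card (α := X), hX] at h
    exact Dvd.intro _ h.symm
  obtain ⟨σ, hσ⟩ := exists_prime_orderOf_dvd_card' 31 hd
  have ho : orderOf (σ : Perm X) = 31 := by rwa [Subgroup.orderOf_coe]
  have hcyc : (σ : Perm X).IsCycle :=
    Perm.isCycle_of_prime_order'' (by rw [hX]; norm_num) (ho.trans hX.symm)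
  have hsupp : (σ : Perm X).support = Finset.univ := by
    refine Finset.eq_univ_of_card _ ?_
    rw [← hcyc.orderOf, ho, hX]
  have hmov : ∀ x, (σ : Perm X) x ≠ x := fun x => by
    rw [← Perm.mem_support, hsupp]; exact Finset.mem_univ x
  refine ⟨σ, σ.2, by rw [← ho, pow_orderOf_eq_one], fun x => hcyc.exists_pow_eq (hmov x0) (hmov x),
    fun i hi => ?_⟩
  have h := (hcyc.pow_eq_one_iff' (hmov x0)).mpr hi
  rw [← ho]
  exact orderOf_dvd_of_pow_eq_one h

/-- The conclusion of the parity count. -/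
theorem false_of_twelve {G : Type*} [Group G] [Finite G] {z : G} {E : Subgroup G} (N : Finset G)
    (hE : Nat.card E = 32) (hzE : z ∈ E) (hz1 : z ≠ 1) (hcomm : ∀ a ∈ E, ∀ b ∈ E, a * b = b * a)
    (hsq : ∀ a ∈ E, a * a = 1) (hNE : ∀ p ∈ N, p ∈ E) (hN : N.card = 12) (hzN : z ∉ N) (h1N : (1 : G) ∉ N)
    (hNz : ∀ p ∈ N, z * p ∈ N) (hgen : E ≤ Subgroup.closure ((N : Set G) ∪ {z}))
    (hinv : ∀ m : G, (∀ a ∈ E, m * a * m⁻¹ ∈ E) → Commute m z → ∀ p ∈ N, m * p * m⁻¹ ∈ N)
    (hconj : ∀ p ∈ N, ∃ m : G, (∀ a ∈ E, m * a * m⁻¹ ∈ E) ∧ m * z * m⁻¹ = p)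
    (hsep : ∀ o ∈ E, ∀ p ∈ E, p ≠ 1 → p ≠ z → p ≠ o → p ≠ z * o →
      ∃ m : G, (∀ a ∈ E, m * a * m⁻¹ ∈ E) ∧ Commute m z ∧ m * o * m⁻¹ = o ∧ m * p * m⁻¹ = z * p) :
    False := by
  classical
  have hback : ∀ m : G, (∀ a ∈ E, m * a * m⁻¹ ∈ E) → ∀ a ∈ E, m⁻¹ * a * m ∈ E := by
    intro m hm a ha
    let f : E → E := fun b => ⟨m * b * m⁻¹, hm _ b.2⟩
    have hf : Function.Injective f := fun b c e => Subtype.ext (by simpa [f] using congrArg Subtype.val e)
    obtain ⟨b, hb⟩ := (Finite.injective_iff_surjective.mp hf) ⟨a, ha⟩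
    have hb' : m * b * m⁻¹ = a := congrArg Subtype.val hb
    rw [← hb', show m⁻¹ * (m * b * m⁻¹) * m = (b : G) by group]
    exact b.2
  let M : Subgroup G :=
    { carrier := {m | ∀ a ∈ E, m * a * m⁻¹ ∈ E}
      mul_mem' := fun {m n} hm hn a ha => by
        rw [show m * n * a * (m * n)⁻¹ = m * (n * a * n⁻¹) * m⁻¹ by group]; exact hm _ (hn a ha)
      one_mem' := fun a ha => by simpa using ha
      inv_mem' := fun {m} hm a ha => by rw [inv_inv]; exact hback m hm a ha }
  have hzz : z * z = 1 := hsq z hzE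
  -- all nontrivial elements are conjugates of `z` under the normalizer
  have horbit : ∀ e ∈ E, e ≠ 1 → ∃ m ∈ M, m * z * m⁻¹ = e := by
    let O : Set G := {e | ∃ m ∈ M, m * z * m⁻¹ = e}
    have hOE : ∀ e ∈ O, e ∈ E := by rintro e ⟨m, hm, rfl⟩; exact hm z hzE
    have hO1 : ∀ e ∈ O, e ≠ 1 := by rintro e ⟨m, -, rfl⟩; rwa [ne_eq, conj_eq_one_iff]
    have hOz : ∀ p ∈ O, p ≠ z → z * p ∈ O := by
      rintro p ⟨m, hm, rfl⟩ hne
      obtain ⟨m', hm', hm'z, -, e⟩ := hsep 1 (one_mem E) _ (hm z hzE) (hO1 _ ⟨m, hm, rfl⟩) hne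
        (hO1 _ ⟨m, hm, rfl⟩) (by rwa [mul_one])
      exact ⟨m' * m, M.mul_mem hm' hm, by rw [← e]; group⟩
    have hprod : ∀ a ∈ O, ∀ b ∈ O, a ≠ b → a * b ∈ O := by
      rintro a ⟨m, hm, rfl⟩ b ⟨n, hn, rfl⟩ hne
      have hp : m⁻¹ * (n * z * n⁻¹) * m ∈ O := ⟨m⁻¹ * n, M.mul_mem (M.inv_mem hm) hn, by group⟩
      have hpz : m⁻¹ * (n * z * n⁻¹) * m ≠ z := fun e => hne (by
        calc m * z * m⁻¹ = m * (m⁻¹ * (n * z * n⁻¹) * m) * m⁻¹ := by rw [e]
          _ = n * z * n⁻¹ := by group)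
      obtain ⟨l, hl, e⟩ := hOz _ hp hpz
      refine ⟨m * l, M.mul_mem hm hl, ?_⟩
      calc m * l * z * (m * l)⁻¹ = m * (l * z * l⁻¹) * m⁻¹ := by group
        _ = _ := by rw [e]; group
    let H : Subgroup G :=
      { carrier := {e | e = 1 ∨ e ∈ O}
        mul_mem' := by
          rintro a b (rfl | ha) hb
          · rwa [one_mul]
          rcases hb with rfl | hb
          · rw [mul_one]; exact Or.inr ha
          by_cases h : a = b
          · exact Or.inl (by rw [h]; exact hsq b (hOE b hb))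
          · exact Or.inr (hprod a ha b hb h)
        one_mem' := Or.inl rfl
        inv_mem' := by
          rintro a (rfl | ha)
          · exact Or.inl inv_one
          · rw [inv_eq_of_mul_eq_one_left (hsq a (hOE a ha))]; exact Or.inr ha }
    intro e he hne
    have hle : Subgroup.closure ((N : Set G) ∪ {z}) ≤ H := by
      rw [Subgroup.closure_le]
      rintro p (hp | hp)
      · exact Or.inr (hconj p hp)
      · rw [Set.mem_singleton_iff] at hp
        exact Or.inr ⟨1, M.one_mem, by rw [hp]; group⟩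
    exact (hle (hgen he)).resolve_left hne
  let X : Type _ := {e : E // (e : G) ≠ 1}
  haveI : Fintype E := Fintype.ofFinite E
  have hX : Fintype.card X = 31 := by
    have h := Fintype.card_subtype_compl fun e : E => (e : G) = 1
    rw [← Nat.card_eq_fintype_card (α := E), hE] at h
    have h1 : Fintype.card {e : E // (e : G) = 1} = 1 := Fintype.card_eq_one_iff.mpr
      ⟨⟨1, rfl⟩, fun a => Subtype.ext (Subtype.ext a.2)⟩
    rw [h1] at h
    exact h
  let f : M →* Perm X :=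
    { toFun := fun m =>
        { toFun := fun e => ⟨⟨m * (e.1 : G) * (m : G)⁻¹, m.2 _ e.1.2⟩, by
            show (m : G) * (e.1 : G) * (m : G)⁻¹ ≠ 1
            rw [ne_eq, conj_eq_one_iff]; exact e.2⟩
          invFun := fun e => ⟨⟨(m : G)⁻¹ * (e.1 : G) * m, hback _ m.2 _ e.1.2⟩, by
            show (m : G)⁻¹ * (e.1 : G) * m ≠ 1
            intro h
            exact e.2 (by
              calc (e.1 : G) = m * ((m : G)⁻¹ * (e.1 : G) * m) * (m : G)⁻¹ := by group
                _ = 1 := by rw [h]; group)⟩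
          left_inv := fun e => Subtype.ext (Subtype.ext (by simp [mul_assoc]))
          right_inv := fun e => Subtype.ext (Subtype.ext (by simp [mul_assoc])) }
      map_one' := Equiv.ext fun e => Subtype.ext (Subtype.ext (by simp))
      map_mul' := fun a b => Equiv.ext fun e => Subtype.ext (Subtype.ext (by simp [mul_assoc])) }
  obtain ⟨σ, ⟨x, rfl⟩, h31, hall, hper⟩ := exists_single_cycle hX f.range ⟨⟨z, hzE⟩, hz1⟩ (fun e => by
    obtain ⟨m, hm, h⟩ := horbit _ e.1.2 e.2
    exact ⟨f ⟨m, hm⟩, ⟨_, rfl⟩, Subtype.ext (Subtype.ext h)⟩)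
  let pt : ℕ → G := fun i => (x : G) ^ i * z * ((x : G) ^ i)⁻¹
  have hf : ∀ i : ℕ, ((((f x) ^ i) ⟨⟨z, hzE⟩, hz1⟩).1 : G) = pt i := fun i => by rw [← map_pow]; rfl
  have hpt31 : ∀ i, pt (i % 31) = pt i := fun i => by
    rw [← hf, ← hf i]
    conv_rhs => rw [← Nat.mod_add_div i 31, pow_add, pow_mul, h31, one_pow, mul_one]
  have hptadd : ∀ i j, pt (i + j) = (x : G) ^ i * pt j * ((x : G) ^ i)⁻¹ := fun i j => by
    simp only [pt, pow_add]; group
  let p : ZMod 31 → G := fun d => pt d.val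
  have hpE : ∀ d, p d ∈ E := fun d => (M.pow_mem x.2 _) z hzE
  have hp1 : ∀ d, p d ≠ 1 := fun d => by simp only [p, pt]; rwa [ne_eq, conj_eq_one_iff]
  have hpadd : ∀ a b : ZMod 31, p (a + b) = (x : G) ^ a.val * p b * ((x : G) ^ a.val)⁻¹ := fun a b => by
    simp only [p]
    rw [ZMod.val_add, hpt31, hptadd]
  have hp0 : p 0 = z := by simp [p, pt]
  have hpz : ∀ d, p d = z → d = 0 := by
    intro d hd
    have h := hper d.val (Subtype.ext (Subtype.ext ((hf _).trans hd)))
    have hlt := ZMod.val_lt d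
    exact (ZMod.val_eq_zero d).mp (Nat.eq_zero_of_dvd_of_lt h hlt)
  have hpinj : Function.Injective p := by
    intro a b h
    have e : p (b - a) = z := by
      have h1 := hpadd a (b - a)
      rw [add_sub_cancel, ← h] at h1
      have h2 : p a = (x : G) ^ a.val * z * ((x : G) ^ a.val)⁻¹ := rfl
      rw [h2] at h1
      exact (mul_left_cancel (mul_right_cancel h1)).symm
    exact (sub_eq_zero.mp (hpz _ e)).symm
  have hpsurj : ∀ e ∈ E, e ≠ 1 → ∃ d, p d = e := by
    intro e he hne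
    obtain ⟨i, hi⟩ := hall ⟨⟨e, he⟩, hne⟩
    refine ⟨(i : ZMod 31), ?_⟩
    show pt ((i : ZMod 31)).val = e
    rw [ZMod.val_natCast, hpt31, ← hf, hi]
  let S : Finset (ZMod 31) := Finset.univ.filter fun d => p d ∈ N
  have hS : ∀ {d}, d ∈ S ↔ p d ∈ N := fun {d} => by simp [S]
  have hcard : S.card = 12 := by
    have e : S.image p = N := by
      ext a
      constructor
      · intro h; obtain ⟨d, hd, rfl⟩ := Finset.mem_image.mp h; exact hS.mp hd
      · intro h
        obtain ⟨d, rfl⟩ := hpsurj a (hNE a h) fun e => h1N (e ▸ h)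
        exact Finset.mem_image.mpr ⟨d, hS.mpr h, rfl⟩
    rw [← hN, ← e, Finset.card_image_of_injective _ hpinj]
  refine card_ne_of_double S (fun h => hzN (hp0 ▸ hS.mp h)) (fun s hs => ?_) hcard
  by_contra hd
  set d := 2 * s with hdd
  have hd0 : d ≠ 0 := fun e => by
    have : s = 0 := by rw [← half31 s, ← hdd, e, mul_zero]
    exact hzN (hp0 ▸ hS.mp (this ▸ hs))
  set T := S.filter fun a => d - a ∈ S with hT
  have hsT : s ∈ T := Finset.mem_filter.mpr ⟨hs, by rwa [hdd, two_mul, add_sub_cancel_right]⟩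
  have hodd : ((T.card : ℕ) : ZMod 2) = 1 := by
    rw [← Finset.card_erase_add_one hsT, Nat.cast_add, Nat.cast_one,
      even_of_invol (T.erase s) (fun a => d - a) ?_ ?_ ?_, zero_add]
    · intro a ha
      obtain ⟨hne, haT⟩ := Finset.mem_erase.mp ha
      obtain ⟨h1, h2⟩ := Finset.mem_filter.mp haT
      refine Finset.mem_erase.mpr ⟨fun e => hne ?_, Finset.mem_filter.mpr ⟨h2, by rwa [sub_sub_cancel]⟩⟩
      rw [← sub_sub_cancel d a, e, hdd, two_mul, add_sub_cancel_right]
    · exact fun a _ => sub_sub_cancel d a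
    · intro a ha e
      refine (Finset.mem_erase.mp ha).1 ?_
      rw [← half31 a, ← half31 s, ← hdd]
      congr 1
      rw [two_mul]
      nth_rewrite 1 [← e]
      exact sub_add_cancel d a
  have heven : ((T.card : ℕ) : ZMod 2) = 0 := by
    let P : Finset G := N.filter fun a => ∃ m ∈ M, m * z * m⁻¹ = a ∧ m⁻¹ * p d * m ∈ N
    have hP : ∀ {a}, a ∈ T ↔ p a ∈ P := by
      intro a
      have hm : (x : G) ^ a.val ∈ M := M.pow_mem x.2 _
      have e1 : (x : G) ^ a.val * z * ((x : G) ^ a.val)⁻¹ = p a := rfl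
      have e2 : ((x : G) ^ a.val)⁻¹ * p d * (x : G) ^ a.val = p (d - a) := by
        have h := hpadd a (d - a)
        rw [add_sub_cancel] at h
        rw [h]; group
      simp only [T, P, Finset.mem_filter, hS]
      constructor
      · rintro ⟨h1, h2⟩
        exact ⟨h1, _, hm, e1, e2 ▸ h2⟩
      · rintro ⟨h1, m, hm', em, hmo⟩
        refine ⟨h1, ?_⟩
        have hc : Commute (((x : G) ^ a.val)⁻¹ * m) z := by
          show ((x : G) ^ a.val)⁻¹ * m * z = z * (((x : G) ^ a.val)⁻¹ * m)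
          calc ((x : G) ^ a.val)⁻¹ * m * z = ((x : G) ^ a.val)⁻¹ * (m * z * m⁻¹) * m := by group
            _ = _ := by rw [em, ← e1]; group
        have := hinv _ (M.mul_mem (M.inv_mem hm) hm') hc _ hmo
        rw [← e2]
        convert this using 1
        group
    rw [show T.card = P.card from Finset.card_bij (fun a _ => p a) (fun a ha => hP.mp ha)
      (fun a _ b _ e => hpinj e) (fun b hb => by
        obtain ⟨hbN, -⟩ := Finset.mem_filter.mp hb
        obtain ⟨a, rfl⟩ := hpsurj b (hNE b hbN) fun e => h1N (e ▸ hbN)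
        exact ⟨a, hP.mpr hb, rfl⟩)]
    refine even_of_invol P (fun a => z * a) (fun a ha => ?_)
      (fun a _ => by rw [← mul_assoc, hzz, one_mul]) (fun a _ e => hz1 (mul_eq_right.mp e))
    obtain ⟨haN, m, hm, rfl, hmo⟩ := Finset.mem_filter.mp ha
    have hpd : p d ∉ N := fun h => hd (hS.mpr h)
    obtain ⟨m', hm', hm'z, hfix, hmove⟩ := hsep (p d) (hpE d) _ (hm z hzE) (fun e => h1N (e ▸ haN))
      (fun e => hzN (e ▸ haN)) (fun e => hpd (e ▸ haN)) (fun e => hpd (by
        have := hNz _ haN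
        rwa [e, ← mul_assoc, hzz, one_mul] at this))
    refine Finset.mem_filter.mpr ⟨hNz _ haN, m' * m, M.mul_mem hm' hm, by rw [← hmove]; group, ?_⟩
    have e : (m' * m)⁻¹ * p d * (m' * m) = m⁻¹ * p d * m := by
      conv_lhs => rw [← hfix]
      group
    rwa [e]
  rw [heven] at hodd
  exact zero_ne_one hodd

end CfsgLib.S3A6
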