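import Mathlib.GroupTheory.Perm.Sign
import Mathlib.GroupTheory.SpecificGroups.Alternating
import Mathlib.Tactic.FinCases
import Mathlib.Tactic.IntervalCases

/-!
Owner: helper13. Finite facts about the symmetric groups of degree three and six, checked on codes
of permutations.
-/

set_option autoImplicit false
set_option maxRecDepth 100000
set_option Elab.async false

namespace CfsgLib.S3A6

open Equiv

/-- Permutations of six letters. -/
abbrev P6 : Type := Perm (Fin 6)

/-- The code of a map of six letters. -/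
def enc (a b c d e f : ℕ) : ℕ := a + 8 * b + 64 * c + 512 * d + 4096 * e + 32768 * f

/-- The code of a permutation. -/
def code (σ : P6) : ℕ := enc (σ 0) (σ 1) (σ 2) (σ 3) (σ 4) (σ 5)

/-- The image of a letter, read off a code. -/
def img (n i : ℕ) : ℕ := n / 8 ^ i % 8

/-- The product of two codes. -/
def cmul (m n : ℕ) : ℕ :=
  enc (img m (img n 0)) (img m (img n 1)) (img m (img n 2)) (img m (img n 3)) (img m (img n 4))
    (img m (img n 5))

/-- The code of the identity. -/
def cone : ℕ := 181896

/-- All codes. -/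
def codes : List ℕ :=
  (List.range 6).flatMap fun a => ((List.range 6).filter fun b => b != a).flatMap fun b =>
    ((List.range 6).filter fun c => c != a && c != b).flatMap fun c =>
    ((List.range 6).filter fun d => d != a && d != b && d != c).flatMap fun d =>
    ((List.range 6).filter fun e => e != a && e != b && e != c && e != d).flatMap fun e =>
    ((List.range 6).filter fun f => f != a && f != b && f != c && f != d && f != e).map fun f =>
      enc a b c d e f

/-- The letter sent to a given one. -/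
def pre (n j : ℕ) : ℕ :=
  if img n 0 == j then 0 else if img n 1 == j then 1 else if img n 2 == j then 2 else
    if img n 3 == j then 3 else if img n 4 == j then 4 else 5

/-- The code of the inverse. -/
def icode (n : ℕ) : ℕ := enc (pre n 0) (pre n 1) (pre n 2) (pre n 3) (pre n 4) (pre n 5)

theorem code_mem (σ : P6) : code σ ∈ codes := by
  have hne : ∀ i j : Fin 6, i ≠ j → (σ i : ℕ) ≠ σ j := fun i j h e => h (σ.injective (Fin.val_injective e))
  simp only [codes, List.mem_flatMap, List.mem_map, List.mem_filter, List.mem_range, Bool.and_eq_true,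
    bne_iff_ne, ne_eq]
  refine ⟨σ 0, (σ 0).2, σ 1, ⟨(σ 1).2, hne 1 0 (by decide)⟩, σ 2, ⟨(σ 2).2, hne 2 0 (by decide), hne 2 1 (by decide)⟩,
    σ 3, ⟨(σ 3).2, ⟨hne 3 0 (by decide), hne 3 1 (by decide)⟩, hne 3 2 (by decide)⟩,
    σ 4, ⟨(σ 4).2, ⟨⟨hne 4 0 (by decide), hne 4 1 (by decide)⟩, hne 4 2 (by decide)⟩, hne 4 3 (by decide)⟩,
    σ 5, ⟨(σ 5).2, ⟨⟨⟨hne 5 0 (by decide), hne 5 1 (by decide)⟩, hne 5 2 (by decide)⟩, hne 5 3 (by decide)⟩,
      hne 5 4 (by decide)⟩, rfl⟩

theorem img_code (σ : P6) (i : Fin 6) : img (code σ) i = σ i := by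
  have h0 := (σ 0).2
  have h1 := (σ 1).2
  have h2 := (σ 2).2
  have h3 := (σ 3).2
  have h4 := (σ 4).2
  have h5 := (σ 5).2
  fin_cases i <;> simp only [img, code, enc] <;> simp <;> omega

theorem code_injective : Function.Injective code := fun σ τ h =>
  Equiv.ext fun i => Fin.val_injective (by rw [← img_code, ← img_code, h])

theorem code_mul (σ τ : P6) : code (σ * τ) = cmul (code σ) (code τ) := by
  have h : ∀ i : Fin 6, ((σ * τ) i : ℕ) = img (code σ) (img (code τ) i) := fun i => by
    rw [img_code, img_code]; rfl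
  simp only [cmul]
  show enc _ _ _ _ _ _ = _
  rw [h 0, h 1, h 2, h 3, h 4, h 5]
  rfl

theorem code_one : code 1 = cone := rfl

theorem code_eq_iff {σ τ : P6} : code σ = code τ ↔ σ = τ := code_injective.eq_iff

theorem exists_of_mem {n : ℕ} (hn : n ∈ codes) : ∃ σ : P6, code σ = n := by
  simp only [codes, List.mem_flatMap, List.mem_map, List.mem_filter, List.mem_range, Bool.and_eq_true,
    bne_iff_ne, ne_eq] at hn
  obtain ⟨a, ha, b, ⟨hb, hba⟩, c, ⟨hc, hca, hcb⟩, d, ⟨hd, ⟨hda, hdb⟩, hdc⟩, e, ⟨he, ⟨⟨hea, heb⟩, hec⟩, hed⟩,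
    f, ⟨hf, ⟨⟨⟨hfa, hfb⟩, hfc⟩, hfd⟩, hfe⟩, rfl⟩ := hn
  let g : Fin 6 → Fin 6 := ![⟨a, ha⟩, ⟨b, hb⟩, ⟨c, hc⟩, ⟨d, hd⟩, ⟨e, he⟩, ⟨f, hf⟩]
  have hg : Function.Injective g := by
    intro i j h
    have h' := congrArg Fin.val h
    fin_cases i <;> fin_cases j <;> simp [g] at h' ⊢ <;> omega
  exact ⟨Equiv.ofBijective g (Finite.injective_iff_bijective.mp hg), rfl⟩

/-- The parity of a code: `true` for even permutations. -/
def evenC (n : ℕ) : Bool :=
  ((if img n 1 < img n 0 then 1 else 0) +
    (if img n 2 < img n 0 then 1 else 0) + (if img n 2 < img n 1 then 1 else 0) +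
    (if img n 3 < img n 0 then 1 else 0) + (if img n 3 < img n 1 then 1 else 0) + (if img n 3 < img n 2 then 1 else 0) +
    (if img n 4 < img n 0 then 1 else 0) + (if img n 4 < img n 1 then 1 else 0) + (if img n 4 < img n 2 then 1 else 0) + (if img n 4 < img n 3 then 1 else 0) +
    (if img n 5 < img n 0 then 1 else 0) + (if img n 5 < img n 1 then 1 else 0) + (if img n 5 < img n 2 then 1 else 0) + (if img n 5 < img n 3 then 1 else 0) + (if img n 5 < img n 4 then 1 else 0)) % 2 == 0

/-- The code of a transposition. -/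
def swc (x y : ℕ) : ℕ :=
  let s := fun i => if i == x then y else if i == y then x else i
  enc (s 0) (s 1) (s 2) (s 3) (s 4) (s 5)

theorem code_swap (x y : Fin 6) : code (swap x y) = swc x y := by
  fin_cases x <;> fin_cases y <;> rfl

theorem evenC_swap_mul : codes.all (fun n => [1, 2, 3, 4, 5].all fun x =>
    evenC (cmul (swc 0 x) n) == !evenC n) = true := by decide +kernel

theorem evenC_swap_zero (f : P6) {x : Fin 6} (hx : x ≠ 0) :
    evenC (code (swap 0 x * f)) = !evenC (code f) := by
  have h := evenC_swap_mul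
  simp only [List.all_eq_true, beq_iff_eq] at h
  rw [code_mul, code_swap]
  refine h _ (code_mem f) x ?_
  fin_cases x <;> simp at hx ⊢

theorem evenC_swap (f : P6) {x y : Fin 6} (h : x ≠ y) : evenC (code (swap x y * f)) = !evenC (code f) := by
  by_cases hx : x = 0
  · subst hx; exact evenC_swap_zero f h.symm
  by_cases hy : y = 0
  · subst hy; rw [swap_comm]; exact evenC_swap_zero f hx
  have e : swap x y = swap 0 x * swap 0 y * swap 0 x := by
    revert hx hy h
    fin_cases x <;> fin_cases y <;> decide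
  rw [e, mul_assoc, mul_assoc, evenC_swap_zero _ hx, evenC_swap_zero _ hy, evenC_swap_zero _ hx, Bool.not_not]

theorem sign_iff (σ : P6) : evenC (code σ) = true ↔ Perm.sign σ = 1 := by
  induction σ using Perm.swap_induction_on with
  | one => exact iff_of_true (by decide) (map_one _)
  | swap_mul f x y hxy ih =>
    rw [evenC_swap f hxy, map_mul, Perm.sign_swap hxy]
    rcases Int.units_eq_one_or (Perm.sign f) with e | e
    · rw [e, ih.mpr e]; decide
    · have : evenC (code f) = false := by
        by_contra hc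
        rw [Bool.not_eq_false] at hc
        rw [ih.mp hc] at e
        exact absurd e (by decide)
      rw [e, this]; decide

theorem sign_eq_one_iff {σ : P6} : Perm.sign σ = 1 ↔ evenC (code σ) = true := (sign_iff σ).symm

/-! Boolean checks on codes. -/

/-- Commuting codes. -/
def cc (m n : ℕ) : Bool := cmul m n == cmul n m

/-- The codes of the involutions. -/
def invs : List ℕ := codes.filter fun n => cmul n n == cone && n != cone

/-- The codes of the even permutations. -/
def evens : List ℕ := codes.filter evenC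

/-- The codes of the elements of order four. -/
def fours : List ℕ := codes.filter fun n => cmul n n != cone && cmul (cmul n n) (cmul n n) == cone

theorem check_abel : fours.all (fun g => let C := codes.filter (cc g); C.all fun a => C.all fun b => cc a b) = true := by
  decide +kernel

theorem check_evenc : fours.all (fun g => (invs.filter fun a => evenC a && cc g a).all fun a => a == cmul g g) = true := by
  decide +kernel

theorem check_quat : fours.all (fun g => fours.all fun d => cmul d d != cmul g g || cmul (cmul g d) g != d) = true := by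
  decide +kernel

theorem check_five : (invs.filter evenC).all (fun s => evens.any fun h =>
    let t := cmul (cmul h s) (icode h)
    let p := cmul s t
    let p2 := cmul p p
    p != cone && cmul (cmul p2 p2) p == cone) = true := by
  decide +kernel

theorem check_three : (invs.filter fun n => !evenC n).all (fun s => evens.any fun h =>
    let t := cmul (cmul h s) (icode h)
    let p := cmul s t
    p != cone && cmul (cmul p p) p == cone && evens.any fun k =>
      cc s (cmul (cmul k p) (icode k))) = true := by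
  decide +kernel

theorem check_cent : (invs.filter evenC).all (fun s => (codes.filter (cc s)).all fun t =>
    let t2 := cmul t t
    cmul t2 t2 == cone) = true := by
  decide +kernel

theorem check_elem : invs.all (fun a => (invs.filter fun b => cc a b && b != a).all fun b =>
    (invs.filter fun c => cc a c && cc b c && c != a && c != b && c != cmul a b).all fun c =>
      (invs.filter fun d => cc a d && cc b d && cc c d).all fun d =>
        [a, b, c, cmul a b, cmul a c, cmul b c, cmul (cmul a b) c].contains d) = true := by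
  decide +kernel

theorem check_elem_even : (invs.filter evenC).all (fun a => (invs.filter fun b => evenC b && cc a b && b != a).all fun b =>
    (invs.filter fun d => evenC d && cc a d && cc b d).all fun d => [a, b, cmul a b].contains d) = true := by
  decide +kernel

theorem check_moved : invs.all (fun b => evens.any fun a =>
    !cc b (cmul (cmul a b) (icode a))) = true := by
  decide +kernel

/-- The representatives of the three classes of involutions. -/
def g0 : P6 := swap 0 3 * swap 1 2

/-- The odd representative. -/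
def s0 : P6 := swap 4 5

theorem check_classes : invs.all (fun s => evens.any fun h =>
    [code g0, code s0, code (g0 * s0)].contains
      (cmul (cmul h s) (icode h))) = true := by
  decide +kernel

theorem find_inv (h : P6) : icode (code h) = code h⁻¹ := by
  have hp : ∀ j : Fin 6, pre (code h) (j : ℕ) = ((h⁻¹ j : Fin 6) : ℕ) := by
    intro j
    obtain ⟨i, rfl⟩ := h.surjective j
    rw [show h⁻¹ (h i) = i from h.symm_apply_apply i]
    simp only [pre, show (0 : ℕ) = ((0 : Fin 6) : ℕ) from rfl]
    have e : ∀ k : Fin 6, (img (code h) (k : ℕ) == (h i : ℕ)) = decide (k = i) := fun k => by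
      rw [img_code, Bool.eq_iff_iff, beq_iff_eq, decide_eq_true_iff, ← Fin.ext_iff, h.injective.eq_iff]
    have e0 := e 0
    have e1 := e 1
    have e2 := e 2
    have e3 := e 3
    have e4 := e 4
    simp only [Fin.val_zero, Fin.val_one, Fin.val_two] at e0 e1 e2 ⊢
    rw [show ((3 : Fin 6) : ℕ) = 3 from rfl] at e3
    rw [show ((4 : Fin 6) : ℕ) = 4 from rfl] at e4
    rw [e0, e1, e2, e3, e4]
    fin_cases i <;> rfl
  simp only [icode]
  show enc _ _ _ _ _ _ = enc _ _ _ _ _ _
  rw [← hp 0, ← hp 1, ← hp 2, ← hp 3, ← hp 4, ← hp 5]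
  rfl

theorem mem_invs {a : P6} (h : a * a = 1) (h1 : a ≠ 1) : code a ∈ invs := by
  rw [invs, List.mem_filter, Bool.and_eq_true, beq_iff_eq, bne_iff_ne, ← code_mul, ← code_one, ne_eq,
    code_eq_iff, code_eq_iff]
  exact ⟨code_mem a, h, h1⟩

theorem mem_fours {a : P6} (h : a * a ≠ 1) (h4 : a * a * (a * a) = 1) : code a ∈ fours := by
  rw [fours, List.mem_filter, Bool.and_eq_true, beq_iff_eq, bne_iff_ne, ← code_mul, ← code_mul, ← code_one,
    ne_eq, code_eq_iff, code_eq_iff]
  exact ⟨code_mem a, h, h4⟩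

theorem cc_iff {a b : P6} : cc (code a) (code b) = true ↔ a * b = b * a := by
  rw [cc, beq_iff_eq, ← code_mul, ← code_mul, code_eq_iff]

theorem abel_of_four {g a b : P6} (h : g * g ≠ 1) (h4 : g * g * (g * g) = 1) (ha : g * a = a * g)
    (hb : g * b = b * g) : a * b = b * a := by
  have h0 := check_abel
  simp only [List.all_eq_true] at h0
  exact cc_iff.mp (h0 _ (mem_fours h h4) _ (List.mem_filter.mpr ⟨code_mem a, cc_iff.mpr ha⟩) _
    (List.mem_filter.mpr ⟨code_mem b, cc_iff.mpr hb⟩))

theorem evenc_of_four {g a : P6} (h : g * g ≠ 1) (h4 : g * g * (g * g) = 1) (ha : g * a = a * g)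
    (ha2 : a * a = 1) (hs : Perm.sign a = 1) : a = 1 ∨ a = g * g := by
  by_cases h1 : a = 1
  · exact Or.inl h1
  right
  have h0 := check_evenc
  simp only [List.all_eq_true] at h0
  have := h0 _ (mem_fours h h4) (code a) (List.mem_filter.mpr
    ⟨mem_invs ha2 h1, by rw [sign_eq_one_iff.mp hs, cc_iff.mpr ha]; rfl⟩)
  rwa [beq_iff_eq, ← code_mul, code_eq_iff] at this

theorem no_quat {g d : P6} (h : g * g ≠ 1) (h4 : g * g * (g * g) = 1) (hd : d * d = g * g) :
    g * d * g ≠ d := by
  have h0 := check_quat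
  simp only [List.all_eq_true] at h0
  have := h0 _ (mem_fours h h4) _ (mem_fours (hd ▸ h) (by rw [hd]; exact h4))
  simp only [← code_mul, Bool.or_eq_true, bne_iff_ne, ne_eq, code_eq_iff] at this
  exact this.resolve_left (not_not_intro hd)

theorem exists_five {s : P6} (hs : s * s = 1) (h1 : s ≠ 1) (he : Perm.sign s = 1) :
    ∃ h : P6, Perm.sign h = 1 ∧ s * (h * s * h⁻¹) ≠ 1 ∧ (s * (h * s * h⁻¹)) ^ 5 = 1 := by
  have h0 := check_five
  simp only [List.all_eq_true, List.any_eq_true] at h0
  obtain ⟨n, hn, hp⟩ := h0 _ (List.mem_filter.mpr ⟨mem_invs hs h1, sign_eq_one_iff.mp he⟩)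
  obtain ⟨hn, hev⟩ := List.mem_filter.mp hn
  obtain ⟨h, rfl⟩ := exists_of_mem hn
  rw [find_inv] at hp
  simp only [← code_mul, ← code_one, Bool.and_eq_true, beq_iff_eq, bne_iff_ne, ne_eq, code_eq_iff] at hp
  exact ⟨h, sign_eq_one_iff.mpr hev, hp.1, by simpa [pow_succ, mul_assoc] using hp.2⟩

theorem exists_three {s : P6} (hs : s * s = 1) (h1 : s ≠ 1) (he : Perm.sign s ≠ 1) :
    ∃ h k : P6, Perm.sign h = 1 ∧ Perm.sign k = 1 ∧ s * (h * s * h⁻¹) ≠ 1 ∧ (s * (h * s * h⁻¹)) ^ 3 = 1 ∧
      s * (k * (s * (h * s * h⁻¹)) * k⁻¹) = k * (s * (h * s * h⁻¹)) * k⁻¹ * s := by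
  have h0 := check_three
  simp only [List.all_eq_true, List.any_eq_true, Bool.and_eq_true] at h0
  obtain ⟨n, hn, ⟨hp, h3⟩, m, hm, hc⟩ := h0 _ (List.mem_filter.mpr ⟨mem_invs hs h1,
    by rw [Bool.not_eq_true', ← Bool.not_eq_true]; exact fun c => he (sign_eq_one_iff.mpr c)⟩)
  obtain ⟨hn, hev⟩ := List.mem_filter.mp hn
  obtain ⟨h, rfl⟩ := exists_of_mem hn
  obtain ⟨hm, hev'⟩ := List.mem_filter.mp hm
  obtain ⟨k, rfl⟩ := exists_of_mem hm
  rw [find_inv] at hp h3
  rw [find_inv, find_inv] at hc
  simp only [← code_mul, ← code_one, beq_iff_eq, bne_iff_ne, ne_eq, code_eq_iff] at hp h3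
  simp only [← code_mul, cc_iff] at hc
  exact ⟨h, k, sign_eq_one_iff.mpr hev, sign_eq_one_iff.mpr hev', hp,
    by simpa [pow_succ, mul_assoc] using h3, hc⟩

theorem cent_even {s t : P6} (hs : s * s = 1) (h1 : s ≠ 1) (he : Perm.sign s = 1) (ht : s * t = t * s) :
    t ^ 4 = 1 := by
  have h0 := check_cent
  simp only [List.all_eq_true] at h0
  have := h0 _ (List.mem_filter.mpr ⟨mem_invs hs h1, sign_eq_one_iff.mp he⟩) _
    (List.mem_filter.mpr ⟨code_mem t, cc_iff.mpr ht⟩)
  simp only [← code_mul, ← code_one, beq_iff_eq, code_eq_iff] at this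
  simpa [pow_succ, mul_assoc] using this

theorem exists_moved {b : P6} (hb : b * b = 1) (h1 : b ≠ 1) :
    ∃ a : P6, Perm.sign a = 1 ∧ b * (a * b * a⁻¹) ≠ a * b * a⁻¹ * b := by
  have h0 := check_moved
  simp only [List.all_eq_true, List.any_eq_true] at h0
  obtain ⟨n, hn, hp⟩ := h0 _ (mem_invs hb h1)
  obtain ⟨hn, hev⟩ := List.mem_filter.mp hn
  obtain ⟨a, rfl⟩ := exists_of_mem hn
  rw [find_inv, ← code_mul, ← code_mul, Bool.not_eq_true', ← Bool.not_eq_true, cc_iff] at hp
  exact ⟨a, sign_eq_one_iff.mpr hev, hp⟩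

theorem exists_conj_rep {s : P6} (hs : s * s = 1) (h1 : s ≠ 1) :
    ∃ h : P6, Perm.sign h = 1 ∧ (h * s * h⁻¹ = g0 ∨ h * s * h⁻¹ = s0 ∨ h * s * h⁻¹ = g0 * s0) := by
  have h0 := check_classes
  simp only [List.all_eq_true, List.any_eq_true] at h0
  obtain ⟨n, hn, hp⟩ := h0 _ (mem_invs hs h1)
  obtain ⟨hn, hev⟩ := List.mem_filter.mp hn
  obtain ⟨h, rfl⟩ := exists_of_mem hn
  rw [find_inv, ← code_mul, ← code_mul] at hp
  simp only [List.contains_iff_mem, List.mem_cons, List.not_mem_nil, or_false, code_eq_iff] at hp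
  exact ⟨h, sign_eq_one_iff.mpr hev, hp⟩

/-- A commuting family of involutions and the identity lies in the group of any three independent members. -/
theorem elem_span {a b c d : P6} (ha : a * a = 1) (hb : b * b = 1) (hc : c * c = 1) (hd : d * d = 1)
    (a1 : a ≠ 1) (b1 : b ≠ 1) (c1 : c ≠ 1) (d1 : d ≠ 1) (hab : a * b = b * a) (hac : a * c = c * a)
    (hbc : b * c = c * b) (had : a * d = d * a) (hbd : b * d = d * b) (hcd : c * d = d * c)
    (nb : b ≠ a) (na : c ≠ a) (ncb : c ≠ b) (nc : c ≠ a * b) :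
    d = a ∨ d = b ∨ d = c ∨ d = a * b ∨ d = a * c ∨ d = b * c ∨ d = a * b * c := by
  have h0 := check_elem
  simp only [List.all_eq_true] at h0
  have h2 := h0 (code a) (mem_invs ha a1) (code b) (List.mem_filter.mpr ⟨mem_invs hb b1, by
      simp only [Bool.and_eq_true, bne_iff_ne, ne_eq, code_eq_iff]; exact ⟨cc_iff.mpr hab, nb⟩⟩)
    (code c) (List.mem_filter.mpr ⟨mem_invs hc c1, by
      simp only [Bool.and_eq_true, bne_iff_ne, ne_eq, ← code_mul, code_eq_iff, cc_iff]
      exact ⟨⟨⟨⟨hac, hbc⟩, na⟩, ncb⟩, nc⟩⟩)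
    (code d) (List.mem_filter.mpr ⟨mem_invs hd d1, by
      simp only [Bool.and_eq_true, cc_iff]; exact ⟨⟨had, hbd⟩, hcd⟩⟩)
  simpa only [List.contains_iff_mem, List.mem_cons, List.not_mem_nil, or_false, ← code_mul, code_eq_iff]
    using h2

/-- A commuting pair of even involutions generates all even involutions commuting with both. -/
theorem elem_even {a b d : P6} (ha : a * a = 1) (hb : b * b = 1) (hd : d * d = 1)
    (a1 : a ≠ 1) (b1 : b ≠ 1) (d1 : d ≠ 1) (sa : Perm.sign a = 1) (sb : Perm.sign b = 1)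
    (sd : Perm.sign d = 1) (hab : a * b = b * a) (had : a * d = d * a) (hbd : b * d = d * b) (nb : b ≠ a) :
    d = a ∨ d = b ∨ d = a * b := by
  have h0 := check_elem_even
  simp only [List.all_eq_true] at h0
  have h2 := h0 (code a) (List.mem_filter.mpr ⟨mem_invs ha a1, sign_eq_one_iff.mp sa⟩) (code b)
    (List.mem_filter.mpr ⟨mem_invs hb b1, by
      simp only [Bool.and_eq_true, bne_iff_ne, ne_eq, code_eq_iff]
      exact ⟨⟨sign_eq_one_iff.mp sb, cc_iff.mpr hab⟩, nb⟩⟩)
    (code d) (List.mem_filter.mpr ⟨mem_invs hd d1, by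
      simp only [Bool.and_eq_true, cc_iff]; exact ⟨⟨sign_eq_one_iff.mp sd, had⟩, hbd⟩⟩)
  simpa only [List.contains_iff_mem, List.mem_cons, List.not_mem_nil, or_false, ← code_mul, code_eq_iff]
    using h2

/-! The symmetric group of degree three. -/

/-- Permutations of three letters. -/
abbrev P3 : Type := Perm (Fin 3)

theorem p3_sq_of_four : ∀ a : P3, a * a * (a * a) = 1 → a * a = 1 := by decide +kernel

theorem p3_even_inv : ∀ a : P3, a * a = 1 → Perm.sign a = 1 → a = 1 := by decide +kernel

theorem p3_odd_inv : ∀ a : P3, Perm.sign a ≠ 1 → a * a = 1 := by decide +kernel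

theorem p3_inv_comm : ∀ a b : P3, a * a = 1 → b * b = 1 → a * b = b * a → a = 1 ∨ b = 1 ∨ a = b := by
  decide +kernel

/-- A three-cycle. -/
def t3 : P3 := finRotate 3

theorem t3_facts : Perm.sign t3 = 1 ∧ t3 ≠ 1 ∧ t3 ^ 3 = 1 := by decide +kernel

theorem p3_even_pow : ∀ a : P3, Perm.sign a = 1 → a = 1 ∨ a = t3 ∨ a = t3 * t3 := by decide +kernel

theorem p3_comm_even : ∀ a b : P3, Perm.sign a = 1 → Perm.sign b = 1 → a * b = b * a := by decide +kernel

/-- Pairs of permutations. -/
abbrev P36 : Type := P3 × P6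

end CfsgLib.S3A6
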