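import Cfsg.Agent.Lib.Invol.S3A6.Sign

/-!
Owner: helper13. The case of one moved plane: without conjugates of `z` in `Q`, every conjugate outside `Q`
commuting with `z` is odd on the three letters.
-/

set_option autoImplicit false
set_option linter.unusedSectionVars false

namespace CfsgLib.S3A6

open Cfsg CfsgLib.ThreeTrans Equiv

namespace Setting

variable {G : Type*} [Group G] [Finite G] {z : G} {Q : Subgroup G} (S : Setting z Q)
include S

theorem caseB_q {v : V} (hB : S.CaseB) (hv : v ∈ S.V1) (h0 : v ≠ 0) : S.q v = 1 := by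
  classical
  rcases Setting.Fpf.counts S S.V1_fpf with ⟨e, n⟩ | ⟨e, n⟩ | ⟨e, n⟩ | ⟨e, n⟩ | ⟨e, n⟩ <;>
    rw [CaseB] at hB <;> try omega
  by_contra hq
  have hsub : (S.V1.filter fun w => S.q w = 1) ⊆ (S.V1.erase 0).erase v := fun w hw => by
    obtain ⟨hw1, hw2⟩ := Finset.mem_filter.mp hw
    refine Finset.mem_erase.mpr ⟨fun e => hq (e ▸ hw2), Finset.mem_erase.mpr ⟨fun e => ?_, hw1⟩⟩
    rw [e, S.q_zero] at hw2
    exact zero_ne_one hw2
  have := Finset.card_le_card hsub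
  rw [Finset.card_erase_of_mem (Finset.mem_erase.mpr ⟨h0, hv⟩), Finset.card_erase_of_mem S.V1_sub.zero] at this
  omega

theorem caseB_vectors {v u : V} (hB : S.CaseB) (hv : v ∈ S.V1) (h0 : v ≠ 0) (hu : u ∈ S.V1) :
    u = 0 ∨ u = v ∨ u = S.T v ∨ u = v + S.T v := by
  classical
  have hq := S.caseB_q hB hv h0
  obtain ⟨hW, hc, -⟩ := S.V1_fpf.reduce hv hq
  set W := S.V1.filter fun w => S.B v w = 0 ∧ S.B (S.T v) w = 0 with hWd
  have hB' : S.V1.card = 4 := hB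
  have hone : W.card = 1 := by omega
  have hmem : ∀ y, y ∈ S.V1 → S.B v y = S.B v u → S.B (S.T v) y = S.B (S.T v) u → u = y := by
    intro y hy b1 b2
    have hm : y + u ∈ W := Finset.mem_filter.mpr ⟨S.V1_sub.add hy hu,
      by rw [S.B_add_right, b1, z2_add_self], by rw [S.B_add_right, b2, z2_add_self]⟩
    have h00 : (0 : V) ∈ W := hW.sub.zero
    exact (v_add_eq_zero.mp (Finset.card_le_one.mp hone.le _ hm 0 h00)).symm
  have hTv := S.V1_fpf.map v hv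
  have b01 : S.B v (S.T v) = 1 := (S.V1_fpf.B_pair hv).trans hq
  have b10 : S.B (S.T v) v = 1 := by rw [S.B_comm, b01]
  rcases two_cases (S.B v u) with c | c <;> rcases two_cases (S.B (S.T v) u) with d | d
  · exact Or.inl (hmem 0 S.V1_sub.zero (by rw [S.B_comm, S.B_zero, c]) (by rw [S.B_comm, S.B_zero, d]))
  · exact Or.inr (Or.inl (hmem v hv (by rw [S.B_self, c]) (by rw [b10, d])))
  · exact Or.inr (Or.inr (Or.inl (hmem _ hTv (by rw [b01, c]) (by rw [S.B_self, d]))))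
  · refine Or.inr (Or.inr (Or.inr (hmem _ (S.V1_sub.add hv hTv) ?_ ?_)))
    · rw [S.B_add_right, S.B_self, b01, zero_add, c]
    · rw [S.B_add_right, S.B_self, b10, add_zero, d]

/-- An involution of the centralizer trivial on the three letters fixes the moved plane. -/
theorem caseB_fix {s : P6} (hB : S.CaseB) (hs : S.R (1, s)) (h2 : s * s = 1) {v : V} (hv : v ∈ S.V1) :
    S.ρ (1, s) v = v := by
  by_cases h0 : v = 0
  · rw [h0, S.ρ_zero hs]
  have hcomm : ∀ x, S.ρ (1, s) (S.T x) = S.T (S.ρ (1, s) x) := fun x => by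
    simp only [T]
    rw [← S.ρ_mul hs S.R_th, ← S.ρ_mul S.R_th hs, th_comm]
  have hsq : ∀ x, S.ρ (1, s) (S.ρ (1, s) x) = x := fun x => by
    rw [← S.ρ_mul hs hs, Prod.mk_mul_mk, one_mul, h2, Prod.mk_one_one, S.ρ_one]
  have hmem : S.ρ (1, s) v ∈ S.V1 := by
    rw [S.mem_V1] at hv ⊢
    rw [← hcomm, ← hcomm, ← S.ρ_add hs, ← S.ρ_add hs, hv, S.ρ_zero hs]
  have h3 := S.V1_fpf.three v hv
  rcases S.caseB_vectors hB hv h0 hmem with e | e | e | e
  · exact absurd (S.ρ_injective hs (e.trans (S.ρ_zero hs).symm)) h0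
  · exact e
  · exfalso
    have e2 := hsq v
    rw [e, hcomm, e, h3, add_eq_left] at e2
    exact h0 (by rw [← S.T_cube v, e2, S.T_zero, S.T_zero])
  · exfalso
    have e2 := hsq v
    rw [e, S.ρ_add hs, hcomm, e, S.T_add, h3] at e2
    rw [show v + S.T v + (S.T v + (v + S.T v)) = S.T v by
      funext i
      show v i + S.T v i + (S.T v i + (v i + S.T v i)) = S.T v i
      generalize v i = a
      generalize S.T v i = b
      revert a b
      decide] at e2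
    rw [e2, e2, v_add_self] at h3
    exact h0 h3

/-- An element of order four of the moved plane centralizing a conjugate of `z`. -/
theorem caseB_exists_four {g : G} (hB : S.CaseB) (hw : Commute (g * z * g⁻¹) z)
    (hchi : chi (S.π (g * z * g⁻¹)) = 1) :
    ∃ i, i ∈ S.cq (g * z * g⁻¹) ∧ i * i = z ∧ S.ψ i ∈ S.V1 ∧ S.ψ i ≠ 0 ∧
      ∀ v ∈ S.V1, S.act (g * z * g⁻¹) v = v := by
  set w := g * z * g⁻¹ with hwdef
  have hw2 : w * w = 1 := S.conj_sq
  have hπ2 : S.π w * S.π w = 1 := by rw [← S.π_mul _ _ hw hw, hw2, S.π_one]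
  have h1 : (S.π w).1 = 1 := p3_even_inv _ (congrArg Prod.fst hπ2) hchi
  have hπ : S.π w = (1, (S.π w).2) := Prod.ext h1 rfl
  have hfix : ∀ v ∈ S.V1, S.act w v = v := fun v hv => by
    rw [← S.ρ_π hw, hπ]
    exact S.caseB_fix hB (hπ ▸ S.R_π hw) (congrArg Prod.snd hπ2) hv
  obtain ⟨v, hv, h0⟩ := Finset.exists_mem_ne (s := S.V1) (by rw [CaseB] at hB; omega) 0
  have hTv := S.V1_fpf.map v hv
  have hTv0 : S.T v ≠ 0 := fun e => h0 (by rw [← S.T_cube v, e, S.T_zero, S.T_zero])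
  have hvT : v + S.T v ≠ 0 := fun e => by
    have := (S.V1_fpf.B_pair hv).trans (S.caseB_q hB hv h0)
    rw [← v_add_eq_zero.mp e, S.B_self] at this
    exact zero_ne_one this
  have hm1 := S.sec_mem v
  have hm2 := S.sec_mem (S.T v)
  have key : ∃ i, i ∈ S.cq w ∧ S.ψ i ∈ S.V1 ∧ S.ψ i ≠ 0 := by
    rcases S.mul_mem_cq_or hw hm1 hm2 (S.mem_fix.mpr (by rw [S.ψ_sec]; exact hfix v hv))
      (S.mem_fix.mpr (by rw [S.ψ_sec]; exact hfix _ hTv)) with c | c | c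
    · exact ⟨_, c, by rw [S.ψ_sec]; exact hv, by rw [S.ψ_sec]; exact h0⟩
    · exact ⟨_, c, by rw [S.ψ_sec]; exact hTv, by rw [S.ψ_sec]; exact hTv0⟩
    · refine ⟨_, c, ?_, ?_⟩
      · rw [S.ψ_mul _ (inv_mem hm1) _ hm2, S.ψ_inv hm1, S.ψ_sec, S.ψ_sec]; exact S.V1_sub.add hv hTv
      · rw [S.ψ_mul _ (inv_mem hm1) _ hm2, S.ψ_inv hm1, S.ψ_sec, S.ψ_sec]; exact hvT
  obtain ⟨i, hi, hiv, hi0⟩ := key
  exact ⟨i, hi, (S.sq_z_iff (S.mem_cq.mp hi).1).mpr (S.caseB_q hB hiv hi0), hiv, hi0, hfix⟩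

theorem caseB_even {g : G} (hB : S.CaseB) (hw : Commute (g * z * g⁻¹) z)
    (hchi : chi (S.π (g * z * g⁻¹)) = 1) :
    chi (S.π (g⁻¹ * z * g)) = 1 ∧ Perm.sign (S.π (g⁻¹ * z * g)).2 = 1 := by
  obtain ⟨i, hi, hi2, -⟩ := S.caseB_exists_four hB hw hchi
  have hc := (S.mem_cq.mp hi).2
  have e : S.π (g⁻¹ * z * g) = S.μ g i * S.μ g i := by rw [← S.μ_mul hc hc, hi2]; rfl
  rw [e]
  exact ⟨chi_sq _, by rw [Prod.snd_mul, map_mul]; exact Int.units_mul_self _⟩

theorem caseB_snd_even {y : G} (hB : S.CaseB) (hy : IsConj z y) (hyz : Commute y z)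
    (hchi : chi (S.π y) = 1) : Perm.sign (S.π y).2 = 1 := by
  obtain ⟨g, rfl⟩ := isConj_iff.mp hy
  have h := S.caseB_even hB hyz hchi
  have hu : Commute (g⁻¹ * z * g⁻¹⁻¹) z := by rw [inv_inv]; exact S.back_commute hyz.symm
  have h' := S.caseB_even (g := g⁻¹) hB hu (by rw [inv_inv]; exact h.1)
  rw [inv_inv] at h'
  exact h'.2

theorem caseB_odd (hB : S.CaseB) (hphi : ∀ v, ¬ S.Phi v) {y : G} (hy : IsConj z y) (hyz : Commute y z)
    (hyQ : y ∉ Q) : chi (S.π y) ≠ 1 := by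
  classical
  intro hchi
  obtain ⟨g, rfl⟩ := isConj_iff.mp hy
  set w := g * z * g⁻¹ with hwdef
  have hw2 : w * w = 1 := S.conj_sq
  have hin : ∀ y, IsConj z y → y ∈ Q → y = z := fun y hy hyQ => by
    by_contra hne
    exact hphi _ (S.phi_of hy hyQ hne)
  have huQ : g⁻¹ * z * g ∉ Q := fun hm => hyQ (by
    have e := hin _ (isConj_iff.mpr ⟨g⁻¹, by rw [inv_inv]⟩) hm
    have : w = z := by
      calc w = g * z * g⁻¹ := rfl
        _ = g * (g⁻¹ * z * g) * g⁻¹ := by rw [e]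
        _ = z := by group
    rw [this]; exact S.h.z_mem)
  obtain ⟨i, hi, hi2, hiv, hi0, hfix⟩ := S.caseB_exists_four hB hyz hchi
  have hcw : ∀ {a}, a ∈ S.cq w → Commute a w := fun ha => (S.mem_cq.mp ha).2
  have hzc : z ∈ S.cq w := S.mem_cq.mpr ⟨S.h.z_mem, hyz.symm⟩
  have hμ1 : S.μ g 1 = 1 := by rw [μ, mul_one, inv_mul_cancel, S.π_one]
  have hμz1 : S.μ g z ≠ 1 := fun e => huQ ((S.π_eq_one _ (S.back_commute hyz.symm)).mp e)
  set γ := S.μ g i with hγ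
  have hγ2 : γ * γ = S.μ g z := by rw [hγ, ← S.μ_mul (hcw hi) (hcw hi), hi2]
  have hγ4 : γ * γ * (γ * γ) = 1 := by
    rw [hγ2, ← S.μ_mul hyz.symm hyz.symm, S.h.mul_self_z, hμ1]
  have hγ1 : γ.1 * γ.1 = 1 := p3_sq_of_four _ (congrArg Prod.fst hγ4)
  have hγ22 : γ.2 * γ.2 ≠ 1 := fun e => hμz1 (by rw [← hγ2]; exact Prod.ext hγ1 e)
  have hγ24 : γ.2 * γ.2 * (γ.2 * γ.2) = 1 := congrArg Prod.snd hγ4
  -- some commutator is `z`
  obtain ⟨q0, hq0, e0⟩ : ∃ q0 ∈ Q, cm w q0 = z := by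
    by_contra hcon
    push Not at hcon
    have hall : ∀ a ∈ Q, S.ψ a ∈ S.V1 → a ∈ S.cq w := by
      intro a ha hav
      rcases S.conj_or_of_fix hyz ha (S.mem_fix.mpr (hfix _ hav)) with e | e
      · exact S.mem_cq.mpr ⟨ha, (mul_inv_eq_iff_eq_mul.mp e).symm⟩
      · refine absurd ?_ (hcon a ha)
        rw [inv_eq_of_mul_eq_one_left hw2] at e
        show w * a⁻¹ * w * a = z
        have e'' : w * a⁻¹ * w = (z * a)⁻¹ := by
          simp only [← e, mul_inv_rev, inv_eq_of_mul_eq_one_left hw2, mul_assoc]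
        rw [e'', mul_inv_rev, S.h.inv_z, mul_assoc, ← S.h.commute_z ha, inv_mul_cancel_left]
    have hTv := S.V1_fpf.map _ hiv
    have hj := hall _ (S.sec_mem _) (by rw [S.ψ_sec]; exact hTv)
    set j := S.sec (S.T (S.ψ i))
    have hji : S.B (S.ψ i) (S.ψ j) = 1 := by
      rw [S.ψ_sec]; exact (S.V1_fpf.B_pair hiv).trans (S.caseB_q hB hiv hi0)
    have hij := (S.B_eq_one (S.mem_cq.mp hi).1 (S.mem_cq.mp hj).1).mp hji
    have hjq : S.q (S.ψ j) = 1 := by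
      rw [S.ψ_sec, S.T_q]; exact S.caseB_q hB hiv hi0
    have hj2 := (S.sq_z_iff (S.mem_cq.mp hj).1).mpr hjq
    have e1 : S.μ g i * S.μ g j = S.μ g z * S.μ g j * S.μ g i := by
      rw [← S.μ_mul (hcw hi) (hcw hj), ← S.μ_mul hyz.symm (hcw hj),
        ← S.μ_mul (hcw (mul_mem hzc hj)) (hcw hi), mul_inv_eq_iff_eq_mul.mp hij]
    have e2 : S.μ g j * S.μ g j = S.μ g z := by rw [← S.μ_mul (hcw hj) (hcw hj), hj2]
    have hd : (S.μ g j).2 * (S.μ g j).2 = γ.2 * γ.2 := congrArg Prod.snd (e2.trans hγ2.symm)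
    refine no_quat hγ22 hγ24 hd ?_
    rw [← hγ, ← hγ2] at e1
    have e3 : γ.2 * (S.μ g j).2 = γ.2 * γ.2 * (S.μ g j).2 * γ.2 := congrArg Prod.snd e1
    rw [mul_assoc γ.2 γ.2, mul_assoc γ.2, mul_right_inj] at e3
    exact e3.symm
  -- the centralizer of `i` in the centralizer of `w`
  set W0 : Subgroup G := S.cq w ⊓ Subgroup.centralizer {i} with hW0
  have hmem0 : ∀ {a}, a ∈ W0 ↔ a ∈ S.cq w ∧ Commute a i := fun {a} => by
    rw [hW0, Subgroup.mem_inf, Subgroup.mem_centralizer_singleton_iff]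
    rfl
  have hhalf : Nat.card (S.cq w) ≤ 2 * Nat.card W0 := by
    refine card_le_two_mul inf_le_left fun a ha b hb => ?_
    have hiQ := (S.mem_cq.mp hi).1
    have haQ := (S.mem_cq.mp ha).1
    have hbQ := (S.mem_cq.mp hb).1
    rcases two_cases (S.B (S.ψ i) (S.ψ a)) with e | e
    · exact Or.inl (hmem0.mpr ⟨ha, ((S.sq_mul_sq hiQ haQ).mp e).symm⟩)
    rcases two_cases (S.B (S.ψ i) (S.ψ b)) with e' | e'
    · exact Or.inr (Or.inl (hmem0.mpr ⟨hb, ((S.sq_mul_sq hiQ hbQ).mp e').symm⟩))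
    refine Or.inr (Or.inr (hmem0.mpr ⟨mul_mem (inv_mem ha) hb, ((S.sq_mul_sq hiQ
      (mul_mem (inv_mem haQ) hbQ)).mp ?_).symm⟩))
    rw [S.ψ_mul _ (inv_mem haQ) _ hbQ, S.ψ_inv haQ, S.B_add_right, e, e']
    decide
  have hab : ∀ a ∈ W0, ∀ b ∈ W0, Commute a b := by
    intro a ha b hb
    obtain ⟨ha1, hai⟩ := hmem0.mp ha
    obtain ⟨hb1, hbi⟩ := hmem0.mp hb
    have c1 : γ * S.μ g a = S.μ g a * γ := by
      rw [hγ, ← S.μ_mul (hcw hi) (hcw ha1), ← S.μ_mul (hcw ha1) (hcw hi), hai.eq]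
    have c2 : γ * S.μ g b = S.μ g b * γ := by
      rw [hγ, ← S.μ_mul (hcw hi) (hcw hb1), ← S.μ_mul (hcw hb1) (hcw hi), hbi.eq]
    have sq1 : ∀ x ∈ S.cq w, (S.μ g x).1 * (S.μ g x).1 = 1 := by
      intro x hx
      refine p3_sq_of_four _ ?_
      have hx2 : x * x ∈ S.cq w := mul_mem hx hx
      have h4 : x * x * (x * x) = 1 := by
        rcases S.h.eq_or (S.h.sq_mem (S.mem_cq.mp hx).1) with e | e <;> rw [e]
        · rw [one_mul]
        · exact S.h.mul_self_z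
      have e := congrArg Prod.fst (congrArg (S.μ g) h4)
      rw [S.μ_mul (hcw hx2) (hcw hx2), S.μ_mul (hcw hx) (hcw hx), hμ1] at e
      simpa using e
    have m1 : (S.μ g a).1 * (S.μ g b).1 = (S.μ g b).1 * (S.μ g a).1 := by
      have h3 := sq1 _ (mul_mem ha1 hb1)
      rw [S.μ_mul (hcw ha1) (hcw hb1), Prod.fst_mul] at h3
      rw [eq_inv_of_mul_eq_one_left h3, mul_inv_rev, inv_eq_of_mul_eq_one_left (sq1 a ha1),
        inv_eq_of_mul_eq_one_left (sq1 b hb1)]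
    have m2 := abel_of_four hγ22 hγ24 (congrArg Prod.snd c1) (congrArg Prod.snd c2)
    have m3 : S.μ g (a * b) = S.μ g (b * a) := by
      rw [S.μ_mul (hcw ha1) (hcw hb1), S.μ_mul (hcw hb1) (hcw ha1)]
      exact Prod.ext m1 m2
    rcases S.h.conj_eq_or (S.mem_cq.mp ha1).1 (S.mem_cq.mp hb1).1 with e | e
    · exact mul_inv_eq_iff_eq_mul.mp e
    · exfalso
      rw [mul_inv_eq_iff_eq_mul.mp e, mul_assoc, S.μ_mul hyz.symm (hcw (mul_mem hb1 ha1)), mul_eq_right] at m3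
      exact hμz1 m3
  let U0 : Finset V := Finset.univ.filter fun v => ∃ a ∈ W0, S.ψ a = v
  have hmU : ∀ {v}, v ∈ U0 ↔ ∃ a ∈ W0, S.ψ a = v := fun {v} => by simp [U0]
  have hWQ : ∀ a ∈ W0, a ∈ Q := fun a ha => (S.mem_cq.mp (hmem0.mp ha).1).1
  have hU0 : IsSub U0 := ⟨hmU.mpr ⟨1, one_mem _, S.ψ_one⟩, fun {u v} hu hv => by
    obtain ⟨a, ha, rfl⟩ := hmU.mp hu
    obtain ⟨b, hb, rfl⟩ := hmU.mp hv
    exact hmU.mpr ⟨a * b, mul_mem ha hb, S.ψ_mul _ (hWQ a ha) _ (hWQ b hb)⟩⟩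
  have hW0card : Nat.card W0 ≤ 2 * U0.card := by
    rw [← S.card_pre hU0]
    exact Subgroup.card_le_of_le fun a ha => ⟨hWQ a ha, hmU.mpr ⟨a, ha, rfl⟩⟩
  set I := S.img w with hI
  have hIfix : ∀ x ∈ I, S.act w x = x := by
    intro x hx
    obtain ⟨v, rfl⟩ := S.mem_img.mp hx
    rw [S.act_add hyz, ← S.act_mul hyz hyz, hw2, S.act_one, add_comm]
  have hperp : ∀ f, S.act w f = f → ∀ x ∈ I, S.B f x = 0 := by
    intro f hf x hx
    obtain ⟨v, rfl⟩ := S.mem_img.mp hx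
    rw [S.B_add_right]
    calc S.B f (S.act w v) + S.B f v = S.B (S.act w f) (S.act w v) + S.B f v := by rw [hf]
      _ = 0 := by rw [S.act_B hyz, z2_add_self]
  have hU0fix : ∀ x ∈ U0, S.act w x = x := by
    intro x hx
    obtain ⟨a, ha, rfl⟩ := hmU.mp hx
    exact S.mem_fix.mp (S.ψ_cq_mem hyz (hmem0.mp ha).1)
  set Ssum := (U0 ×ˢ I).image (fun p : V × V => p.1 + p.2) with hSdef
  have hSsub : IsSub Ssum := by
    refine ⟨Finset.mem_image.mpr ⟨(0, 0), Finset.mem_product.mpr ⟨hU0.zero, (S.img_sub hyz).zero⟩, zero_add 0⟩,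
      fun {u v} hu hv => ?_⟩
    obtain ⟨⟨a, b⟩, hp, rfl⟩ := Finset.mem_image.mp hu
    obtain ⟨⟨a', b'⟩, hp', rfl⟩ := Finset.mem_image.mp hv
    exact Finset.mem_image.mpr ⟨(a + a', b + b'), Finset.mem_product.mpr
      ⟨hU0.add (Finset.mem_product.mp hp).1 (Finset.mem_product.mp hp').1,
        (S.img_sub hyz).add (Finset.mem_product.mp hp).2 (Finset.mem_product.mp hp').2⟩, add_add_add_comm a a' b b'⟩
  have hSiso : S.Isotropic Ssum := by
    intro u hu v hv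
    obtain ⟨⟨a, b⟩, hp, rfl⟩ := Finset.mem_image.mp hu
    obtain ⟨⟨a', b'⟩, hp', rfl⟩ := Finset.mem_image.mp hv
    obtain ⟨ha, hb⟩ := Finset.mem_product.mp hp
    obtain ⟨ha', hb'⟩ := Finset.mem_product.mp hp'
    have e1 : S.B a a' = 0 := by
      obtain ⟨x, hx, rfl⟩ := hmU.mp ha
      obtain ⟨x', hx', rfl⟩ := hmU.mp ha'
      exact (S.sq_mul_sq (hWQ x hx) (hWQ x' hx')).mpr (hab x hx x' hx')
    rw [S.B_add, S.B_add_right, S.B_add_right, e1, hperp a (hU0fix a ha) b' hb', S.B_comm b a',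
      hperp a' (hU0fix a' ha') b hb, hperp b (hIfix b hb) b' hb']
    decide
  have hcount : U0.card * I.card ≤ (U0 ∩ I).card * 16 := by
    rw [← Finset.card_product]
    refine le_trans (Finset.card_le_mul_card_image (f := fun p : V × V => p.1 + p.2) (U0 ×ˢ I) (U0 ∩ I).card
      fun s hs => ?_) (Nat.mul_le_mul_left _ (S.isotropic_card hSsub hSiso))
    obtain ⟨⟨a, b⟩, hp, rfl⟩ := Finset.mem_image.mp hs
    obtain ⟨ha, hb⟩ := Finset.mem_product.mp hp
    refine Finset.card_le_card_of_injOn (fun p : V × V => a + p.1) ?_ ?_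
    · rintro ⟨a', b'⟩ hm
      obtain ⟨hm', e⟩ := Finset.mem_filter.mp (Finset.mem_coe.mp hm)
      obtain ⟨ha', hb'⟩ := Finset.mem_product.mp hm'
      simp only at e ⊢
      refine Finset.mem_coe.mpr (Finset.mem_inter.mpr ⟨hU0.add ha ha', ?_⟩)
      have : a + a' = b + b' := by
        rw [← v_add_eq_zero, show a + a' + (b + b') = (a' + b') + (a + b) by abel, e, v_add_self]
      rw [this]
      exact (S.img_sub hyz).add hb hb'
    · rintro ⟨a', b'⟩ hm ⟨a'', b''⟩ hm' e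
      obtain ⟨-, e1⟩ := Finset.mem_filter.mp (Finset.mem_coe.mp hm)
      obtain ⟨-, e2⟩ := Finset.mem_filter.mp (Finset.mem_coe.mp hm')
      simp only at e e1 e2
      have haa : a' = a'' := add_left_cancel e
      subst haa
      rw [← e2] at e1
      rw [add_left_cancel e1]
  have hUI : IsSub (U0 ∩ I) :=
    ⟨Finset.mem_inter.mpr ⟨hU0.zero, (S.img_sub hyz).zero⟩, fun hu hv => Finset.mem_inter.mpr
      ⟨hU0.add (Finset.mem_inter.mp hu).1 (Finset.mem_inter.mp hv).1,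
        (S.img_sub hyz).add (Finset.mem_inter.mp hu).2 (Finset.mem_inter.mp hv).2⟩⟩
  set J := S.pre (U0 ∩ I) hUI with hJ
  have hJ8 : 8 ≤ Nat.card J := by
    rw [hJ, S.card_pre]
    have h1 := S.card_fix_le hyz
    have h2 := S.card_fix_mul_img hyz
    nlinarith
  have hJW : ∀ a ∈ J, a ∈ W0 := by
    intro a ha
    obtain ⟨haQ, hav⟩ := S.mem_pre.mp ha
    obtain ⟨b, hb, e⟩ := hmU.mp (Finset.mem_inter.mp hav).1
    rcases (S.ψ_eq_iff (hWQ b hb) haQ).mp e with e1 | e1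
    · rw [e1]; exact hb
    · rw [e1]
      exact mul_mem (hmem0.mpr ⟨hzc, (S.h.commute_z (S.mem_cq.mp hi).1).symm⟩) hb
  -- an element of `J` even on the three letters is `1` or `z`
  have heven : ∀ a ∈ J, chi (S.μ g a) = 1 → a = 1 ∨ a = z := by
    intro a ha hca
    by_cases h1 : a = 1
    · exact Or.inl h1
    right
    obtain ⟨haW, hai⟩ := hmem0.mp (hJW a ha)
    obtain ⟨v, hv⟩ := S.mem_img.mp (Finset.mem_inter.mp (S.mem_pre.mp ha).2).2
    have hm := S.cm_mem hyz hw2 (S.sec_mem v)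
    have e : S.ψ (cm w (S.sec v)) = S.ψ a := by rw [S.ψ_cm hyz hw2 (S.sec_mem v), S.ψ_sec, hv]
    obtain ⟨q, hq, hqa⟩ : ∃ q ∈ Q, cm w q = a := by
      rcases (S.ψ_eq_iff hm (S.mem_pre.mp ha).1).mp e with e1 | e1
      · exact ⟨_, S.sec_mem v, e1.symm⟩
      · refine ⟨q0 * S.sec v, mul_mem hq0 (S.sec_mem v), ?_⟩
        rw [cm_mul hw2, e0, mul_assoc (S.sec v)⁻¹, ← (S.commute_of_mem (S.sec_mem v)).eq, inv_mul_cancel_left,
          e1]
        exact S.h.commute_z hm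
    have hy : IsConj z (g⁻¹ * (w * a) * g) := by
      rw [← hqa, ← conj_eq_cm hw2 q]
      exact isConj_iff.mpr ⟨g⁻¹ * q⁻¹ * g, by rw [hwdef]; group⟩
    have eq' : g⁻¹ * (w * a) * g = z * (g⁻¹ * a * g) := by rw [hwdef]; group
    have hcr := S.back_commute (hcw haW)
    have hyc : Commute (g⁻¹ * (w * a) * g) z := by rw [eq']; exact (Commute.refl z).mul_left hcr
    have hπy : S.π (g⁻¹ * (w * a) * g) = S.μ g a := by
      rw [eq', S.π_mul _ _ (Commute.refl z) hcr, S.π_of_mem S.h.z_mem, one_mul]; rfl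
    have hyQ' : g⁻¹ * (w * a) * g ∉ Q := fun hm' => by
      have ez := hin _ hy hm'
      rw [eq', mul_eq_left] at ez
      apply h1
      calc a = g * (g⁻¹ * a * g) * g⁻¹ := by group
        _ = 1 := by rw [ez, mul_one, mul_inv_cancel]
    have hs := S.caseB_snd_even hB hy hyc (hπy ▸ hca)
    rw [hπy] at hs
    have ha2 : a * a = 1 := by
      have : (w * a) * (w * a) = 1 := by
        rw [← hqa, ← conj_eq_cm hw2 q]
        calc q⁻¹ * w * q * (q⁻¹ * w * q) = q⁻¹ * (w * w) * q := by group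
          _ = 1 := by rw [hw2, mul_one, inv_mul_cancel]
      rwa [mul_assoc, ← mul_assoc a, (hcw haW).eq, mul_assoc w a, ← mul_assoc, hw2, one_mul] at this
    have hsq : S.μ g a * S.μ g a = 1 := by rw [← S.μ_mul (hcw haW) (hcw haW), ha2, hμ1]
    have f1 : (S.μ g a).1 = 1 := p3_even_inv _ (congrArg Prod.fst hsq) hca
    have cc : γ * S.μ g a = S.μ g a * γ := by
      rw [hγ, ← S.μ_mul (hcw hi) (hcw haW), ← S.μ_mul (hcw haW) (hcw hi), hai.eq]
    have hne : S.μ g a ≠ 1 := fun e1 => hyQ' ((S.π_eq_one _ hyc).mp (hπy.trans e1))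
    have f2 : (S.μ g a).2 = γ.2 * γ.2 :=
      (evenc_of_four hγ22 hγ24 (congrArg Prod.snd cc) (congrArg Prod.snd hsq) hs).resolve_left
        fun e2 => hne (Prod.ext f1 e2)
    have hμa : S.μ g a = S.μ g z := by
      rw [← hγ2]; exact Prod.ext (f1.trans hγ1.symm) f2
    -- so `z * a` centralizes everything modulo `Q`
    by_contra hnz
    have hza : z * a ∈ J := mul_mem (S.mem_pre.mpr ⟨S.h.z_mem, by rw [S.ψ_z]; exact hUI.zero⟩) ha
    obtain ⟨hzaW, -⟩ := hmem0.mp (hJW _ hza)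
    have hμza : S.μ g (z * a) = 1 := by
      rw [S.μ_mul hyz.symm (hcw haW), hμa, ← S.μ_mul hyz.symm hyz.symm, S.h.mul_self_z, hμ1]
    obtain ⟨v', hv'⟩ := S.mem_img.mp (Finset.mem_inter.mp (S.mem_pre.mp hza).2).2
    have hm' := S.cm_mem hyz hw2 (S.sec_mem v')
    have e' : S.ψ (cm w (S.sec v')) = S.ψ (z * a) := by rw [S.ψ_cm hyz hw2 (S.sec_mem v'), S.ψ_sec, hv']
    obtain ⟨q', hq', hqa'⟩ : ∃ q ∈ Q, cm w q = z * a := by
      rcases (S.ψ_eq_iff hm' (S.mem_pre.mp hza).1).mp e' with e1 | e1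
      · exact ⟨_, S.sec_mem v', e1.symm⟩
      · refine ⟨q0 * S.sec v', mul_mem hq0 (S.sec_mem v'), ?_⟩
        rw [cm_mul hw2, e0, mul_assoc (S.sec v')⁻¹, ← (S.commute_of_mem (S.sec_mem v')).eq, inv_mul_cancel_left,
          e1]
        exact S.h.commute_z hm'
    have hy' : IsConj z (g⁻¹ * (w * (z * a)) * g) := by
      rw [← hqa', ← conj_eq_cm hw2 q']
      exact isConj_iff.mpr ⟨g⁻¹ * q'⁻¹ * g, by rw [hwdef]; group⟩
    have eq'' : g⁻¹ * (w * (z * a)) * g = z * (g⁻¹ * (z * a) * g) := by rw [hwdef]; group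
    have hcr' := S.back_commute (hcw hzaW)
    have hmQ : g⁻¹ * (z * a) * g ∈ Q := (S.π_eq_one _ hcr').mp hμza
    have ez := hin _ hy' (eq'' ▸ mul_mem S.h.z_mem hmQ)
    rw [eq'', mul_eq_left] at ez
    apply hnz
    have hza1 : z * a = 1 := by
      calc z * a = g * (g⁻¹ * (z * a) * g) * g⁻¹ := by group
        _ = 1 := by rw [ez, mul_one, mul_inv_cancel]
    rw [eq_inv_of_mul_eq_one_right hza1, S.h.inv_z]
  -- so `J` is small
  let K : Subgroup G := Subgroup.zpowers z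
  have hJK : Nat.card J ≤ 2 * Nat.card K := by
    have hle : K ≤ J := Subgroup.zpowers_le.mpr (S.mem_pre.mpr ⟨S.h.z_mem, by rw [S.ψ_z]; exact hUI.zero⟩)
    refine card_le_two_mul hle fun a ha b hb => ?_
    have hzmem : ∀ a ∈ J, chi (S.μ g a) = 1 → a ∈ K := fun a ha h => by
      rcases heven a ha h with e | e <;> rw [e]
      exacts [one_mem _, Subgroup.mem_zpowers z]
    rcases Int.units_eq_one_or (chi (S.μ g a)) with e | e
    · exact Or.inl (hzmem a ha e)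
    rcases Int.units_eq_one_or (chi (S.μ g b)) with e' | e'
    · exact Or.inr (Or.inl (hzmem b hb e'))
    refine Or.inr (Or.inr (hzmem _ (mul_mem (inv_mem ha) hb) ?_))
    have haw := hcw (hmem0.mp (hJW a ha)).1
    have hbw := hcw (hmem0.mp (hJW b hb)).1
    have hinv : chi (S.μ g a⁻¹) = -1 := by
      have h := congrArg chi (S.μ_mul haw.inv_left haw)
      rw [inv_mul_cancel, hμ1, chi_mul, e] at h
      have h1 : chi (1 : P36) = 1 := map_one _
      rw [h1] at h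
      calc chi (S.μ g a⁻¹) = chi (S.μ g a⁻¹) * -1 * -1 := by rw [mul_assoc, Int.units_mul_self, mul_one]
        _ = -1 := by rw [← h, one_mul]
    rw [S.μ_mul haw.inv_left hbw, chi_mul, hinv, e']
    decide
  have hK : Nat.card K = 2 := by rw [Nat.card_zpowers, S.h.hz]
  omega

end Setting

end CfsgLib.S3A6
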