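import Cfsg.Agent.Lib.Invol.S3A6.Pair
import Cfsg.Agent.Lib.Invol.S3A6.PlaneSign

/-!
Owner: helper13. The case of one moved plane: no conjugate of `z` other than `z` lies in `Q`.
-/

set_option autoImplicit false
set_option linter.unusedSectionVars false

namespace CfsgLib.S3A6

open Cfsg CfsgLib.ThreeTrans Equiv

theorem t3_conj : ∀ a : P3, a * t3 * a⁻¹ = t3 ∨ a * t3 * a⁻¹ = t3 * t3 := by decide +kernel

theorem sum_three_cases : ∀ a b : ZMod 2, a + (a + b) = b := by decide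

namespace Setting

variable {G : Type*} [Group G] [Finite G] {z : G} {Q : Subgroup G} (S : Setting z Q)
include S

theorem ρ_T {γ : P36} (hγ : S.R γ) :
    (∀ v, S.ρ γ (S.T v) = S.T (S.ρ γ v)) ∨ ∀ v, S.ρ γ (S.T v) = S.T (S.T (S.ρ γ v)) := by
  have hth : S.R th := S.R_th
  have key : ∀ v, S.ρ γ (S.T v) = S.ρ (γ * th * γ⁻¹) (S.ρ γ v) := by
    intro v
    rw [T, ← S.ρ_mul hγ hth, ← S.ρ_mul (S.R_mul (S.R_mul hγ hth) (S.R_inv hγ)) hγ, inv_mul_cancel_right]
  have e : γ * th * γ⁻¹ = (γ.1 * t3 * γ.1⁻¹, 1) := by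
    ext1 <;> simp [th]
  rcases t3_conj γ.1 with h | h
  · refine Or.inl fun v => ?_
    rw [key, e, h]
    rfl
  · refine Or.inr fun v => ?_
    rw [key, e, h]
    show S.ρ (t3 * t3, 1) _ = _
    rw [show ((t3 * t3, 1) : P36) = th * th by simp [th], S.ρ_mul hth hth]
    rfl

theorem ρ_e1 {γ : P36} (hγ : S.R γ) (v : V) : S.ρ γ (S.e1 v) = S.e1 (S.ρ γ v) := by
  rcases S.ρ_T hγ with h | h
  · rw [e1, S.ρ_add hγ, h, h, h]; rfl
  · rw [e1, S.ρ_add hγ, h, h, h, S.T_cube, add_comm]; rfl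

theorem ρ_e0 {γ : P36} (hγ : S.R γ) (v : V) : S.ρ γ (S.e0 v) = S.e0 (S.ρ γ v) := by
  have h1 := congrArg (S.ρ γ) (S.e0_add_e1 v)
  rw [S.ρ_add hγ, S.ρ_e1 hγ] at h1
  have h2 := S.e0_add_e1 (S.ρ γ v)
  exact add_right_cancel (h1.trans h2.symm)

theorem e0_of_V0 {v : V} (hv : v ∈ S.V0) : S.e0 v = v := by
  rw [S.mem_V0] at hv
  rw [e0, hv, hv, add_assoc, v_add_self, add_zero]

theorem e1_of_V0 {v : V} (hv : v ∈ S.V0) : S.e1 v = 0 := by
  rw [S.mem_V0] at hv
  rw [e1, hv, hv, v_add_self]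

theorem e0_of_V1 {v : V} (hv : v ∈ S.V1) : S.e0 v = 0 := S.mem_V1.mp hv

theorem e0_add (u v : V) : S.e0 (u + v) = S.e0 u + S.e0 v := by
  simp only [e0, S.T_add]; abel

theorem ρ_mem_V0 {γ : P36} (hγ : S.R γ) {v : V} (hv : v ∈ S.V0) : S.ρ γ v ∈ S.V0 := by
  rw [← S.e0_of_V0 hv, S.ρ_e0 hγ]
  exact S.e0_mem _

theorem ρ_mem_V1 {γ : P36} (hγ : S.R γ) {v : V} (hv : v ∈ S.V1) : S.ρ γ v ∈ S.V1 := by
  have h := S.ρ_e0 hγ v
  rw [S.e0_of_V1 hv, S.ρ_zero hγ] at h
  exact S.mem_V1.mpr h.symm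

/-- The transvection of an anisotropic vector. -/
noncomputable def tr (a y : V) : V := if S.B a y = 0 then y else y + a

theorem caseB_A_V1 (hB : S.CaseB) {b : P6} (hb : Perm.sign b = 1) {v : V} (hv : v ∈ S.V1) : S.A b v = v := by
  refine S.trivial_of_five (fun a ha u hu => S.A_mem_V1 ha hu) ?_ hb v hv
  exact Setting.Fpf.five_trivial S S.V1_fpf (by rw [CaseB] at hB; omega)
    (fun u hu => S.A_mem_V1 c5_facts.1 hu) (fun u _ w _ => S.A_add c5_facts.1 u w)
    (fun u _ => S.A_q c5_facts.1 u) (fun u _ => (S.A_T c5_facts.1 u).symm) (fun u _ => S.A_five u)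

theorem caseB_card_V0 (hB : S.CaseB) : S.V0.card = 64 := by
  have h := S.card_V0_mul_V1
  rw [CaseB] at hB
  rw [hB] at h
  omega

theorem pt_e1_ne {g : G} (hg : S.Carries g) : S.e1 (S.pt g) ≠ 0 := fun e => by
  refine S.th_moves hg (S.mem_V0.mp ?_)
  have h := S.e0_add_e1 (S.pt g)
  rw [e, add_zero] at h
  rw [← h]
  exact S.e0_mem _

theorem caseB_exists_siegel {g : G} (hB : S.CaseB) (hg : S.Carries g) :
    ∃ γ ∈ S.AP g, γ ≠ 1 ∧ ∀ v, S.B (S.pt g) v = 0 → S.ρ γ v + v = 0 ∨ S.ρ γ v + v = S.pt g := by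
  set x := g * z * g⁻¹ with hx
  obtain ⟨g', hg', e'⟩ := S.exists_pt (S.phi_of (S.conj_isConj g) hg.1 hg.2)
  have h1 : S.e1 (S.ψ x) ≠ 0 := by rw [← e']; exact S.pt_e1_ne hg'
  set i := S.sec (S.e1 (S.ψ x)) with hi
  have hiQ : i ∈ Q := S.sec_mem _
  have hψi : S.ψ i = S.e1 (S.ψ x) := S.ψ_sec _
  have hix : Commute i x := by
    refine (S.sq_mul_sq hiQ hg.1).mp ?_
    rw [hψi]
    calc S.B (S.e1 (S.ψ x)) (S.ψ x) = S.B (S.e1 (S.ψ x)) (S.e0 (S.ψ x) + S.e1 (S.ψ x)) := by rw [S.e0_add_e1]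
      _ = 0 := by rw [S.B_add_right, S.B_comm, S.B_V0_V1 (S.e0_mem _) (S.e1_mem _), S.B_self, add_zero]
  have hia : i ∈ S.cq x := S.mem_cq.mpr ⟨hiQ, hix⟩
  refine ⟨S.μ g i, S.mem_AP.mpr ⟨i, hia, rfl⟩, ?_, ?_⟩
  · intro e
    have hm := (S.π_eq_one _ (S.back_commute hix)).mp e
    have h2 := S.inf_sq hg hm (by rw [show g * (g⁻¹ * i * g) * g⁻¹ = i by group]; exact hiQ)
    have h3 : i * i = 1 := by
      calc i * i = g * ((g⁻¹ * i * g) * (g⁻¹ * i * g)) * g⁻¹ := by group
        _ = 1 := by rw [h2, mul_one, mul_inv_cancel]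
    rw [S.sq_one_iff hiQ, hψi, S.caseB_q hB (S.e1_mem _) h1] at h3
    exact one_ne_zero h3
  intro v hv
  obtain ⟨b, hb, rfl⟩ := S.ψ_surj v
  have hbu : Commute (g⁻¹ * z * g) b := (S.sq_mul_sq (S.carries_back hg).1 hb).mp hv
  have hb' : Commute (g * b * g⁻¹) z := by
    show g * b * g⁻¹ * z = z * (g * b * g⁻¹)
    calc g * b * g⁻¹ * z = g * (b * (g⁻¹ * z * g)) * g⁻¹ := by group
      _ = z * (g * b * g⁻¹) := by rw [← hbu.eq]; group
  have hbx : Commute (g * b * g⁻¹) x := LargeData.commute_conj_iff'.mpr (S.commute_of_mem hb)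
  have hfix : S.act (g * b * g⁻¹) (S.ψ i) = S.ψ i := by
    rw [hψi, ← S.ρ_π hb', S.ρ_e1 (S.R_π hb'), S.ρ_π hb', ← S.ψ_conj _ hb' x hg.1, hbx.eq, mul_inv_cancel_right]
  rw [← S.ψ_conj _ hb' i hiQ, eq_comm, S.ψ_eq_iff hiQ (S.h.conj_mem hb' hiQ)] at hfix
  have hc := S.back_commute hix
  have hm := S.h.conj_mem hc hb
  rw [μ, S.ρ_π hc, ← S.ψ_conj _ hc b hb]
  rcases hfix with e | e
  · refine Or.inl ?_
    have he : g⁻¹ * i * g * b * (g⁻¹ * i * g)⁻¹ = b := by
      calc g⁻¹ * i * g * b * (g⁻¹ * i * g)⁻¹ = g⁻¹ * (i * (g * b * g⁻¹) * i⁻¹) * g := by group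
        _ = g⁻¹ * (g * b * g⁻¹ * i * (g * b * g⁻¹)⁻¹ * (g * b * g⁻¹) * i⁻¹) * g := by rw [e]
        _ = b := by group
    rw [he, v_add_self]
  · refine Or.inr ?_
    have he : g⁻¹ * i * g * b * (g⁻¹ * i * g)⁻¹ = g⁻¹ * z * g * b := by
      have e2 : i * (g * b * g⁻¹) * i⁻¹ = z * (g * b * g⁻¹) := by
        have e3 : g * b * g⁻¹ * i = z * i * (g * b * g⁻¹) := mul_inv_eq_iff_eq_mul.mp e
        have e4 : i * (g * b * g⁻¹) = z * (g * b * g⁻¹) * i := by
          rw [mul_assoc z _ i, e3, ← mul_assoc z (z * i), ← mul_assoc z z, S.h.mul_self_z, one_mul]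
        exact mul_inv_eq_iff_eq_mul.mpr e4
      calc g⁻¹ * i * g * b * (g⁻¹ * i * g)⁻¹ = g⁻¹ * (i * (g * b * g⁻¹) * i⁻¹) * g := by group
        _ = g⁻¹ * z * g * b := by rw [e2]; group
    rw [he, S.ψ_mul _ (S.carries_back hg).1 _ hb, add_assoc, v_add_self, add_zero]
    rfl

/-- An involution acting trivially modulo a singular vector on its orthogonal is a pair of transvections. -/
theorem siegel (hB : S.CaseB) {γ : P36} (hγ : S.R γ) (h2 : γ * γ = 1) (hne : γ ≠ 1) {w : V}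
    (hw : S.q w = 0) (hw1 : S.e1 w ≠ 0) (htriv : ∀ v, S.B w v = 0 → S.ρ γ v + v = 0 ∨ S.ρ γ v + v = w) :
    chi γ ≠ 1 ∧ S.q (S.e0 w) = 1 ∧ (∀ y ∈ S.V0, S.ρ γ y = S.tr (S.e0 w) y) ∧
      ∀ y ∈ S.V1, S.B (S.e1 w) y = 1 → S.ρ γ y + y = S.e1 w := by
  set a := S.e0 w with ha
  set b := S.e1 w with hb
  have haV := S.e0_mem w
  have hbV := S.e1_mem w
  have hqb : S.q b = 1 := S.caseB_q hB hbV hw1
  have hqa : S.q a = 1 := by
    have h := S.q_add a b
    rw [S.e0_add_e1 w, hw, hqb, S.B_V0_V1 haV hbV, add_zero] at h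
    revert h
    generalize S.q a = p
    revert p
    decide
  have hw0 : w ∉ S.V0 := fun h => hw1 (S.e1_of_V0 h)
  have hwV1 : w ∉ S.V1 := fun h => by
    have : a = 0 := S.e0_of_V1 h
    rw [this, S.q_zero] at hqa
    exact zero_ne_one hqa
  have hBw : ∀ u ∈ S.V0, S.B w u = S.B a u := fun u hu => by
    rw [← S.e0_add_e1 w, S.B_add, ← hb, S.B_comm b, S.B_V0_V1 hu hbV, add_zero]
  have hBw1 : ∀ u ∈ S.V1, S.B w u = S.B b u := fun u hu => by
    rw [← S.e0_add_e1 w, S.B_add, S.B_V0_V1 (S.e0_mem w) hu, zero_add]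
  have fix0 : ∀ y ∈ S.V0, S.B a y = 0 → S.ρ γ y = y := fun y hy h0 => by
    rcases htriv y ((hBw y hy).trans h0) with e | e
    · exact v_add_eq_zero.mp e
    · exact absurd (e ▸ S.V0_sub.add (S.ρ_mem_V0 hγ hy) hy) hw0
  have fix1 : ∀ y ∈ S.V1, S.B b y = 0 → S.ρ γ y = y := fun y hy h0 => by
    rcases htriv y ((hBw1 y hy).trans h0) with e | e
    · exact v_add_eq_zero.mp e
    · exact absurd (e ▸ S.V1_sub.add (S.ρ_mem_V1 hγ hy) hy) hwV1
  have key : ∀ y0 ∈ S.V0, ∀ y1 ∈ S.V1, S.B a y0 = 1 → S.B b y1 = 1 →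
      S.ρ γ y0 + y0 = a ∧ S.ρ γ y1 + y1 = b := by
    intro y0 h0 y1 h1 e0' e1'
    have hperp : S.B w (y0 + y1) = 0 := by
      rw [S.B_add_right, hBw y0 h0, hBw1 y1 h1, e0', e1']; decide
    have hd0 := S.V0_sub.add (S.ρ_mem_V0 hγ h0) h0
    have hd1 := S.V1_sub.add (S.ρ_mem_V1 hγ h1) h1
    have hsum : S.ρ γ (y0 + y1) + (y0 + y1) = (S.ρ γ y0 + y0) + (S.ρ γ y1 + y1) := by
      rw [S.ρ_add hγ]; abel
    rcases htriv _ hperp with e | e
    · exfalso
      rw [hsum, v_add_eq_zero] at e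
      have z0 := S.V0_V1_zero hd0 (e ▸ hd1)
      rw [z0, eq_comm] at e
      refine hne (S.ρ_faithful hγ fun v => ?_)
      have f0 : ∀ y ∈ S.V0, S.ρ γ y = y := fun y hy => by
        rcases two_cases (S.B a y) with c | c
        · exact fix0 y hy c
        · have h := fix0 (y + y0) (S.V0_sub.add hy h0) (by rw [S.B_add_right, c, e0']; decide)
          rw [S.ρ_add hγ, v_add_eq_zero.mp z0] at h
          exact add_right_cancel h
      have f1 : ∀ y ∈ S.V1, S.ρ γ y = y := fun y hy => by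
        rcases two_cases (S.B b y) with c | c
        · exact fix1 y hy c
        · have h := fix1 (y + y1) (S.V1_sub.add hy h1) (by rw [S.B_add_right, c, e1']; decide)
          rw [S.ρ_add hγ, v_add_eq_zero.mp e] at h
          exact add_right_cancel h
      rw [← S.e0_add_e1 v, S.ρ_add hγ, f0 _ (S.e0_mem v), f1 _ (S.e1_mem v)]
    · rw [hsum] at e
      have h' := congrArg S.e0 e
      rw [S.e0_add, S.e0_of_V0 hd0, S.e0_of_V1 hd1, add_zero] at h'
      refine ⟨h', ?_⟩
      rw [h', ← ha, ← S.e0_add_e1 w] at e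
      exact add_left_cancel e
  obtain ⟨y0, hy0, hy0'⟩ : ∃ y ∈ S.V0, S.B a y = 1 := by
    by_contra hcon
    push Not at hcon
    have := S.V0_nondeg a haV fun y hy => (two_cases _).resolve_right (hcon y hy)
    rw [this, S.q_zero] at hqa
    exact zero_ne_one hqa
  have hy1 : S.T b ∈ S.V1 := S.V1_fpf.map b hbV
  have hy1' : S.B b (S.T b) = 1 := (S.V1_fpf.B_pair hbV).trans hqb
  refine ⟨fun hchi => ?_, hqa, fun y hy => ?_, fun y hy h => (key y0 hy0 y hy hy0' h).2⟩
  · have h1 : γ.1 = 1 := p3_even_inv _ (congrArg Prod.fst h2) hchi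
    have e : γ = (1, γ.2) := Prod.ext h1 rfl
    have hf := S.caseB_fix hB (e ▸ hγ) (congrArg Prod.snd h2) hy1
    rw [← e] at hf
    have h := (key y0 hy0 _ hy1 hy0' hy1').2
    rw [hf, v_add_self] at h
    exact hw1 h.symm
  · rw [tr]
    rcases two_cases (S.B a y) with c | c
    · rw [if_pos c]; exact fix0 y hy c
    · rw [if_neg (by rw [c]; exact one_ne_zero)]
      have h := (key y hy _ hy1 c hy1').1
      rw [← h, add_comm (S.ρ γ y) y, v_cancel]

theorem tr_tr {a b : V} (y : V) :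
    S.tr a (S.tr b y) = y + (if S.B b y = 0 then 0 else b) +
      (if S.B a y + (if S.B b y = 0 then 0 else S.B a b) = 0 then 0 else a) := by
  simp only [tr]
  rcases two_cases (S.B b y) with c | c
  · simp [c]; split_ifs <;> simp
  · simp only [c, one_ne_zero, if_false, S.B_add_right]
    split_ifs <;> simp

/-- Powers of a product of two transvections. -/
theorem tr_pow {a b : V} (ha : S.q a = 1) (hb : S.q b = 1) (y : V) :
    (S.B a b = 0 → S.tr a (S.tr b (S.tr a (S.tr b y))) = y) ∧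
      (S.B a b = 1 → S.tr a (S.tr b (S.tr a (S.tr b (S.tr a (S.tr b y))))) = y) := by
  have haa := S.B_self a
  have hbb := S.B_self b
  constructor <;> intro hab <;>
    have hba : S.B b a = _ := (S.B_comm b a).trans hab <;>
    rcases two_cases (S.B a y) with c | c <;> rcases two_cases (S.B b y) with d | d <;>
    simp [tr, S.B_add_right, c, d, hab, hba, haa, hbb, z2_add_self, v_add_self, v_cancel, add_assoc,
      add_left_comm, add_comm]

theorem caseB_not_fixed {g : G} (hg : S.Carries g)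
    (hfix : ∀ a, Perm.sign a = 1 → S.A a (S.pt g) = S.pt g) : False := by
  classical
  have h2 : ∀ δ ∈ S.AP g, δ.2 = 1 := by
    intro δ hδ
    by_contra hne
    obtain ⟨a, ha, hmov⟩ := exists_moved (congrArg Prod.snd (S.AP_sq hg hδ)) hne
    have hk := (S.stab hg (S.R_six ha) (hfix a ha)).1 δ hδ
    exact hmov (congrArg Prod.snd (S.AP_comm hg hδ hk))
  have h8 := S.AP_eight hg
  obtain ⟨δ, hδ, hδ1⟩ := (S.AP g).bot_or_exists_ne_one.resolve_left fun e => by
    rw [e, Subgroup.card_bot] at h8; omega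
  have hsub : ∀ η ∈ S.AP g, η = 1 ∨ η = δ := by
    intro η hη
    rcases p3_inv_comm η.1 δ.1 (congrArg Prod.fst (S.AP_sq hg hη)) (congrArg Prod.fst (S.AP_sq hg hδ))
      (congrArg Prod.fst (S.AP_comm hg hη hδ)) with e | e | e
    · exact Or.inl (Prod.ext e (h2 η hη))
    · exact absurd (Prod.ext e (h2 δ hδ)) hδ1
    · exact Or.inr (Prod.ext e ((h2 η hη).trans (h2 δ hδ).symm))
  have : Nat.card (S.AP g) ≤ 2 := by
    refine le_trans (Nat.card_le_card_of_injective (fun η : S.AP g => decide ((η : P36) = δ)) ?_)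
      (by rw [Nat.card_eq_fintype_card, Fintype.card_bool])
    intro η θ' e
    simp only [decide_eq_decide] at e
    rcases hsub η η.2 with a | a <;> rcases hsub θ' θ'.2 with b | b
    · exact Subtype.ext (a.trans b.symm)
    · exact Subtype.ext ((e.mpr b).trans b.symm)
    · exact Subtype.ext (a.trans (e.mp a).symm)
    · exact Subtype.ext (a.trans b.symm)
  omega

theorem no_singular_fixed (hB : S.CaseB) {i : V} (hi : i ∈ S.V0) (h0 : i ≠ 0) (hq : S.q i = 0)
    (hfix : ∀ a, Perm.sign a = 1 → S.A a i = i) : False := by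
  classical
  set F := S.A c5 with hF
  have hc := c5_facts.1
  have hFadd : ∀ u v, F (u + v) = F u + F v := S.A_add hc
  have hF0 : F 0 = 0 := S.ρ_zero (S.R_six hc)
  have h5 : ∀ v, F (F (F (F (F v)))) = v := S.A_five
  have hB' : ∀ u v, S.B (F u) (F v) = S.B u v := S.ρ_B (S.R_six hc)
  set Fx := S.V0.filter fun v => F v = v with hFx
  have hFxsub : IsSub Fx := S.V0_sub.filter F (fun u _ v _ => hFadd u v) hF0
  let pr : V → V := fun v => F v + F (F v) + F (F (F v)) + F (F (F (F v)))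
  let av : V → V := fun v => v + pr v
  have hav : ∀ v, F (av v) = av v := by
    intro v
    simp only [av, pr, hFadd, h5]
    abel
  have hpr_add : ∀ u v, pr (u + v) = pr u + pr v := fun u v => by simp only [pr, hFadd]; abel
  have hprFx : ∀ v, F v = v → pr v = 0 := fun v e => by
    simp only [pr, e]
    rw [v_add_self, zero_add, v_add_self]
  have hprV0 : ∀ v ∈ S.V0, pr v ∈ S.V0 := fun v hv => by
    have h1 := S.A_mem_V0 hc hv
    have h2 := S.A_mem_V0 hc h1
    have h3 := S.A_mem_V0 hc h2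
    exact S.V0_sub.add (S.V0_sub.add (S.V0_sub.add h1 h2) h3) (S.A_mem_V0 hc h3)
  have havFx : ∀ v ∈ S.V0, av v ∈ Fx := fun v hv =>
    Finset.mem_filter.mpr ⟨S.V0_sub.add hv (hprV0 v hv), hav v⟩
  have hFxcard : Fx.card = 4 := by
    obtain ⟨k, hk, e⟩ := hFxsub.exists_card
    have h := card_fixed_mod S.V0 F (fun v hv => S.A_mem_V0 hc hv) (fun v _ => h5 v)
    have hlt : Fx.card < 64 := by
      rw [← S.caseB_card_V0 hB]
      refine Finset.card_lt_card (Finset.filter_ssubset.mpr ?_)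
      by_contra hcon
      push Not at hcon
      obtain ⟨v, hv⟩ := S.five_moves
      apply hv
      rw [← S.e0_add_e1 v, S.A_add hc, S.caseB_A_V1 hB hc (S.e1_mem v)]
      exact congrArg (· + S.e1 v) (hcon _ (S.e0_mem v))
    rw [S.caseB_card_V0 hB, ← hFx, e] at h
    rw [e] at hlt ⊢
    interval_cases k <;> simp_all
  set W := S.V0.filter fun v => pr v = v with hW
  have hWsub : IsSub W := S.V0_sub.filter pr (fun u _ v _ => hpr_add u v) (hprFx 0 hF0)
  have hprW : ∀ v ∈ S.V0, pr v ∈ W := by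
    intro v hv
    refine Finset.mem_filter.mpr ⟨hprV0 v hv, ?_⟩
    have h := hprFx _ (hav v)
    rw [hpr_add, v_add_eq_zero] at h
    exact h.symm
  have hWFx : ∀ v ∈ W, v ∈ Fx → v = 0 := fun v hv hv' => by
    rw [← (Finset.mem_filter.mp hv).2, hprFx v (Finset.mem_filter.mp hv').2]
  have hperp : ∀ v, ∀ f, F f = f → S.B f (pr v) = 0 := by
    intro v f hf
    have h1 : S.B f (F v) = S.B f v := by
      calc S.B f (F v) = S.B (F f) (F v) := by rw [hf]
        _ = S.B f v := hB' f v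
    have h2 : ∀ u, S.B f u = S.B f v → S.B f (F u) = S.B f v := fun u hu => by
      calc S.B f (F u) = S.B (F f) (F u) := by rw [hf]
        _ = S.B f v := (hB' f u).trans hu
    simp only [pr, S.B_add_right, h1, h2 _ h1, h2 _ (h2 _ h1), h2 _ (h2 _ (h2 _ h1))]
    generalize S.B f v = p
    revert p
    decide
  have hWperp : ∀ w ∈ W, ∀ f ∈ Fx, S.B f w = 0 := fun w hw f hf => by
    rw [← (Finset.mem_filter.mp hw).2]; exact hperp w f (Finset.mem_filter.mp hf).2
  have hsplit : ∀ v, v = av v + pr v := fun v => by simp only [av]; rw [add_assoc, v_add_self, add_zero]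
  have hWcard : W.card = 16 := by
    have himg : (Fx ×ˢ W).image (fun p : V × V => p.1 + p.2) = S.V0 := by
      ext v
      constructor
      · intro hv
        obtain ⟨⟨f, w⟩, hp, rfl⟩ := Finset.mem_image.mp hv
        exact S.V0_sub.add (Finset.mem_filter.mp (Finset.mem_product.mp hp).1).1
          (Finset.mem_filter.mp (Finset.mem_product.mp hp).2).1
      · exact fun hv => Finset.mem_image.mpr ⟨(av v, pr v), Finset.mem_product.mpr ⟨havFx v hv, hprW v hv⟩,
          (hsplit v).symm⟩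
    have hinj : Set.InjOn (fun p : V × V => p.1 + p.2) ↑(Fx ×ˢ W) := by
      rintro ⟨f, w⟩ hp ⟨f', w'⟩ hp' e
      simp only [Finset.coe_product, Set.mem_prod, Finset.mem_coe] at hp hp'
      simp only at e
      have hfw : f + f' = w + w' := by
        rw [← v_add_eq_zero, show f + f' + (w + w') = (f + w) + (f' + w') by abel, e, v_add_self]
      have h1 := hWFx _ (hWsub.add hp.2 hp'.2) (hfw ▸ hFxsub.add hp.1 hp'.1)
      rw [h1, v_add_eq_zero] at hfw
      rw [v_add_eq_zero] at h1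
      exact Prod.ext hfw h1
    have h := Finset.card_image_of_injOn hinj
    rw [himg, S.caseB_card_V0 hB, Finset.card_product, hFxcard] at h
    omega
  have hWn : S.Nondeg W := by
    intro w hw hall
    refine S.V0_nondeg w (Finset.mem_filter.mp hw).1 fun v hv => ?_
    rw [hsplit v, S.B_add_right, S.B_comm, hWperp w hw _ (havFx v hv), hall _ (hprW v hv), add_zero]
  have hiFx : i ∈ Fx := Finset.mem_filter.mpr ⟨hi, hfix c5 hc⟩
  have hfi : ∀ f ∈ Fx, S.B i f = 0 → f = 0 ∨ f = i := by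
    intro f hf e
    by_contra hcon
    push Not at hcon
    obtain ⟨hf0, hfi'⟩ := hcon
    have hset : Fx = {0, i, f, i + f} := by
      refine (Finset.eq_of_subset_of_card_le ?_ ?_).symm
      · intro y hy
        simp only [Finset.mem_insert, Finset.mem_singleton] at hy
        rcases hy with rfl | rfl | rfl | rfl
        exacts [hFxsub.zero, hiFx, hf, hFxsub.add hiFx hf]
      · rw [hFxcard, Finset.card_insert_of_notMem, Finset.card_insert_of_notMem, Finset.card_pair]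
        · exact fun h => h0 (add_eq_right.mp h.symm)
        · simp only [Finset.mem_insert, Finset.mem_singleton, not_or]
          exact ⟨Ne.symm hfi', fun h => hf0 (add_eq_left.mp h.symm)⟩
        · simp only [Finset.mem_insert, Finset.mem_singleton, not_or]
          exact ⟨h0.symm, hf0.symm, fun h => hfi' (v_add_eq_zero.mp h.symm).symm⟩
    refine h0 (S.V0_nondeg i hi fun v hv => ?_)
    have hy := havFx v hv
    rw [hset] at hy
    simp only [Finset.mem_insert, Finset.mem_singleton] at hy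
    rw [hsplit v, S.B_add_right, hWperp _ (hprW v hv) i hiFx, add_zero]
    rcases hy with c | c | c | c <;> rw [c]
    · rw [S.B_comm, S.B_zero]
    · exact S.B_self i
    · exact e
    · rw [S.B_add_right, S.B_self, e, add_zero]
  -- the action on the complement
  have hdec : ∀ a, Perm.sign a = 1 → ∀ w ∈ W, S.A a w = pr (S.A a w) ∨ S.A a w = pr (S.A a w) + i := by
    intro a ha w hw
    have hm := S.A_mem_V0 ha (Finset.mem_filter.mp hw).1
    have hBi : S.B i (av (S.A a w)) = 0 := by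
      have h1 : S.B i (S.A a w) = 0 := by
        calc S.B i (S.A a w) = S.B (S.A a i) (S.A a w) := by rw [hfix a ha]
          _ = S.B i w := S.ρ_B (S.R_six ha) i w
          _ = 0 := hWperp w hw i hiFx
      simp only [av]
      rw [S.B_add_right, h1, hperp _ i (hfix c5 hc), add_zero]
    rcases hfi _ (havFx _ hm) hBi with e | e
    · exact Or.inl (v_add_eq_zero.mp e)
    · right
      conv_lhs => rw [hsplit (S.A a w), e]
      exact add_comm _ _
  have h4 := S.four_space hWsub hWcard hWn (fun a w => pr (S.A a w)) c5 c5_facts.2.1 hc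
    (fun a ha w hw => hprW _ (S.A_mem_V0 ha (Finset.mem_filter.mp hw).1))
    (fun a ha u _ v _ => by rw [S.A_add ha, hpr_add])
    (fun a b ha hb w hw => by
      show pr (S.A (a * b) w) = pr (S.A a (pr (S.A b w)))
      rw [S.A_mul ha hb]
      rcases hdec b hb w hw with e | e
      · rw [← e]
      · conv_lhs => rw [e, S.A_add ha, hfix a ha, hpr_add, hprFx i (hfix c5 hc), add_zero])
    (fun w hw => by
      show pr (S.A 1 w) = w
      rw [S.A_one]; exact (Finset.mem_filter.mp hw).2)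
    (fun a ha w hw => by
      show S.q (pr (S.A a w)) = S.q w
      rw [← S.A_q ha w]
      rcases hdec a ha w hw with e | e
      · rw [← e]
      · conv_rhs => rw [e, S.q_add, hq, add_zero, S.B_comm, hperp _ i (hfix c5 hc), add_zero])
  obtain ⟨w, hw, hw0⟩ := Finset.exists_mem_ne (s := W) (by omega) 0
  have e := h4 w hw
  have e1 : pr (F w) = F (pr w) := by simp only [pr, hFadd]
  rw [e1, (Finset.mem_filter.mp hw).2] at e
  exact hw0 (hWFx w hw (Finset.mem_filter.mpr ⟨(Finset.mem_filter.mp hw).1, e⟩))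

end Setting

end CfsgLib.S3A6
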