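import Cfsg.Agent.Lib.Invol.S3A6.Space
import Cfsg.Agent.Lib.Invol.S3A6.Parity

/-!
Owner: helper13. No vector of the long orbit carries a conjugate of `z`.
-/

set_option autoImplicit false
set_option linter.unusedSectionVars false
set_option maxRecDepth 100000

namespace CfsgLib.S3A6

open Cfsg CfsgLib.ThreeTrans Equiv Model

theorem check_L5_moves : ∀ k : Bool, L5r.all (fun r => (els k).any fun e => (List.finRange 3).any fun i =>
    lin (scalar i) (lin e.2 5) == r && L5.all fun c => L5.contains (lin (scalar i) (lin e.2 c))) = true := by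
  decide +kernel

theorem t3_moves : ∀ a : P3, a * a = 1 → t3 * a * t3⁻¹ * a * (t3 * a * t3⁻¹ * a) = 1 → a = 1 := by
  decide +kernel

namespace Setting

variable {G : Type*} [Group G] [Finite G] {z : G} {Q : Subgroup G} (S : Setting z Q)
include S

/-- The elements normalizing a preimage. -/
theorem conj_pre {U : Finset V} (hU : IsSub U) {c : G} (hc : Commute c z) (h : ∀ u ∈ U, S.act c u ∈ U)
    {a : G} (ha : a ∈ S.pre U hU) : c * a * c⁻¹ ∈ S.pre U hU := by
  obtain ⟨haQ, hau⟩ := S.mem_pre.mp ha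
  exact S.mem_pre.mpr ⟨S.h.conj_mem hc haQ, by rw [S.ψ_conj c hc a haQ]; exact h _ hau⟩

namespace Start

variable {S} {k : Bool} {v : V} (h : S.Start k v)
include h

theorem rk2_group {g : G} (hg : S.Carries g) (hpt : S.pt g = S.ev v 5) :
    (∀ e ∈ fixers k 5, ∃ b ∈ S.KE g, h.Agree b (lin e.2)) := by
  classical
  -- the first components are trivial
  have h0 := (check_five_fixers k).2
  simp only [List.any_eq_true, beq_iff_eq] at h0
  obtain ⟨e, he, hmove⟩ := h0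
  obtain ⟨σ, -, hσ⟩ := h.agree_table he
  have hR : S.R (t3, σ) := S.R_el hσ.1 1
  have hfix : S.ρ (t3, σ) (S.pt g) = S.pt g := by
    rw [hpt, show ((t3, σ) : P36) = (tw 1, σ) from rfl, h.ρ_el hσ 1 5,
      show scalar 1 = thM from rfl, hmove]
  have hfst : ∀ δ ∈ S.AP g, δ.1 = 1 := by
    intro δ hδ
    have hk : (t3, σ) * δ * (t3, σ)⁻¹ * δ ∈ S.AP g := mul_mem ((S.stab hg hR hfix).1 δ hδ) hδ
    exact t3_moves δ.1 (congrArg Prod.fst (S.AP_sq hg hδ)) (congrArg Prod.fst (S.AP_sq hg hk))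
  have h8 := S.AP_eight hg
  have hA := (S.AP_le_KP hg).2 hfst
  have hK := S.KP_le (g := g)
  have hsub : (S.KE g).image code ⊆ insert cone ((fixers k 5).map Prod.fst).toFinset := by
    intro c hc
    obtain ⟨b, hb, rfl⟩ := Finset.mem_image.mp hc
    by_cases h1 : b = 1
    · rw [h1, code_one]; exact Finset.mem_insert_self _ _
    obtain ⟨e, he, hc, -⟩ := h.KE_fixer hg (by norm_num) hpt hb h1
    exact Finset.mem_insert_of_mem (List.mem_toFinset.mpr (List.mem_map.mpr ⟨e, he, hc⟩))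
  have h4 : 4 ≤ ((S.KE g).image code).card := by
    rw [Finset.card_image_of_injective _ code_injective]
    omega
  have hle : (insert cone ((fixers k 5).map Prod.fst).toFinset).card ≤ 4 := by
    refine le_trans (Finset.card_insert_le _ _) ?_
    have := List.toFinset_card_le ((fixers k 5).map Prod.fst)
    rw [List.length_map, (check_five_fixers k).1] at this
    omega
  have heq := Finset.eq_of_subset_of_card_le hsub (le_trans hle h4)
  intro e he
  have hmem : e.1 ∈ (S.KE g).image code := by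
    rw [heq]
    exact Finset.mem_insert_of_mem (List.mem_toFinset.mpr (List.mem_map.mpr ⟨e, he, rfl⟩))
  obtain ⟨b, hb, hc⟩ := Finset.mem_image.mp hmem
  obtain ⟨τ, hτc, hτ⟩ := h.agree_table (List.mem_filter.mp he).1
  exact ⟨b, hb, code_injective (hτc.trans hc.symm) ▸ hτ⟩

theorem rk2_space {g : G} (hg : S.Carries g) (hpt : S.pt g = S.ev v 5) :
    (∀ c ∈ L5, c < 256 ∧ S.ev v c ∈ S.EP g) ∧ ∀ u ∈ S.EP g, ∃ c ∈ L5, S.ev v c = u := by
  have h0 := check_five_span k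
  simp only [List.all_eq_true, List.any_eq_true, beq_iff_eq] at h0
  exact h.EP_eq hg (by norm_num) hpt (h.rk2_group hg hpt) check_L5.1 (by decide) h0

theorem rk2_no_phi : ¬ S.Phi (S.ev v 5) := by
  classical
  intro hphi
  obtain ⟨g, hg, hpt⟩ := S.exists_pt hphi
  obtain ⟨hin, hout⟩ := h.rk2_space hg hpt
  set u := g⁻¹ * z * g with hu
  obtain ⟨huQ, huz⟩ := S.carries_back hg
  have hψu : S.ψ u = S.ev v 5 := hpt
  set E := S.pre (S.EP g) (S.EP_sub g) with hE
  have hmem : ∀ {a}, a ∈ E ↔ a ∈ Q ∧ S.ψ a ∈ S.EP g := fun {a} => S.mem_pre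
  have hEQ : ∀ {a}, a ∈ E → a ∈ Q := fun ha => (hmem.mp ha).1
  have hzE : z ∈ E := hmem.mpr ⟨S.h.z_mem, by rw [S.ψ_z]; exact (S.EP_sub g).zero⟩
  have huE : u ∈ E := hmem.mpr ⟨huQ, S.pt_mem_EP hg⟩
  have hzz := S.h.mul_self_z
  have hzmul : ∀ {a}, a ∈ E → z * a ∈ E := fun ha => mul_mem hzE ha
  have hcomm : ∀ a ∈ E, ∀ b ∈ E, a * b = b * a := fun a ha b hb =>
    (S.sq_mul_sq (hEQ ha) (hEQ hb)).mp (S.EP_isotropic hg _ (hmem.mp ha).2 _ (hmem.mp hb).2)
  have hsq : ∀ a ∈ E, a * a = 1 := fun a ha =>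
    (S.sq_one_iff (hEQ ha)).mpr (S.EP_singular hg (hmem.mp ha).2)
  -- elements of `Q` normalize
  have hQn : ∀ q ∈ Q, ∀ a ∈ E, q * a * q⁻¹ ∈ E := fun q hq a ha => by
    rcases S.h.conj_eq_or hq (hEQ ha) with e | e <;> rw [e]
    exacts [ha, hzmul ha]
  -- the conjugate of `Q` normalizes
  have hPn : ∀ q ∈ Q, ∀ a ∈ E, g⁻¹ * q * g * a * (g⁻¹ * q * g)⁻¹ ∈ E := by
    intro q hq a ha
    obtain ⟨haQ, hav⟩ := hmem.mp ha
    obtain ⟨b, hb, hb', e⟩ := S.mem_EP.mp hav
    have ha' : g * a * g⁻¹ ∈ Q := by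
      rcases (S.ψ_eq_iff hb haQ).mp e with rfl | rfl
      · exact hb'
      · rw [show g * (z * b) * g⁻¹ = (g * z * g⁻¹) * (g * b * g⁻¹) by group]
        exact mul_mem hg.1 hb'
    rw [show g⁻¹ * q * g * a * (g⁻¹ * q * g)⁻¹ = g⁻¹ * (q * (g * a * g⁻¹) * q⁻¹) * g by group]
    rcases S.h.conj_eq_or hq ha' with e | e <;> rw [e]
    · rw [show g⁻¹ * (g * a * g⁻¹) * g = a by group]; exact ha
    · rw [show g⁻¹ * (z * (g * a * g⁻¹)) * g = u * a by rw [hu]; group]; exact mul_mem huE ha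
  have hxz : g * z * g⁻¹ ∉ Subgroup.zpowers z := fun hh => by
    rcases S.h.eq_or hh with e | e
    · exact S.h.z_ne_one (conj_eq_one_iff.mp e)
    · exact hg.2 e
  obtain ⟨q, hq, hqu⟩ := S.h.exists_move huQ huz
  obtain ⟨q', hq', hqx⟩ := S.h.exists_move hg.1 hxz
  have hzu : g⁻¹ * q' * g * z * (g⁻¹ * q' * g)⁻¹ = z * u := by
    calc g⁻¹ * q' * g * z * (g⁻¹ * q' * g)⁻¹ = g⁻¹ * (q' * (g * z * g⁻¹) * q'⁻¹) * g := by group
      _ = u * z := by rw [hqx, hu]; group
      _ = z * u := hcomm u huE z hzE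
  have hu0 : q * (g⁻¹ * q' * g) * z * (q * (g⁻¹ * q' * g))⁻¹ = u := by
    calc q * (g⁻¹ * q' * g) * z * (q * (g⁻¹ * q' * g))⁻¹
        = q * (g⁻¹ * q' * g * z * (g⁻¹ * q' * g)⁻¹) * q⁻¹ := by group
      _ = (q * z * q⁻¹) * (q * u * q⁻¹) := by rw [hzu]; group
      _ = u := by rw [(S.commute_of_mem hq).eq, mul_inv_cancel_right, hqu, ← mul_assoc, hzz, one_mul]
  have hnu : ∀ a ∈ E, q * (g⁻¹ * q' * g) * a * (q * (g⁻¹ * q' * g))⁻¹ ∈ E := fun a ha => by
    rw [show q * (g⁻¹ * q' * g) * a * (q * (g⁻¹ * q' * g))⁻¹ =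
      q * (g⁻¹ * q' * g * a * (g⁻¹ * q' * g)⁻¹) * q⁻¹ by group]
    exact hQn q hq _ (hPn q' hq' a ha)
  -- the neighbours
  set P : G → Prop := fun a => a ∈ E ∧ ∃ c ∈ L5r, S.ψ a = S.ev v c with hP
  let N : Finset G := (Set.toFinite {a | P a}).toFinset
  have hN : ∀ {a}, a ∈ N ↔ P a := fun {a} => by simp [N]
  have hL5r : ∀ c ∈ L5r, c ∈ L5 ∧ rk2 c = true := by
    intro c hc
    rw [← check_L5.2.1] at hc
    exact List.mem_filter.mp hc
  have hne0 : ∀ c ∈ L5r, S.ev v c ≠ 0 := fun c hc e => by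
    have h1 := (hL5r c hc).2
    rw [h.eq_zero (hin c (hL5r c hc).1).1 e] at h1
    exact absurd h1 (by decide)
  refine false_of_twelve (E := E) N ?_ hzE S.h.z_ne_one hcomm hsq (fun p hp => (hN.mp hp).1) ?_ ?_ ?_ ?_ ?_
    ?_ ?_ ?_
  · -- the order
    rw [hE, S.card_pre]
    have : (S.EP g).card = 16 := by
      refine le_antisymm (S.isotropic_card (S.EP_sub g) (S.EP_isotropic hg)) ?_
      have e : (L5.toFinset.image (S.ev v)).card = 16 := by
        rw [Finset.card_image_of_injOn fun a ha b hb e => h.injective (hin a (List.mem_toFinset.mp ha)).1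
          (hin b (List.mem_toFinset.mp hb)).1 e, List.toFinset_card_of_nodup check_L5.1]
        rfl
      rw [← e]
      refine Finset.card_le_card fun w hw => ?_
      obtain ⟨c, hc, rfl⟩ := Finset.mem_image.mp hw
      exact (hin c (List.mem_toFinset.mp hc)).2
    omega
  · -- twelve
    let f : ℕ × Bool → G := fun p => if p.2 then z * S.sec (S.ev v p.1) else S.sec (S.ev v p.1)
    have hψf : ∀ p, S.ψ (f p) = S.ev v p.1 := fun p => by
      simp only [f]
      split_ifs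
      · rw [S.ψ_zmul (S.sec_mem _), S.ψ_sec]
      · exact S.ψ_sec _
    have e : N = (L5r.toFinset ×ˢ (Finset.univ : Finset Bool)).image f := by
      ext a
      rw [hN, Finset.mem_image]
      constructor
      · rintro ⟨ha, c, hc, e⟩
        rcases (S.ψ_eq_iff (S.sec_mem _) (hEQ ha)).mp ((S.ψ_sec (S.ev v c)).trans e.symm) with r | r
        · exact ⟨(c, false), by simp [hc], by simp [f, r]⟩
        · exact ⟨(c, true), by simp [hc], by simp [f, r]⟩
      · rintro ⟨⟨c, b⟩, hp, rfl⟩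
        have hc : c ∈ L5r := by simpa using hp
        refine ⟨hmem.mpr ⟨?_, by rw [hψf]; exact (hin c (hL5r c hc).1).2⟩, c, hc, hψf _⟩
        simp only [f]
        split_ifs
        exacts [mul_mem S.h.z_mem (S.sec_mem _), S.sec_mem _]
    rw [e, Finset.card_image_of_injOn]
    · simp only [Finset.card_product, Finset.card_univ, Fintype.card_bool]
      decide
    rintro ⟨a, x⟩ ha ⟨b, y⟩ hb e'
    have ha' : a ∈ L5r := by simpa using ha
    have hb' : b ∈ L5r := by simpa using hb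
    have e2 := congrArg S.ψ e'
    rw [hψf, hψf] at e2
    have : a = b := h.injective (hin a (hL5r a ha').1).1 (hin b (hL5r b hb').1).1 e2
    subst this
    simp only [f] at e'
    cases x <;> cases y <;> simp [S.h.z_ne_one] at e' ⊢
  · intro hz'
    obtain ⟨-, c, hc, e⟩ := hN.mp hz'
    rw [S.ψ_z] at e
    exact hne0 c hc e.symm
  · intro hz'
    obtain ⟨-, c, hc, e⟩ := hN.mp hz'
    rw [S.ψ_one] at e
    exact hne0 c hc e.symm
  · intro p hp
    obtain ⟨hpE, c, hc, e⟩ := hN.mp hp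
    exact hN.mpr ⟨hzmul hpE, c, hc, by rw [S.ψ_zmul (hEQ hpE), e]⟩
  · -- generation
    intro a ha
    obtain ⟨c, hc, ec⟩ := hout _ (hmem.mp ha).2
    have hgen := check_L5.2.2
    simp only [List.all_eq_true, Bool.or_eq_true, List.any_eq_true, List.contains_iff_mem, beq_iff_eq] at hgen
    set H := Subgroup.closure ((N : Set G) ∪ {z}) with hH
    have hzH : z ∈ H := Subgroup.subset_closure (Or.inr rfl)
    have hlift : ∀ r ∈ L5r, ∃ b ∈ H, b ∈ E ∧ S.ψ b = S.ev v r := fun r hr => by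
      have hbE : S.sec (S.ev v r) ∈ E :=
        hmem.mpr ⟨S.sec_mem _, by rw [S.ψ_sec]; exact (hin r (hL5r r hr).1).2⟩
      exact ⟨_, Subgroup.subset_closure (Or.inl (hN.mpr ⟨hbE, r, hr, S.ψ_sec _⟩)), hbE, S.ψ_sec _⟩
    have hback : ∀ b ∈ H, b ∈ E → S.ψ b = S.ψ a → a ∈ H := fun b hb hbE e => by
      rcases (S.ψ_eq_iff (hEQ hbE) (hEQ ha)).mp e with r | r <;> rw [r]
      exacts [hb, mul_mem hzH hb]
    rcases hgen c hc with (⟨r, hr, s, hs, e⟩ | hr) | ⟨r, hr, s, hs, t, ht, e⟩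
    · obtain ⟨x, hx, hxE, ex⟩ := hlift r hr
      obtain ⟨y, hy, hyE, ey⟩ := hlift s hs
      exact hback _ (mul_mem hx hy) (mul_mem hxE hyE)
        (by rw [S.ψ_mul _ (hEQ hxE) _ (hEQ hyE), ex, ey, ← S.ev_xor, e, ec])
    · obtain ⟨x, hx, hxE, ex⟩ := hlift c hr
      exact hback _ hx hxE (by rw [ex, ec])
    · obtain ⟨x, hx, hxE, ex⟩ := hlift r hr
      obtain ⟨y, hy, hyE, ey⟩ := hlift s hs
      obtain ⟨w, hw, hwE, ew⟩ := hlift t ht
      exact hback _ (mul_mem (mul_mem hx hy) hw) (mul_mem (mul_mem hxE hyE) hwE)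
        (by rw [S.ψ_mul _ (hEQ (mul_mem hxE hyE)) _ (hEQ hwE), S.ψ_mul _ (hEQ hxE) _ (hEQ hyE), ex, ey, ew,
          ← S.ev_xor, ← S.ev_xor, e, ec])
  · -- invariance
    intro m hm hmz p hp
    obtain ⟨hpE, c, hc, e⟩ := hN.mp hp
    have hmp := hm p hpE
    obtain ⟨d, hd, ed⟩ := hout _ (hmem.mp hmp).2
    refine hN.mpr ⟨hmp, d, ?_, ed.symm⟩
    rw [← check_L5.2.1, List.mem_filter]
    refine ⟨hd, h.rk2_ρ (S.R_π hmz) (hin d hd).1 (hin c (hL5r c hc).1).1 (hL5r c hc).2 ?_⟩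
    rw [S.ρ_π hmz, ← e, ← S.ψ_conj m hmz p (hEQ hpE), ed]
  · -- conjugates
    intro p hp
    obtain ⟨hpE, c, hc, e⟩ := hN.mp hp
    have h0 := check_L5_moves k
    simp only [List.all_eq_true, List.any_eq_true, Bool.and_eq_true, beq_iff_eq, List.contains_iff_mem] at h0
    obtain ⟨en, hen, i, -, hmove, hkeep⟩ := h0 c hc
    obtain ⟨σ, -, hσ⟩ := h.agree_table hen
    obtain ⟨t, htz, htπ⟩ := S.R_el hσ.1 i
    have hact : ∀ n, S.act t (S.ev v n) = S.ev v (lin (scalar i) (lin en.2 n)) := fun n => by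
      rw [← S.ρ_π htz, htπ, h.ρ_el hσ]
    have htn : ∀ a ∈ E, t * a * t⁻¹ ∈ E := fun a ha => S.conj_pre (S.EP_sub g) htz (fun w hw => by
      obtain ⟨d, hd, rfl⟩ := hout w hw
      rw [hact]
      exact (hin _ (hkeep d hd)).2) ha
    have hψ : S.ψ (t * u * t⁻¹) = S.ψ p := by rw [S.ψ_conj t htz u huQ, hψu, hact, hmove, e]
    rcases (S.ψ_eq_iff (hEQ (htn u huE)) (hEQ hpE)).mp hψ with r | r
    · refine ⟨t * (q * (g⁻¹ * q' * g)), fun a ha => ?_, ?_⟩
      · rw [show t * (q * (g⁻¹ * q' * g)) * a * (t * (q * (g⁻¹ * q' * g)))⁻¹ =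
          t * (q * (g⁻¹ * q' * g) * a * (q * (g⁻¹ * q' * g))⁻¹) * t⁻¹ by group]
        exact htn _ (hnu a ha)
      · rw [r, ← hu0]; group
    · refine ⟨t * (g⁻¹ * q' * g), fun a ha => ?_, ?_⟩
      · rw [show t * (g⁻¹ * q' * g) * a * (t * (g⁻¹ * q' * g))⁻¹ =
          t * (g⁻¹ * q' * g * a * (g⁻¹ * q' * g)⁻¹) * t⁻¹ by group]
        exact htn _ (hPn q' hq' a ha)
      · rw [r]
        calc t * (g⁻¹ * q' * g) * z * (t * (g⁻¹ * q' * g))⁻¹
            = t * (g⁻¹ * q' * g * z * (g⁻¹ * q' * g)⁻¹) * t⁻¹ := by group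
          _ = (t * z * t⁻¹) * (t * u * t⁻¹) := by rw [hzu]; group
          _ = _ := by rw [htz.eq, mul_inv_cancel_right]
  · -- separation
    intro o ho p hp hp1 hpz hpo hpzo
    have hoQ := hEQ ho
    have hpQ := hEQ hp
    have hne : S.ψ p ≠ 0 := fun e => by
      rcases S.h.eq_or ((S.ψ_eq_zero p hpQ).mp e) with r | r
      exacts [hp1 r, hpz r]
    have hne2 : S.ψ p ≠ S.ψ o := fun e => by
      rcases (S.ψ_eq_iff hoQ hpQ).mp e.symm with r | r
      exacts [hpo r, hpzo r]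
    obtain ⟨y, hy1, hy2⟩ : ∃ y, S.B y (S.ψ p) = 1 ∧ S.B y (S.ψ o) = 0 := by
      obtain ⟨y1, h1⟩ : ∃ y, S.B y (S.ψ p) = 1 := by
        by_contra hcon
        push Not at hcon
        exact hne (S.nondeg fun w => (S.B_comm _ _).trans ((two_cases _).resolve_right (hcon w)))
      obtain ⟨y2, h2⟩ : ∃ y, S.B y (S.ψ p + S.ψ o) = 1 := by
        by_contra hcon
        push Not at hcon
        exact hne2 (v_add_eq_zero.mp
          (S.nondeg fun w => (S.B_comm _ _).trans ((two_cases _).resolve_right (hcon w))))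
      rw [S.B_add_right] at h2
      rcases two_cases (S.B y1 (S.ψ o)) with c | c
      · exact ⟨y1, h1, c⟩
      rcases two_cases (S.B y2 (S.ψ o)) with d | d
      · exact ⟨y2, by rw [d, add_zero] at h2; exact h2, d⟩
      · refine ⟨y1 + y2, ?_, by rw [S.B_add, c, d]; decide⟩
        rw [d] at h2
        have : S.B y2 (S.ψ p) = 0 := by
          revert h2
          generalize S.B y2 (S.ψ p) = x
          revert x
          decide
        rw [S.B_add, h1, this, add_zero]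
    refine ⟨S.sec y, hQn _ (S.sec_mem y), S.commute_of_mem (S.sec_mem y), ?_, ?_⟩
    · rw [((S.sq_mul_sq (S.sec_mem y) hoQ).mp (by rw [S.ψ_sec]; exact hy2)).eq, mul_inv_cancel_right]
    · exact (S.B_eq_one (S.sec_mem y) hpQ).mp (by rw [S.ψ_sec]; exact hy1)

end Start

end Setting

end CfsgLib.S3A6
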