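import Cfsg.Agent.Lib.Invol.S3A6.Orbit
import Cfsg.Agent.Lib.Invol.S3A6.Pair

/-!
Owner: helper13. The even part of the group of a pair and the space it spans.
-/

set_option autoImplicit false
set_option linter.unusedSectionVars false
set_option maxRecDepth 100000

namespace CfsgLib.S3A6

open Cfsg Equiv Model

namespace Setting

variable {G : Type*} [Group G] [Finite G] {z : G} {Q : Subgroup G} (S : Setting z Q)
include S

/-- The second components over the identity. -/
noncomputable def KP (g : G) : Finset P6 :=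
  open Classical in Finset.univ.filter fun b => ((1, b) : P36) ∈ S.AP g

theorem mem_KP {g : G} {b : P6} : b ∈ S.KP g ↔ ((1, b) : P36) ∈ S.AP g := by simp [KP]

/-- The even ones. -/
noncomputable def KE (g : G) : Finset P6 := (S.KP g).filter fun b => Perm.sign b = 1

theorem mem_KE {g : G} {b : P6} : b ∈ S.KE g ↔ ((1, b) : P36) ∈ S.AP g ∧ Perm.sign b = 1 := by
  simp [KE, S.mem_KP]

theorem KP_le {g : G} : (S.KP g).card ≤ 2 * (S.KE g).card := by
  have e := Finset.card_sdiff_add_card_eq_card (show S.KE g ⊆ S.KP g from Finset.filter_subset _ _)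
  have hodd : (S.KP g \ S.KE g).card ≤ (S.KE g).card := by
    rcases (S.KP g \ S.KE g).eq_empty_or_nonempty with h | ⟨c, hc⟩
    · rw [h]; simp
    obtain ⟨hcK, hcs⟩ := Finset.mem_sdiff.mp hc
    have hneg : ∀ b ∈ S.KP g, b ∉ S.KE g → Perm.sign b = -1 := fun b hb hn =>
      (Int.units_eq_one_or _).resolve_left fun e => hn (S.mem_KE.mpr ⟨S.mem_KP.mp hb, e⟩)
    refine Finset.card_le_card_of_injOn (fun b => c * b) (fun b hb => ?_) (mul_right_injective c).injOn
    obtain ⟨hbK, hbs⟩ := Finset.mem_sdiff.mp hb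
    refine S.mem_KE.mpr ⟨?_, ?_⟩
    · simpa using mul_mem (S.mem_KP.mp hcK) (S.mem_KP.mp hbK)
    · rw [map_mul, hneg c hcK hcs, hneg b hbK hbs]
      decide
  omega

theorem AP_le_KP {g : G} (hg : S.Carries g) : Nat.card (S.AP g) ≤ 2 * (S.KP g).card ∧
    ((∀ δ ∈ S.AP g, δ.1 = 1) → Nat.card (S.AP g) ≤ (S.KP g).card) := by
  classical
  let A : Finset P36 := Finset.univ.filter fun δ => δ ∈ S.AP g
  have hA : Nat.card (S.AP g) = A.card := by
    rw [← Nat.card_eq_finsetCard]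
    exact Nat.card_congr (Equiv.subtypeEquivRight fun δ => by simp [A])
  have hone : (A.filter fun δ => δ.1 = 1).card ≤ (S.KP g).card := by
    refine Finset.card_le_card_of_injOn Prod.snd (fun δ hδ => ?_) ?_
    · obtain ⟨hδA, e⟩ := Finset.mem_filter.mp hδ
      have hm : δ ∈ S.AP g := by simpa [A] using hδA
      exact S.mem_KP.mpr (by rwa [show ((1, δ.2) : P36) = δ from Prod.ext e.symm rfl])
    · intro a ha b hb e
      exact Prod.ext ((Finset.mem_filter.mp (Finset.mem_coe.mp ha)).2.trans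
        (Finset.mem_filter.mp (Finset.mem_coe.mp hb)).2.symm) e
  refine ⟨?_, fun hall => ?_⟩
  · have e := Finset.card_filter_add_card_filter_not (s := A) (fun δ => δ.1 = 1)
    have hrest : (A.filter fun δ => ¬ δ.1 = 1).card ≤ (A.filter fun δ => δ.1 = 1).card := by
      rcases (A.filter fun δ => ¬ δ.1 = 1).eq_empty_or_nonempty with h | ⟨c, hc⟩
      · rw [h]; simp
      obtain ⟨hcA, hc1⟩ := Finset.mem_filter.mp hc
      refine Finset.card_le_card_of_injOn (fun δ => c * δ) (fun δ hδ => ?_) (mul_right_injective c).injOn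
      obtain ⟨hδA, hδ1⟩ := Finset.mem_filter.mp hδ
      have hcm : c ∈ S.AP g := by simpa [A] using hcA
      have hdm : δ ∈ S.AP g := by simpa [A] using hδA
      refine Finset.mem_filter.mpr ⟨by simpa [A] using mul_mem hcm hdm, ?_⟩
      have e2 : c.1 = δ.1 :=
        ((p3_inv_comm c.1 δ.1 (congrArg Prod.fst (S.AP_sq hg hcm)) (congrArg Prod.fst (S.AP_sq hg hdm))
          (congrArg Prod.fst (S.AP_comm hg hcm hdm))).resolve_left hc1).resolve_left hδ1
      show c.1 * δ.1 = 1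
      rw [e2]
      exact congrArg Prod.fst (S.AP_sq hg hdm)
    omega
  · rw [hA]
    refine le_trans (Finset.card_le_card fun δ hδ => ?_) hone
    exact Finset.mem_filter.mpr ⟨hδ, hall δ (by simpa [A] using hδ)⟩

namespace Start

variable {S} {k : Bool} {v : V} (h : S.Start k v)
include h

/-- Even elements of the group of a pair are fixers of the point. -/
theorem KE_fixer {g : G} (hg : S.Carries g) {n : ℕ} (hn : n < 256) (hpt : S.pt g = S.ev v n) {b : P6}
    (hb : b ∈ S.KE g) (h1 : b ≠ 1) : ∃ e ∈ fixers k n, e.1 = code b ∧ h.Agree b (lin e.2) := by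
  obtain ⟨hm, hs⟩ := S.mem_KE.mp hb
  obtain ⟨e, he, hc, hσ⟩ := h.exists_entry hs
  refine ⟨e, ?_, hc, hσ⟩
  have h2 : b * b = 1 := congrArg Prod.snd (S.AP_sq hg hm)
  have hfix := S.AP_fix hg hm
  rw [hpt] at hfix
  change S.A b (S.ev v n) = S.ev v n at hfix
  rw [hσ.2] at hfix
  simp only [fixers, List.mem_filter, Bool.and_eq_true, bne_iff_ne, beq_iff_eq, ne_eq]
  refine ⟨he, ⟨?_, ?_⟩, h.injective (lin_lt _ _) hn hfix⟩
  · rw [hc, ← code_one, code_eq_iff]; exact h1
  · rw [hc, ← code_mul, ← code_one, code_eq_iff]; exact h2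

/-- The images lie in the space. -/
theorem imgs_mem {g : G} (hg : S.Carries g) {n : ℕ} (hn : n < 256) (hpt : S.pt g = S.ev v n)
    {F : List (ℕ × ℕ)} (hF : ∀ e ∈ F, ∃ b ∈ S.KE g, h.Agree b (lin e.2)) {a : ℕ} (ha : a ∈ imgs F n) :
    a < 256 ∧ S.ev v a ∈ S.EP g := by
  simp only [imgs, List.mem_cons, List.mem_flatMap, List.mem_map, List.mem_filter, List.mem_range] at ha
  rcases ha with rfl | ⟨e, he, x, ⟨hx, hB⟩, rfl⟩
  · exact ⟨by norm_num, by rw [S.ev_zero]; exact (S.EP_sub g).zero⟩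
  obtain ⟨b, hb, hσ⟩ := hF e he
  refine ⟨xor_lt (lin_lt _ _) hx, ?_⟩
  rw [S.ev_xor, ← hσ.2]
  refine S.AP_perp hg (S.mem_KE.mp hb).1 ?_
  rw [hpt, h.B_ev hn hx]
  rw [Bool.not_eq_true'] at hB
  rw [hB]
  rfl

/-- The space of the pair is the span of the images. -/
theorem EP_eq {g : G} (hg : S.Carries g) {n : ℕ} (hn : n < 256) (hpt : S.pt g = S.ev v n)
    {F : List (ℕ × ℕ)} (hF : ∀ e ∈ F, ∃ b ∈ S.KE g, h.Agree b (lin e.2)) {L : List ℕ} (hL : L.Nodup)
    (h16 : 16 ≤ L.length) (hspan : ∀ c ∈ L, ∃ a ∈ imgs F n, ∃ b ∈ imgs F n, a ^^^ b = c) :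
    (∀ c ∈ L, c < 256 ∧ S.ev v c ∈ S.EP g) ∧ ∀ u ∈ S.EP g, ∃ c ∈ L, S.ev v c = u := by
  classical
  have hmem : ∀ c ∈ L, c < 256 ∧ S.ev v c ∈ S.EP g := by
    intro c hc
    obtain ⟨a, ha, b, hb, rfl⟩ := hspan c hc
    obtain ⟨a1, a2⟩ := h.imgs_mem hg hn hpt hF ha
    obtain ⟨b1, b2⟩ := h.imgs_mem hg hn hpt hF hb
    exact ⟨xor_lt a1 b1, by rw [S.ev_xor]; exact (S.EP_sub g).add a2 b2⟩
  refine ⟨hmem, ?_⟩
  have hcard : (L.toFinset.image (S.ev v)).card = L.length := by
    rw [Finset.card_image_of_injOn, List.toFinset_card_of_nodup hL]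
    intro a ha b hb e
    exact h.injective (hmem a (List.mem_toFinset.mp ha)).1 (hmem b (List.mem_toFinset.mp hb)).1 e
  have heq : L.toFinset.image (S.ev v) = S.EP g := by
    refine Finset.eq_of_subset_of_card_le (fun u hu => ?_)
      (by rw [hcard]; exact le_trans (S.isotropic_card (S.EP_sub g) (S.EP_isotropic hg)) h16)
    obtain ⟨c, hc, rfl⟩ := Finset.mem_image.mp hu
    exact (hmem c (List.mem_toFinset.mp hc)).2
  intro u hu
  rw [← heq] at hu
  obtain ⟨c, hc, rfl⟩ := Finset.mem_image.mp hu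
  exact ⟨c, List.mem_toFinset.mp hc, rfl⟩

end Start

end Setting

end CfsgLib.S3A6
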