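import Cfsg.Agent.Lib.Invol.S3A6.Count

/-!
Owner: helper13. The decomposition of the coordinates under an element of order three: the moved part has
four or all 256 vectors.
-/

set_option autoImplicit false
set_option linter.unusedSectionVars false

namespace CfsgLib.S3A6

open Cfsg Equiv

/-- The element of order three in the first factor. -/
def th : P36 := (t3, 1)

/-- A cycle of length five. -/
def c5 : P6 := swap 0 1 * swap 1 2 * swap 2 3 * swap 3 4

theorem c5_facts : Perm.sign c5 = 1 ∧ c5 ^ 5 = 1 ∧ c5 ≠ 1 := by decide +kernel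

theorem th_cube : th * th * th = 1 := by decide +kernel

theorem th_comm (b : P6) : th * (1, b) = (1, b) * th := by
  simp only [th, Prod.mk_mul_mk, one_mul, mul_one]

theorem th_ne_one : th ≠ 1 := by decide +kernel

/-- A normal set of even permutations containing the five-cycle contains all. -/
theorem even_of_five (P : P6 → Prop) (h1 : P 1) (hm : ∀ a b, Perm.sign a = 1 → Perm.sign b = 1 → P a → P b → P (a * b))
    (hi : ∀ a, Perm.sign a = 1 → P a → P a⁻¹)
    (hn : ∀ a b, Perm.sign a = 1 → Perm.sign b = 1 → P a → P (b * a * b⁻¹)) (h5 : P c5) {b : P6}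
    (hb : Perm.sign b = 1) : P b := by
  haveI : IsSimpleGroup ↥(alternatingGroup (Fin 6)) := alternatingGroup.isSimpleGroup (by simp)
  let K : Subgroup ↥(alternatingGroup (Fin 6)) :=
    { carrier := {a | P (a : P6)}
      mul_mem' := fun {a b} ha hb => hm _ _ (Perm.mem_alternatingGroup.mp a.2) (Perm.mem_alternatingGroup.mp b.2) ha hb
      one_mem' := h1
      inv_mem' := fun {a} ha => hi _ (Perm.mem_alternatingGroup.mp a.2) ha }
  haveI : K.Normal := ⟨fun a ha b =>
    hn _ _ (Perm.mem_alternatingGroup.mp a.2) (Perm.mem_alternatingGroup.mp b.2) ha⟩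
  have hK : K = ⊤ := by
    refine (IsSimpleGroup.eq_bot_or_eq_top_of_normal K inferInstance).resolve_left fun e => c5_facts.2.2 ?_
    have hc : (⟨c5, Perm.mem_alternatingGroup.mpr c5_facts.1⟩ : ↥(alternatingGroup (Fin 6))) ∈ K := h5
    rw [e, Subgroup.mem_bot] at hc
    exact congrArg Subtype.val hc
  have : (⟨b, Perm.mem_alternatingGroup.mpr hb⟩ : ↥(alternatingGroup (Fin 6))) ∈ K := hK ▸ Subgroup.mem_top _
  exact this

namespace Setting

variable {G : Type*} [Group G] [Finite G] {z : G} {Q : Subgroup G} (S : Setting z Q)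
include S

theorem R_th : S.R th := S.R_even t3_facts.1 (map_one _)

theorem R_six {b : P6} (hb : Perm.sign b = 1) : S.R (1, b) := S.R_even (map_one _) hb

/-- The fixed-point-free element of order three on the coordinates. -/
noncomputable def T (v : V) : V := S.ρ th v

/-- The action of an even permutation of six letters. -/
noncomputable def A (b : P6) (v : V) : V := S.ρ (1, b) v

theorem T_add (u v : V) : S.T (u + v) = S.T u + S.T v := S.ρ_add S.R_th u v

theorem T_q (v : V) : S.q (S.T v) = S.q v := S.ρ_q S.R_th v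

theorem T_B (u v : V) : S.B (S.T u) (S.T v) = S.B u v := S.ρ_B S.R_th u v

theorem T_zero : S.T 0 = 0 := S.ρ_zero S.R_th

theorem T_cube (v : V) : S.T (S.T (S.T v)) = v := by
  simp only [T]
  rw [← S.ρ_mul S.R_th S.R_th, ← S.ρ_mul (S.R_mul S.R_th S.R_th) S.R_th, th_cube, S.ρ_one]

theorem A_T {b : P6} (hb : Perm.sign b = 1) (v : V) : S.A b (S.T v) = S.T (S.A b v) := by
  simp only [A, T]
  rw [← S.ρ_mul (S.R_six hb) S.R_th, ← S.ρ_mul S.R_th (S.R_six hb), th_comm]

theorem A_mul {a b : P6} (ha : Perm.sign a = 1) (hb : Perm.sign b = 1) (v : V) :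
    S.A (a * b) v = S.A a (S.A b v) := by
  simp only [A]
  rw [← S.ρ_mul (S.R_six ha) (S.R_six hb), Prod.mk_mul_mk, one_mul]

theorem A_one (v : V) : S.A 1 v = v := S.ρ_one v

theorem A_inv {a : P6} (ha : Perm.sign a = 1) (v : V) : S.A a⁻¹ (S.A a v) = v := by
  rw [← S.A_mul (by rw [map_inv, ha, inv_one]) ha, inv_mul_cancel, S.A_one]

theorem A_add {a : P6} (ha : Perm.sign a = 1) (u v : V) : S.A a (u + v) = S.A a u + S.A a v :=
  S.ρ_add (S.R_six ha) u v

theorem A_q {a : P6} (ha : Perm.sign a = 1) (v : V) : S.q (S.A a v) = S.q v := S.ρ_q (S.R_six ha) v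

theorem A_five (v : V) : S.A c5 (S.A c5 (S.A c5 (S.A c5 (S.A c5 v)))) = v := by
  have h := c5_facts.1
  have hp : ∀ n : ℕ, Perm.sign (c5 ^ n) = 1 := fun n => by rw [map_pow, h, one_pow]
  have hm : ∀ n : ℕ, S.A (c5 ^ (n + 1)) v = S.A c5 (S.A (c5 ^ n) v) := fun n => by
    rw [pow_succ', S.A_mul h (hp n)]
  have e := S.A_one v
  rw [← c5_facts.2.1, hm 4, hm 3, hm 2, hm 1, hm 0, pow_zero, S.A_one] at e
  exact e

/-- The fixed vectors. -/
noncomputable def V0 : Finset V := Finset.univ.filter fun v => S.T v = v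

/-- The moved vectors. -/
noncomputable def V1 : Finset V := Finset.univ.filter fun v => v + S.T v + S.T (S.T v) = 0

theorem mem_V0 {v : V} : v ∈ S.V0 ↔ S.T v = v := by simp [V0]

theorem mem_V1 {v : V} : v ∈ S.V1 ↔ v + S.T v + S.T (S.T v) = 0 := by simp [V1]

/-- The fixed component. -/
noncomputable def e0 (v : V) : V := v + S.T v + S.T (S.T v)

/-- The moved component. -/
noncomputable def e1 (v : V) : V := S.T v + S.T (S.T v)

theorem e0_add_e1 (v : V) : S.e0 v + S.e1 v = v := by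
  simp only [e0, e1]
  rw [add_assoc v, add_assoc, v_add_self, add_zero]

theorem e0_mem (v : V) : S.e0 v ∈ S.V0 := by
  rw [S.mem_V0, e0, S.T_add, S.T_add, S.T_cube]
  abel

theorem e1_mem (v : V) : S.e1 v ∈ S.V1 := by
  rw [S.mem_V1, e1, S.T_add, S.T_add, S.T_cube]
  have h : ∀ a b c : ZMod 2, a + b + (b + c) + (c + a) = 0 := by decide
  funext i
  exact h _ _ _

theorem B_V0_V1 {p v : V} (hp : p ∈ S.V0) (hv : v ∈ S.V1) : S.B p v = 0 := by
  rw [S.mem_V0] at hp
  rw [S.mem_V1] at hv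
  have h1 : S.B p (S.T v) = S.B p v := by
    calc S.B p (S.T v) = S.B (S.T p) (S.T v) := by rw [hp]
      _ = S.B p v := S.T_B p v
  have h2 : S.B p (S.T (S.T v)) = S.B p v := by
    calc S.B p (S.T (S.T v)) = S.B (S.T p) (S.T (S.T v)) := by rw [hp]
      _ = S.B p v := (S.T_B _ _).trans h1
  have h3 : S.B p (v + S.T v + S.T (S.T v)) = 0 := by rw [hv, S.B_comm, S.B_zero]
  rw [S.B_add_right, S.B_add_right, h1, h2, z2_add_self, zero_add] at h3
  exact h3

theorem V1_sub : IsSub S.V1 := by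
  refine ⟨S.mem_V1.mpr (by rw [S.T_zero, S.T_zero, add_zero, add_zero]), fun {u v} hu hv => ?_⟩
  rw [S.mem_V1] at hu hv ⊢
  rw [S.T_add, S.T_add]
  have : u + v + (S.T u + S.T v) + (S.T (S.T u) + S.T (S.T v)) =
      (u + S.T u + S.T (S.T u)) + (v + S.T v + S.T (S.T v)) := by abel
  rw [this, hu, hv, add_zero]

theorem V0_sub : IsSub S.V0 :=
  ⟨S.mem_V0.mpr S.T_zero, fun hu hv => S.mem_V0.mpr (by rw [S.T_add, S.mem_V0.mp hu, S.mem_V0.mp hv])⟩

theorem V0_nondeg : S.Nondeg S.V0 := by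
  intro u hu h
  refine S.nondeg fun v => ?_
  rw [← S.e0_add_e1 v, S.B_add_right, h _ (S.e0_mem v), S.B_V0_V1 hu (S.e1_mem v), add_zero]

theorem V1_fpf : S.Fpf S.T S.V1 := by
  refine ⟨S.V1_sub, fun v hv => ?_, fun v hv => ?_, fun v _ => S.T_q v, fun u _ v _ => S.T_add u v, ?_⟩
  · rw [S.mem_V1] at hv ⊢
    rw [← S.T_add, ← S.T_add, hv, S.T_zero]
  · exact (v_add_eq_zero.mp (S.mem_V1.mp hv)).symm
  · intro u hu h
    refine S.nondeg fun v => ?_
    rw [← S.e0_add_e1 v, S.B_add_right, h _ (S.e1_mem v), S.B_comm, S.B_V0_V1 (S.e0_mem v) hu, zero_add]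

theorem V0_V1_zero {v : V} (h0 : v ∈ S.V0) (h1 : v ∈ S.V1) : v = 0 := by
  rw [S.mem_V0] at h0
  rw [S.mem_V1, h0, h0, v_add_self, zero_add] at h1
  exact h1

theorem card_V0_mul_V1 : S.V0.card * S.V1.card = 256 := by
  classical
  have himg : (S.V0 ×ˢ S.V1).image (fun p : V × V => p.1 + p.2) = Finset.univ := by
    rw [Finset.eq_univ_iff_forall]
    exact fun v => Finset.mem_image.mpr ⟨(S.e0 v, S.e1 v),
      Finset.mem_product.mpr ⟨S.e0_mem v, S.e1_mem v⟩, S.e0_add_e1 v⟩
  have hinj : Set.InjOn (fun p : V × V => p.1 + p.2) ↑(S.V0 ×ˢ S.V1) := by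
    rintro ⟨a, b⟩ hp ⟨a', b'⟩ hp' e
    simp only [Finset.coe_product, Set.mem_prod, Finset.mem_coe] at hp hp'
    simp only at e
    have hab : a + a' = b + b' := by
      rw [← v_add_eq_zero, show a + a' + (b + b') = (a + b) + (a' + b') from add_add_add_comm a a' b b', e,
        v_add_self]
    have h0 := S.V0_V1_zero (S.V0_sub.add hp.1 hp'.1) (hab ▸ S.V1_sub.add hp.2 hp'.2)
    rw [h0, eq_comm, v_add_eq_zero] at hab
    rw [v_add_eq_zero] at h0
    rw [Prod.mk.injEq]
    exact ⟨h0, hab⟩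
  rw [← Finset.card_product, ← Finset.card_image_of_injOn hinj, himg]
  simp [V]

theorem A_mem_V0 {b : P6} (hb : Perm.sign b = 1) {v : V} (hv : v ∈ S.V0) : S.A b v ∈ S.V0 := by
  rw [S.mem_V0] at hv ⊢
  rw [← S.A_T hb, hv]

theorem A_mem_V1 {b : P6} (hb : Perm.sign b = 1) {v : V} (hv : v ∈ S.V1) : S.A b v ∈ S.V1 := by
  rw [S.mem_V1] at hv ⊢
  rw [← S.A_T hb, ← S.A_T hb, ← S.A_add hb, ← S.A_add hb, hv]
  exact S.ρ_zero (S.R_six hb)

/-- A set stable under all even permutations and fixed by the five-cycle is fixed by all. -/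
theorem trivial_of_five {U : Finset V} (hU : ∀ b, Perm.sign b = 1 → ∀ v ∈ U, S.A b v ∈ U)
    (h5 : ∀ v ∈ U, S.A c5 v = v) {b : P6} (hb : Perm.sign b = 1) : ∀ v ∈ U, S.A b v = v := by
  refine even_of_five (fun a => ∀ v ∈ U, S.A a v = v) (fun v _ => S.A_one v) ?_ ?_ ?_ h5 hb
  · intro a c ha hc pa pc v hv
    rw [S.A_mul ha hc, pc v hv, pa v hv]
  · intro a ha pa v hv
    conv_lhs => rw [← pa v hv]
    exact S.A_inv ha v
  · intro a c ha hc pa v hv
    have hci : Perm.sign c⁻¹ = 1 := by rw [map_inv, hc, inv_one]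
    rw [S.A_mul (by rw [map_mul, hc, ha, mul_one]) hci, S.A_mul hc ha, pa _ (hU _ hci v hv),
      ← S.A_mul hc hci, mul_inv_cancel, S.A_one]

theorem five_moves : ∃ v, S.A c5 v ≠ v := by
  by_contra h
  push Not at h
  have := S.ρ_faithful (S.R_six c5_facts.1) h
  exact c5_facts.2.2 (congrArg Prod.snd this)

/-- The first case: the moved part is a single plane. -/
def CaseB : Prop := S.V1.card = 4

/-- The second case: everything is moved. -/
def CaseA : Prop := S.V1.card = 256

theorem caseB_or_caseA : S.CaseB ∨ S.CaseA := by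
  have hprod := S.card_V0_mul_V1
  have hne : S.V1.card ≠ 1 := by
    intro e
    refine th_ne_one (S.ρ_faithful S.R_th fun v => ?_)
    have h0 : S.e1 v = 0 := Finset.card_le_one.mp e.le _ (S.e1_mem v) 0 S.V1_sub.zero
    have h1 := S.e0_add_e1 v
    rw [h0, add_zero] at h1
    show S.T v = v
    rw [← h1]
    exact S.mem_V0.mp (S.e0_mem v)
  have five : S.V1.card < 256 → S.V0.card = 16 ∨ S.V0.card = 4 → False := by
    intro hlt hcase
    have h1 : ∀ v ∈ S.V1, S.A c5 v = v := Setting.Fpf.five_trivial S S.V1_fpf hlt (fun v hv => S.A_mem_V1 c5_facts.1 hv)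
      (fun u _ v _ => S.A_add c5_facts.1 u v) (fun v _ => S.A_q c5_facts.1 v)
      (fun v _ => (S.A_T c5_facts.1 v).symm) (fun v _ => S.A_five v)
    have h0 : ∀ v ∈ S.V0, S.A c5 v = v := by
      rcases hcase with e | e
      · exact S.four_space S.V0_sub e S.V0_nondeg S.A c5 c5_facts.2.1 c5_facts.1
          (fun a ha v hv => S.A_mem_V0 ha hv) (fun a ha u _ v _ => S.A_add ha u v)
          (fun a b ha hb v _ => S.A_mul ha hb v) (fun v _ => S.A_one v) (fun a ha v _ => S.A_q ha v)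
      · have hmod := card_fixed_mod S.V0 (S.A c5) (fun v hv => S.A_mem_V0 c5_facts.1 hv) (fun v _ => S.A_five v)
        have hle := Finset.card_filter_le S.V0 (fun v => S.A c5 v = v)
        rw [e] at hmod hle
        have heq : (S.V0.filter fun v => S.A c5 v = v).card = S.V0.card := by omega
        exact fun v hv => (Finset.mem_filter.mp ((Finset.eq_of_subset_of_card_le (Finset.filter_subset _ _)
          heq.ge).symm ▸ hv : v ∈ S.V0.filter fun v => S.A c5 v = v)).2
    obtain ⟨v, hv⟩ := S.five_moves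
    apply hv
    rw [← S.e0_add_e1 v, S.A_add c5_facts.1, h0 _ (S.e0_mem v), h1 _ (S.e1_mem v)]
  rcases Setting.Fpf.counts S S.V1_fpf with ⟨e, -⟩ | ⟨e, -⟩ | ⟨e, -⟩ | ⟨e, -⟩ | ⟨e, -⟩
  · exact absurd e hne
  · exact Or.inl e
  · rw [e] at hprod; exact (five (by omega) (Or.inl (by omega))).elim
  · rw [e] at hprod; exact (five (by omega) (Or.inr (by omega))).elim
  · exact Or.inr e

end Setting

end CfsgLib.S3A6
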