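import Cfsg.Agent.Lib.Invol.S3A6.Split
import Cfsg.Agent.Lib.Invol.S3A6.Model

/-!
Owner: helper13. In the case without fixed vectors: a common eigenvector of two commuting three-cycles
with a nontrivial eigenvalue, moved to one of two standard positions.
-/

set_option autoImplicit false
set_option linter.unusedSectionVars false

namespace CfsgLib.S3A6

open Cfsg Equiv

/-- The first three-cycle. -/
def wa : P6 := swap 0 1 * swap 1 2

/-- The second three-cycle. -/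
def wb : P6 := swap 3 4 * swap 4 5

theorem w_facts : Perm.sign wa = 1 ∧ Perm.sign wb = 1 ∧ Perm.sign Model.c0 = 1 ∧ wa * wa * wa = 1 ∧
    wb * wb * wb = 1 ∧ wa ≠ 1 ∧ wb * wa = wa * wb ∧ wa * Model.c0 = Model.c0 * (wb * wb) ∧
    wb * Model.c0 = Model.c0 * wa ∧ Model.p0 false = wa ∧ Model.p0 true = wa * wb ∧
    Model.c0 * wa * Model.c0⁻¹ = wb ∧ Model.c0 * (wa * wb) * Model.c0⁻¹ = wb * (wa * wa) := by
  decide +kernel

namespace Setting

variable {G : Type*} [Group G] [Finite G] {z : G} {Q : Subgroup G} (S : Setting z Q)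
include S

theorem caseA_mem (hA : S.CaseA) (v : V) : v ∈ S.V1 := by
  have h : S.V1 = Finset.univ := by
    refine Finset.eq_univ_of_card _ ?_
    rw [CaseA] at hA
    rw [hA]
    simp [V]
  rw [h]
  exact Finset.mem_univ v

theorem caseA_sum (hA : S.CaseA) (v : V) : v + S.T v + S.T (S.T v) = 0 := S.mem_V1.mp (S.caseA_mem hA v)

theorem caseA_TT (hA : S.CaseA) (v : V) : S.T (S.T v) = v + S.T v :=
  (v_add_eq_zero.mp (S.caseA_sum hA v)).symm

theorem caseA_free (hA : S.CaseA) {v : V} (h : S.T v = v) : v = 0 := by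
  have := S.caseA_sum hA v
  rwa [h, h, v_add_self, zero_add] at this

/-- The powers of `T`. -/
noncomputable def Tp : Fin 3 → V → V
  | 0, v => v
  | 1, v => S.T v
  | 2, v => S.T (S.T v)

theorem Tp_add (i : Fin 3) (u v : V) : S.Tp i (u + v) = S.Tp i u + S.Tp i v := by
  fin_cases i <;> simp [Tp, S.T_add]

theorem Tp_Tp (i j : Fin 3) (v : V) : S.Tp i (S.Tp j v) = S.Tp (i + j) v := by
  fin_cases i <;> fin_cases j <;> simp [Tp, S.T_cube] <;> rfl

theorem Tp_zero (i : Fin 3) : S.Tp i 0 = 0 := by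
  fin_cases i <;> simp [Tp, S.T_zero]

theorem A_Tp {b : P6} (hb : Perm.sign b = 1) (i : Fin 3) (v : V) : S.A b (S.Tp i v) = S.Tp i (S.A b v) := by
  fin_cases i <;> simp [Tp, S.A_T hb]

theorem A_zero {b : P6} (hb : Perm.sign b = 1) : S.A b 0 = 0 := S.ρ_zero (S.R_six hb)

theorem A_cube {f : P6} (hf : Perm.sign f = 1) (h3 : f * f * f = 1) (v : V) :
    S.A f (S.A f (S.A f v)) = v := by
  rw [← S.A_mul hf hf, ← S.A_mul (by rw [map_mul, hf, one_mul]) hf, h3, S.A_one]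

/-- The projection to an eigenspace of an element of order three. -/
noncomputable def pr (f : P6) (i : Fin 3) (v : V) : V :=
  v + S.Tp (i + i) (S.A f v) + S.Tp i (S.A f (S.A f v))

theorem A_pr {f : P6} (hf : Perm.sign f = 1) (h3 : f * f * f = 1) (i : Fin 3) (v : V) :
    S.A f (S.pr f i v) = S.Tp i (S.pr f i v) := by
  have e : i + (i + i) = 0 := by revert i; decide
  have z0 : ∀ u, S.Tp 0 u = u := fun u => rfl
  simp only [pr]
  rw [S.A_add hf, S.A_add hf, S.A_Tp hf, S.A_Tp hf, S.A_cube hf h3, S.Tp_add, S.Tp_add, S.Tp_Tp,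
    S.Tp_Tp, e, z0]
  abel

theorem pr_sum (hA : S.CaseA) (f : P6) (v : V) : S.pr f 0 v + S.pr f 1 v + S.pr f 2 v = v := by
  have h1 := S.caseA_sum hA (S.A f v)
  have h2 := S.caseA_sum hA (S.A f (S.A f v))
  calc S.pr f 0 v + S.pr f 1 v + S.pr f 2 v
      = (v + v) + v + (S.A f v + S.T (S.A f v) + S.T (S.T (S.A f v))) +
          (S.A f (S.A f v) + S.T (S.A f (S.A f v)) + S.T (S.T (S.A f (S.A f v)))) := by
        simp only [pr]
        show v + S.A f v + S.A f (S.A f v) + (v + S.T (S.T (S.A f v)) + S.T (S.A f (S.A f v))) +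
          (v + S.T (S.A f v) + S.T (S.T (S.A f (S.A f v)))) = _
        abel
    _ = v := by rw [h1, h2, v_add_self, zero_add, add_zero, add_zero]

theorem pr_one (hA : S.CaseA) {f : P6} {v : V} (h1 : S.pr f 1 v = 0) (h2 : S.pr f 2 v = 0) :
    S.pr f 0 v = v := by
  have h := S.pr_sum hA f v
  rwa [h1, h2, add_zero, add_zero] at h

/-- Weights for the two three-cycles. -/
def Weight (i j : Fin 3) (v : V) : Prop := v ≠ 0 ∧ S.A wa v = S.Tp i v ∧ S.A wb v = S.Tp j v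

theorem weight_rot {i j : Fin 3} {v : V} (h : S.Weight i j v) :
    S.Weight (j + j) i (S.A Model.c0 v) := by
  obtain ⟨sa, sb, sc, -, -, -, -, e1, e2, -⟩ := w_facts
  obtain ⟨h0, ha, hb⟩ := h
  refine ⟨fun e => h0 (S.ρ_injective (S.R_six sc) (e.trans (S.A_zero sc).symm)), ?_, ?_⟩
  · rw [← S.A_mul sa sc, e1, S.A_mul sc (by rw [map_mul, sb, one_mul]), S.A_mul sb sb, hb, S.A_Tp sb, hb,
      S.Tp_Tp, S.A_Tp sc]
  · rw [← S.A_mul sb sc, e2, S.A_mul sc sa, ha, S.A_Tp sc]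

theorem exists_weight (hA : S.CaseA) : ∃ i j, i ≠ 0 ∧ ∃ v, S.Weight i j v := by
  obtain ⟨sa, sb, -, a3, b3, a1, hab, -⟩ := w_facts
  obtain ⟨u, hu⟩ : ∃ u, S.A wa u ≠ u := by
    by_contra h
    push Not at h
    exact a1 (congrArg Prod.snd (S.ρ_faithful (S.R_six sa) h))
  obtain ⟨i, hi, hne⟩ : ∃ i : Fin 3, i ≠ 0 ∧ S.pr wa i u ≠ 0 := by
    by_contra h
    push Not at h
    have e := S.pr_one hA (h 1 (by decide)) (h 2 (by decide))
    have e2 := S.A_pr sa a3 0 u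
    rw [e] at e2
    exact hu e2
  obtain ⟨j, hne'⟩ : ∃ j, S.pr wb j (S.pr wa i u) ≠ 0 := by
    by_contra h
    push Not at h
    have := S.pr_sum hA wb (S.pr wa i u)
    rw [h 0, h 1, h 2, add_zero, add_zero] at this
    exact hne this.symm
  refine ⟨i, j, hi, _, hne', ?_, S.A_pr sb b3 j _⟩
  have hu' := S.A_pr sa a3 i u
  have hcom : ∀ x, S.A wa (S.A wb x) = S.A wb (S.A wa x) := fun x => by
    rw [← S.A_mul sa sb, ← hab, S.A_mul sb sa]
  generalize S.pr wa i u = x at hu' ⊢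
  simp only [pr]
  rw [S.A_add sa, S.A_add sa, hu', S.A_Tp sa, S.A_Tp sa, hcom, hu', S.A_Tp sb, hcom, hcom, hu',
    S.A_Tp sb, S.A_Tp sb, S.Tp_add, S.Tp_add]
  simp only [S.Tp_Tp, add_comm i]

/-- A vector in standard position for one of the two kinds. -/
theorem exists_start (hA : S.CaseA) : ∃ (k : Bool) (v : V), v ≠ 0 ∧ S.A (Model.p0 k) v = S.T v ∧
    S.A (Model.c0 * Model.p0 k * Model.c0⁻¹) v = v := by
  obtain ⟨sa, sb, -, -, -, -, -, -, -, pf, pt, cf, ct⟩ := w_facts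
  have k0 : ∀ {v}, S.Weight 1 0 v → ∃ (k : Bool) (v : V), v ≠ 0 ∧ S.A (Model.p0 k) v = S.T v ∧
      S.A (Model.c0 * Model.p0 k * Model.c0⁻¹) v = v := fun {v} h =>
    ⟨false, v, h.1, by rw [pf]; exact h.2.1, by rw [pf, cf]; exact h.2.2⟩
  have k1 : ∀ {v}, S.Weight 2 2 v → ∃ (k : Bool) (v : V), v ≠ 0 ∧ S.A (Model.p0 k) v = S.T v ∧
      S.A (Model.c0 * Model.p0 k * Model.c0⁻¹) v = v := fun {v} h => by
    refine ⟨true, v, h.1, ?_, ?_⟩
    · rw [pt, S.A_mul sa sb, h.2.2, S.A_Tp sa, h.2.1, S.Tp_Tp]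
      rfl
    · rw [pt, ct, S.A_mul sb (by rw [map_mul, sa, one_mul]), S.A_mul sa sa, h.2.1, S.A_Tp sa, h.2.1,
        S.Tp_Tp, S.A_Tp sb, h.2.2, S.Tp_Tp]
      rfl
  obtain ⟨i, j, hi, v, h⟩ := S.exists_weight hA
  fin_cases i <;> fin_cases j
  · exact absurd rfl hi
  · exact absurd rfl hi
  · exact absurd rfl hi
  · exact k0 h
  · exact k1 (S.weight_rot (S.weight_rot h))
  · exact k1 (S.weight_rot (S.weight_rot (S.weight_rot h)))
  · exact k0 (S.weight_rot (S.weight_rot h))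
  · exact k1 (S.weight_rot h)
  · exact k1 h

end Setting

end CfsgLib.S3A6
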